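import Cfsg.Agent.Lib.Known.SL2Char.Normalizers

/-!
# Sylow 2-subgroups of `SL₂` over a field of odd order
-/

namespace CfsgLib.SL2Char

open Matrix CfsgLib.PLocal.SLTwo

variable {F : Type*} [Field F]

theorem mem_normalizer_of_conj_mem {G : Type*} [Group G] [Finite G] {S : Subgroup G} {n : G}
    (h : ∀ y ∈ S, n * y * n⁻¹ ∈ S) : n ∈ Subgroup.normalizer (S : Set G) := by
  have e : S.map (MulAut.conj n).toMonoidHom = S :=
    Subgroup.eq_of_le_of_card_ge (fun y hy => by
      obtain ⟨z, hz, rfl⟩ := Subgroup.mem_map.1 hy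
      exact h z hz) (le_of_eq (Subgroup.card_map_of_injective (MulAut.conj n).injective).symm)
  refine Subgroup.mem_normalizer_iff.2 fun y => ⟨h y, fun hy => ?_⟩
  rw [← e] at hy
  obtain ⟨z, hz, hzy⟩ := Subgroup.mem_map.1 hy
  rwa [← (MulAut.conj n).injective hzy]

/-- Two anticommuting square roots of `-1` are cycled by an element of order three. -/
theorem exists_cycle (h2 : (2 : F) ≠ 0) {t s : S2 F} (ht : t * t = -1) (hs : s * s = -1)
    (hts : s * t = -(t * s)) :
    ∃ w : S2 F, w ^ 3 = 1 ∧ w * s = t * w ∧ w * (t * s) = s * w := by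
  have cast : ∀ a b : S2 F, ((a * b : S2 F) : Matrix (Fin 2) (Fin 2) F) =
      (a : Matrix (Fin 2) (Fin 2) F) * (b : Matrix (Fin 2) (Fin 2) F) := fun a b => rfl
  set T := (t : Matrix (Fin 2) (Fin 2) F)
  set S := (s : Matrix (Fin 2) (Fin 2) F)
  have hT : T * T = -1 := by
    have h := congrArg (fun a : S2 F => (a : Matrix (Fin 2) (Fin 2) F)) ht
    simpa using h
  have hS : S * S = -1 := by
    have h := congrArg (fun a : S2 F => (a : Matrix (Fin 2) (Fin 2) F)) hs
    simpa using h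
  have hST : S * T = -(T * S) := by
    have h := congrArg (fun a : S2 F => (a : Matrix (Fin 2) (Fin 2) F)) hts
    simpa using h
  have htr : ∀ a : S2 F, a * a = -1 → (a : Matrix (Fin 2) (Fin 2) F).trace = 0 := fun a ha => by
    have e : a⁻¹ = -a := inv_eq_of_mul_eq_one_right (by rw [mul_neg, ha, neg_neg])
    have e0 := congrArg (fun y : S2 F => y.1 0 0) e
    simp only [i00, neg_entry] at e0
    rw [Matrix.trace_fin_two, e0, add_neg_cancel]
  set X := T + S + T * S with hXdef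
  have hXX : X * X = -((3 : F) • (1 : Matrix (Fin 2) (Fin 2) F)) := by
    have p1 : T * S * T = S := by rw [mul_assoc, hST, mul_neg, ← mul_assoc, hT]; simp
    have p2 : S * (T * S) = T := by rw [← mul_assoc, hST, neg_mul, mul_assoc, hS]; simp
    have p3 : T * S * (T * S) = -1 := by rw [← mul_assoc, p1, hS]
    have p4 : T * (T * S) = -S := by rw [← mul_assoc, hT]; simp
    have p5 : T * S * S = -T := by rw [mul_assoc, hS]; simp
    rw [hXdef]
    simp only [add_mul, mul_add, hT, hS, hST, p1, p2, p3, p4, p5]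
    rw [show (3 : F) = 1 + 1 + 1 by norm_num, add_smul, add_smul, one_smul]
    abel
  have hXtr : X.trace = 0 := by
    have h : (T * S).trace = -(T * S).trace := by
      rw [← Matrix.trace_neg, ← hST, Matrix.trace_mul_comm]
    have h' : (T * S).trace = 0 :=
      (mul_eq_zero.1 (show (2 : F) * (T * S).trace = 0 by linear_combination h)).resolve_left h2
    rw [hXdef, Matrix.trace_add, Matrix.trace_add, h', htr t ht, htr s hs, add_zero, add_zero]
  have hXdet : X.det = 3 := by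
    have e := congrFun (congrFun hXX 0) 0
    simp [Matrix.mul_apply, Fin.sum_univ_two] at e
    rw [Matrix.trace_fin_two] at hXtr
    rw [Matrix.det_fin_two]
    linear_combination X 0 0 * hXtr - e
  have hdet : ((-(1 / 2 : F)) • (1 : Matrix (Fin 2) (Fin 2) F) + (1 / 2 : F) • X).det = 1 := by
    rw [det_affine, hXtr, hXdet]
    field_simp
    norm_num
  have e1 : (X - 1) * S = T * (X - 1) := by
    have q1 : T * S * S = -T := by rw [mul_assoc, hS, mul_neg, mul_one]
    have q2 : T * (T * S) = -S := by rw [← mul_assoc, hT, neg_mul, one_mul]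
    rw [hXdef, sub_mul, add_mul, add_mul, one_mul, mul_sub, mul_add, mul_add, mul_one, hS, hT, q1,
      q2]
    abel
  have e2 : (X - 1) * (T * S) = S * (X - 1) := by
    have p1 : T * S * T = S := by rw [mul_assoc, hST, mul_neg, ← mul_assoc, hT, neg_mul, one_mul, neg_neg]
    have p2 : S * (T * S) = T := by rw [← mul_assoc, hST, neg_mul, mul_assoc, hS, mul_neg, mul_one, neg_neg]
    have p3 : T * S * (T * S) = -1 := by rw [← mul_assoc, p1, hS]
    have p4 : T * (T * S) = -S := by rw [← mul_assoc, hT, neg_mul, one_mul]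
    rw [hXdef, sub_mul, add_mul, add_mul, one_mul, mul_sub, mul_add, mul_add, mul_one, p2, p3, p4,
      hS, hST]
    abel
  obtain ⟨w, hw⟩ : ∃ w : S2 F, (w : Matrix (Fin 2) (Fin 2) F) = (1 / 2 : F) • (X - 1) :=
    ⟨⟨_, hdet⟩, show (-(1 / 2 : F)) • (1 : Matrix (Fin 2) (Fin 2) F) + (1 / 2 : F) • X = _ by
      rw [smul_sub, neg_smul, sub_eq_add_neg, add_comm]⟩
  refine ⟨w, Subtype.ext ?_, Subtype.ext ?_, Subtype.ext ?_⟩
  · rw [Matrix.SpecialLinearGroup.coe_pow, hw, Matrix.SpecialLinearGroup.coe_one]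
    have e : ((1 / 2 : F) • (X - 1)) ^ 3 = (1 / 8 : F) • ((X - 1) * (X - 1) * (X - 1)) := by
      simp only [pow_succ, pow_zero, one_mul, smul_mul_assoc, mul_smul_comm, smul_smul]
      congr 1
      rw [div_mul_div_comm, div_mul_div_comm]
      norm_num
    have e' : (X - 1) * (X - 1) * (X - 1) = (8 : F) • (1 : Matrix (Fin 2) (Fin 2) F) := by
      have h1 : (X - 1) * (X - 1) = -((2 : F) • (1 : Matrix (Fin 2) (Fin 2) F)) - (2 : F) • X := by
        rw [sub_mul, mul_sub, mul_sub, hXX, mul_one, one_mul, one_mul]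
        module
      rw [h1, sub_mul, neg_mul, smul_mul_assoc, one_mul, smul_mul_assoc, mul_sub, mul_one, hXX]
      module
    have h8 : (8 : F) ≠ 0 := by rw [show (8 : F) = 2 ^ 3 by norm_num]; exact pow_ne_zero _ h2
    rw [e, e', smul_smul, one_div_mul_cancel h8, one_smul]
  · rw [cast, cast, hw]
    show ((1 / 2 : F) • (X - 1)) * S = T * ((1 / 2 : F) • (X - 1))
    rw [smul_mul_assoc, mul_smul_comm, e1]
  · rw [cast, cast, cast, hw]
    show ((1 / 2 : F) • (X - 1)) * (T * S) = S * ((1 / 2 : F) • (X - 1))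
    rw [smul_mul_assoc, mul_smul_comm, e2]

variable [Fintype F]

theorem exists_torus_four_dvd (hodd : Odd (Fintype.card F)) :
    ∃ x w : S2 F, NonScalar x ∧ tr x ^ 2 ≠ 4 ∧ w * x * w⁻¹ = x⁻¹ ∧
      4 ∣ Nat.card (Subgroup.centralizer ({x} : Set (S2 F))) ∧
      ∃ m, Odd m ∧ Nat.card (S2 F) = m * (2 * Nat.card (Subgroup.centralizer ({x} : Set (S2 F)))) ∧
        ∀ k, (Fintype.card F % 8 = 1 ∨ Fintype.card F % 8 = 7) →
          Nat.card (Subgroup.centralizer ({x} : Set (S2 F))) = k → 8 ∣ k := by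
  obtain ⟨j, hj⟩ := hodd
  have hq : 1 < Fintype.card F := Fintype.one_lt_card
  have hG := CfsgLib.Classical.Two.card_SL_two (F := F)
  rcases Nat.even_or_odd j with ⟨i, hi⟩ | ⟨i, hi⟩
  · have hqi : Fintype.card F = 4 * i + 1 := by omega
    obtain ⟨a, ha⟩ := exists_unit_sq_ne_one (F := F) (by omega)
    have hT : Nat.card (Subgroup.centralizer ({diagS a} : Set (S2 F))) = 4 * i := by
      rw [card_centralizer_diag rfl rfl ha, Nat.card_eq_fintype_card, hqi]
      omega
    refine ⟨diagS a, weylS, nonScalar_diag rfl rfl ha, tr_sq_ne_diag rfl rfl ha,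
      weylS_conj_diag rfl rfl, hT ▸ Dvd.intro _ rfl, (4 * i + 1) * (2 * i + 1),
      ⟨4 * i * i + 3 * i, by ring⟩, ?_, fun k hk e => ?_⟩
    · rw [hG, hT, card_eq_succ_mul, hqi, Nat.add_sub_cancel]
      ring
    · rw [hT] at e
      omega
  · have hqi : Fintype.card F = 4 * i + 3 := by omega
    obtain ⟨x, hx⟩ := exists_elliptic_SL (F := F)
    obtain ⟨w, hw⟩ := exists_inverter hx
    have hT : Nat.card (Subgroup.centralizer ({x} : Set (S2 F))) = 4 * (i + 1) := by
      rw [card_centralizer_SL hx]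
      omega
    refine ⟨x, w, nonScalar_of_elliptic hx, tr_sq_ne_of_elliptic hx, hw, hT ▸ Dvd.intro _ rfl,
      (4 * i + 3) * (2 * i + 1), ⟨4 * i * i + 5 * i + 1, by ring⟩, ?_, fun k hk e => ?_⟩
    · rw [hG, hT, card_eq_succ_mul, hqi, show 4 * i + 3 - 1 = 4 * i + 2 by omega]
      ring
    · rw [hT] at e
      omega

/-- A Sylow 2-subgroup lies in the normalizer of a torus of order divisible by four, and contains
an element of the full 2-part order of that torus. -/
theorem sylow_two_data (hodd : Odd (Fintype.card F)) (S : Sylow 2 (S2 F)) :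
    ∃ t s : S2 F, t ∈ S ∧ s ∈ S ∧ NonScalar t ∧ tr t ^ 2 ≠ 4 ∧ s * t * s⁻¹ = t⁻¹ ∧
      4 ∣ orderOf t ∧ Nat.card S = 2 * orderOf t ∧
      ((Fintype.card F % 8 = 1 ∨ Fintype.card F % 8 = 7) → 8 ∣ orderOf t) ∧
      ((Fintype.card F % 8 = 3 ∨ Fintype.card F % 8 = 5) → orderOf t = 4) ∧
      ∀ y ∈ S, y ∈ Subgroup.zpowers t ∨ (y * y = -1 ∧ y * t * y⁻¹ = t⁻¹ ∧ y * s⁻¹ ∈ Subgroup.zpowers t) := by
  have h2 : (2 : F) ≠ 0 := Ring.two_ne_zero fun h => by
    have := FiniteField.even_card_iff_char_two.1 h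
    rw [Nat.odd_iff] at hodd
    omega
  obtain ⟨x₀, w₀, hx₀, hd₀, hw₀, h4, m, hm, hG, h8⟩ := exists_torus_four_dvd hodd
  set N₀ := Subgroup.normalizer (Subgroup.centralizer ({x₀} : Set (S2 F)) : Set (S2 F)) with hN₀
  obtain ⟨Q⟩ : Nonempty (Sylow 2 N₀) := inferInstance
  have hQ' : ¬ 2 ∣ ((Q : Subgroup N₀).map N₀.subtype).index := by
    rw [Subgroup.index_map_subtype]
    refine Nat.prime_two.not_dvd_mul Q.not_dvd_index fun hdvd => ?_
    have h := N₀.index_mul_card
    rw [hG, card_normalizer h2 hx₀ hd₀ hw₀] at h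
    rw [Nat.eq_of_mul_eq_mul_right (Nat.mul_pos two_pos Nat.card_pos) h] at hdvd
    exact (Nat.not_even_iff_odd.2 hm) (even_iff_two_dvd.2 hdvd)
  obtain ⟨h, hh⟩ := MulAction.exists_smul_eq (S2 F) ((Q.isPGroup'.map _).toSylow hQ') S
  set x := h * x₀ * h⁻¹ with hxdef
  set T := Subgroup.centralizer ({x} : Set (S2 F)) with hT
  have hTmap : (Subgroup.centralizer ({x₀} : Set (S2 F))).map (MulAut.conj h).toMonoidHom = T :=
    map_conj_centralizer h x₀
  have hTcard : Nat.card T = Nat.card (Subgroup.centralizer ({x₀} : Set (S2 F))) := by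
    rw [← hTmap, Subgroup.card_map_of_injective (MulAut.conj h).injective]
  have hx : NonScalar x := nonScalar_conj hx₀ h
  have hd : tr x ^ 2 ≠ 4 := by rwa [hxdef, tr_conj]
  have hSN : (S : Subgroup (S2 F)) ≤ Subgroup.normalizer (T : Set (S2 F)) := by
    rw [← hh, ← hTmap]
    refine le_trans (Subgroup.map_mono (Subgroup.map_subtype_le _)) ?_
    rintro _ ⟨n, hn, rfl⟩
    refine mem_normalizer_of_conj_mem fun y hy => ?_
    obtain ⟨z, hz, rfl⟩ := Subgroup.mem_map.1 hy
    refine Subgroup.mem_map.2 ⟨n * z * n⁻¹, (Subgroup.mem_normalizer_iff.1 hn z).1 hz, ?_⟩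
    show MulAut.conj h (n * z * n⁻¹) = MulAut.conj h n * MulAut.conj h z * (MulAut.conj h n)⁻¹
    rw [map_mul, map_mul, map_inv]
  obtain ⟨a, b, hb, hab⟩ := Nat.exists_eq_pow_mul_and_not_dvd (Nat.card_pos (α := T)).ne' 2 (by norm_num)
  have hS : Nat.card S = 2 ^ (a + 1) := by
    rw [S.card_eq_multiplicity, hG, ← hTcard, hab,
      show m * (2 * (2 ^ a * b)) = 2 ^ (a + 1) * (m * b) by ring]
    congr 1
    have hmb : ¬ 2 ∣ m * b :=
      Nat.prime_two.not_dvd_mul (fun e => (Nat.not_even_iff_odd.2 hm) (even_iff_two_dvd.2 e)) hb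
    have hmb0 : m * b ≠ 0 := fun e => hmb (by rw [e]; exact dvd_zero 2)
    rw [Nat.factorization_mul (pow_ne_zero _ two_ne_zero) hmb0]
    simp [Nat.prime_two.factorization_self, Nat.factorization_eq_zero_of_not_dvd hmb]
  obtain ⟨s, hsS, hsT⟩ : ∃ s ∈ S, s ∉ T := by
    by_contra hcon
    push Not at hcon
    have h' : Nat.card S ∣ Nat.card T := Subgroup.card_dvd_of_le hcon
    rw [hS, hab, pow_succ] at h'
    exact hb (Nat.dvd_of_mul_dvd_mul_left (pow_pos two_pos a) h')
  have hinv : ∀ y ∈ S, y ∉ T → ∀ u ∈ T, y * u * y⁻¹ = u⁻¹ := fun y hy hyT u hu =>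
    conj_eq_inv hx ((mem_normalizer_cases h2 hx hd (hSN hy)).resolve_left hyT) hu
  have hprod : ∀ y ∈ S, ∀ z ∈ S, y ∉ T → z ∉ T → y * z ∈ T := fun y hy z hz hyT hzT => by
    rw [hT, Subgroup.mem_centralizer_singleton_iff]
    have e1 := hinv z hz hzT x (Subgroup.mem_centralizer_singleton_iff.2 rfl)
    have e2 := hinv y hy hyT _ (inv_mem (Subgroup.mem_centralizer_singleton_iff.2 rfl : x ∈ T))
    rw [inv_inv] at e2
    calc y * z * x = y * (z * x * z⁻¹) * y⁻¹ * (y * z) := by group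
      _ = x * (y * z) := by rw [e1, e2]
  let R := T.subgroupOf (S : Subgroup (S2 F))
  have hR : R.index = 2 := by
    refine Subgroup.index_eq_two_iff.2 ⟨⟨s, hsS⟩, fun y => ?_⟩
    simp only [R, Subgroup.mem_subgroupOf, Subgroup.coe_mul]
    by_cases hy : (y : S2 F) ∈ T
    · exact Or.inr ⟨hy, fun hcon => hsT (by simpa using mul_mem (inv_mem hy) hcon)⟩
    · exact Or.inl ⟨hprod _ y.2 _ hsS hy hsT, hy⟩
  have : IsCyclic T := Classical.Two.isCyclic_centralizer hx hd
  let incl : R →* T := (((S : Subgroup (S2 F)).subtype.comp R.subtype).codRestrict T fun y => y.2)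
  have : IsCyclic R := isCyclic_of_injective incl fun y z e =>
    Subtype.ext (Subtype.ext (congrArg (fun v : T => (v : S2 F)) e))
  obtain ⟨t, ht⟩ := IsCyclic.exists_ofOrder_eq_natCard (α := R)
  have hRcard : Nat.card R = 2 ^ a := by
    have h' := R.index_mul_card
    rw [hR, hS, pow_succ'] at h'
    exact Nat.eq_of_mul_eq_mul_left two_pos h'
  have htord : orderOf ((t : S) : S2 F) = 2 ^ a := by
    rw [Subgroup.orderOf_coe, Subgroup.orderOf_coe, ht, hRcard]
  have hzt : ∀ y ∈ S, y ∈ T → y ∈ Subgroup.zpowers ((t : S) : S2 F) := fun y hy hyT => by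
    have hgen : Subgroup.zpowers t = ⊤ :=
      Subgroup.eq_top_of_card_eq _ (by rw [Nat.card_zpowers, ht])
    obtain ⟨i, hi⟩ := Subgroup.mem_zpowers_iff.1
      (hgen ▸ Subgroup.mem_top (⟨⟨y, hy⟩, hyT⟩ : R) : (⟨⟨y, hy⟩, hyT⟩ : R) ∈ Subgroup.zpowers t)
    exact ⟨i, by simpa using congrArg (fun v : R => ((v : S) : S2 F)) hi⟩
  have h4a : 4 ∣ 2 ^ a := by
    have h4' : 4 ∣ 2 ^ a * b := hab ▸ hTcard ▸ h4
    exact (Nat.Coprime.pow_left 2 ((Nat.prime_two.coprime_iff_not_dvd).2 hb) :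
      Nat.Coprime (2 ^ 2) b).dvd_of_dvd_mul_right h4'
  have htns : NonScalar ((t : S) : S2 F) := by
    refine nonScalar_of_ne (fun e => ?_) (fun e => ?_)
    · rw [e, orderOf_one] at htord
      rw [← htord] at h4a
      norm_num at h4a
    · rw [e] at htord
      have h' := orderOf_dvd_of_pow_eq_one (CfsgLib.PLocal.SLTwo.neg_one_sq (K := F))
      rw [htord] at h'
      have := Nat.le_of_dvd two_pos h'
      have := Nat.le_of_dvd (pow_pos two_pos a) h4a
      omega
  have htC : Subgroup.centralizer ({((t : S) : S2 F)} : Set (S2 F)) = T :=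
    centralizer_eq_of_commute hx htns (Subgroup.mem_centralizer_singleton_iff.1 t.2).symm
  have htd : tr ((t : S) : S2 F) ^ 2 ≠ 4 := by
    intro e
    obtain ⟨p, hp⟩ := CharP.exists F
    have : Fact p.Prime := ⟨CharP.char_is_prime F p⟩
    have h' : (tr ((t : S) : S2 F) - 2) * (tr ((t : S) : S2 F) + 2) = 0 := by linear_combination e
    have hp2 : ¬ 2 ∣ p := fun e2 => h2 (by
      have := (Nat.prime_dvd_prime_iff_eq Nat.prime_two (Fact.out : p.Prime)).1 e2
      subst this
      exact CharP.cast_eq_zero F 2)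
    have key : ((t : S) : S2 F) ^ (2 * p) = 1 := by
      rcases mul_eq_zero.1 h' with e1 | e1
      · rw [mul_comm, pow_mul, pow_p_of_trace_two (p := p) (sub_eq_zero.1 e1), one_pow]
      · have hn : tr (-((t : S) : S2 F)) = 2 := by
          simp only [tr, neg_entry] at e1 ⊢
          linear_combination -e1
        rw [← (even_two_mul p).neg_pow, mul_comm, pow_mul, pow_p_of_trace_two (p := p) hn, one_pow]
    have h'' := orderOf_dvd_of_pow_eq_one key
    rw [htord] at h''
    have h''' := dvd_trans h4a h''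
    exact hp2 (Nat.dvd_of_mul_dvd_mul_left two_pos (show 2 * 2 ∣ 2 * p from h'''))
  refine ⟨((t : S) : S2 F), s, t.1.2, hsS, htns, htd, hinv s hsS hsT _ t.2, htord ▸ h4a,
    by rw [hS, htord, pow_succ'], fun hq => ?_, fun hq => ?_, fun y hy => ?_⟩
  · have h8' : 8 ∣ 2 ^ a * b := hab ▸ hTcard ▸ h8 _ hq rfl
    rw [htord]
    exact (Nat.Coprime.pow_left 3 ((Nat.prime_two.coprime_iff_not_dvd).2 hb) :
      Nat.Coprime (2 ^ 3) b).dvd_of_dvd_mul_right h8'
  · rw [htord]
    obtain ⟨i, hi⟩ := h4a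
    by_contra hne
    have h8' : 8 ∣ 2 ^ a := by
      have ha : 3 ≤ a := by
        by_contra ha'
        interval_cases a <;> omega
      exact pow_dvd_pow 2 ha
    have hG' := CfsgLib.Classical.Two.card_SL_two (F := F)
    rw [hG, ← hTcard, hab] at hG'
    obtain ⟨i', hi'⟩ := h8'
    rw [hi'] at hG'
    obtain ⟨j, hj | hj⟩ : ∃ j, Fintype.card F = 8 * j + 3 ∨ Fintype.card F = 8 * j + 5 :=
      ⟨Fintype.card F / 8, by omega⟩
    · rw [card_eq_succ_mul, hj, show 8 * j + 3 - 1 = 8 * j + 2 by omega] at hG'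
      have : (2 : ℕ) ∣ (8 * j + 3) * ((2 * j + 1) * (4 * j + 1)) := ⟨m * i' * b, by linarith⟩
      revert this
      simp [Nat.dvd_iff_mod_eq_zero, Nat.add_mod, Nat.mul_mod]
    · rw [card_eq_succ_mul, hj, show 8 * j + 5 - 1 = 8 * j + 4 by omega] at hG'
      have : (2 : ℕ) ∣ (8 * j + 5) * ((4 * j + 3) * (2 * j + 1)) := ⟨m * i' * b, by linarith⟩
      revert this
      simp [Nat.dvd_iff_mod_eq_zero, Nat.add_mod, Nat.mul_mod]
  · by_cases hyT : y ∈ T
    · exact Or.inl (hzt y hy hyT)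
    · refine Or.inr ⟨sq_eq_neg_one h2 hx hd (hSN hy) hyT, hinv y hy hyT _ t.2,
        hzt _ (mul_mem hy (inv_mem hsS)) (hprod y hy _ (inv_mem hsS) hyT fun e => hsT ?_)⟩
      simpa using inv_mem e

end CfsgLib.SL2Char
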