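import Mathlib
import Cfsg.Prelude.Def_Characters
import Cfsg.Agent.Lib.Char.Complete

/-!
# Counting tools for character tables
-/

namespace CfsgLib.SL2Char

open CfsgLib.Char

theorem card_hom_units (C : Type*) [Group C] [Finite C] [IsCyclic C] :
    Nat.card (C →* ℂˣ) = Nat.card C := by
  let _ : CommGroup C := IsCyclic.commGroup
  exact CommGroup.card_monoidHom_of_hasEnoughRootsOfUnity C ℂ

/-- The homomorphisms fixed by the `q`-th power. -/
theorem card_hom_pow_eq (C : Type*) [Group C] [Finite C] [IsCyclic C] {q : ℕ} (hq : 1 ≤ q) :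
    Nat.card {θ : C →* ℂˣ // θ = θ ^ q} = (Nat.card C).gcd (q - 1) := by
  let _ : CommGroup C := IsCyclic.commGroup
  obtain ⟨e⟩ := CommGroup.monoidHom_mulEquiv_of_hasEnoughRootsOfUnity C ℂ
  have : IsCyclic (C →* ℂˣ) := isCyclic_of_surjective e.symm e.symm.surjective
  have : Finite (C →* ℂˣ) := Finite.of_equiv C e.symm.toEquiv
  rw [← Nat.card_congr e.toEquiv, ← IsCyclic.card_powMonoidHom_ker (G := C →* ℂˣ) (q - 1)]
  refine Nat.card_congr (Equiv.subtypeEquivRight fun θ => ?_)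
  rw [MonoidHom.mem_ker, powMonoidHom_apply]
  obtain ⟨m, rfl⟩ : ∃ m, q = m + 1 := ⟨q - 1, by omega⟩
  rw [Nat.add_sub_cancel, show θ ^ (m + 1) = θ ^ m * θ from MonoidHom.ext fun c => pow_succ _ _]
  exact right_eq_mul (a := θ ^ m) (b := θ)

/-- A map that identifies exactly `x` with `σ x`. -/
theorem two_mul_card_image {α β : Type*} [DecidableEq β] {s : Finset α} {f : α → β} {σ : α → α}
    (hσs : ∀ x ∈ s, σ x ∈ s) (hσ : ∀ x ∈ s, σ x ≠ x)
    (h : ∀ x ∈ s, ∀ y ∈ s, (f y = f x ↔ y = x ∨ y = σ x)) :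
    2 * (s.image f).card = s.card := by
  classical
  rw [Finset.card_eq_sum_card_image f s, mul_comm, ← smul_eq_mul, ← Finset.sum_const]
  refine Finset.sum_congr rfl fun b hb => ?_
  obtain ⟨x, hx, rfl⟩ := Finset.mem_image.1 hb
  rw [show s.filter (fun y => f y = f x) = {x, σ x} from Finset.ext fun y => by
    simp only [Finset.mem_filter, Finset.mem_insert, Finset.mem_singleton]
    exact ⟨fun hy => (h x hx y hy.1).1 hy.2, fun hy => by
      have hys : y ∈ s := by
        rcases hy with rfl | rfl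
        · exact hx
        · exact hσs x hx
      exact ⟨hys, (h x hx y hys).2 hy⟩⟩]
  exact (Finset.card_pair fun e => hσ x hx e.symm).symm

/-- Irreducible characters whose squared degrees add up to the group order are all of them. -/
theorem irr_exhaust {G : Type*} [Group G] [Finite G] (S : Finset (G → ℂ))
    (hS : ∀ f ∈ S, Cfsg.IsIrrCharacter G f) (h : ∑ f ∈ S, f 1 ^ 2 = (Nat.card G : ℂ))
    {χ : G → ℂ} (hχ : Cfsg.IsIrrCharacter G χ) : χ ∈ S := by
  classical
  have := Fintype.ofFinite G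
  have := Fintype.ofFinite (Cfsg.IrrCharacter G)
  by_contra hn
  let A : Finset (G → ℂ) := Finset.univ.image fun ψ : Cfsg.IrrCharacter G => (ψ : G → ℂ)
  have hall : ∑ f ∈ A, f 1 ^ 2 = (Nat.card G : ℂ) := by
    rw [Finset.sum_image Subtype.val_injective.injOn, ← sum_sq_degree (G := G)]
  have hmem : ∀ f, f ∈ A ↔ Cfsg.IsIrrCharacter G f := fun f => by
    simp only [A, Finset.mem_image, Finset.mem_univ, true_and]
    exact ⟨fun ⟨ψ, e⟩ => e ▸ ψ.2, fun hf => ⟨⟨f, hf⟩, rfl⟩⟩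
  have hdeg : ∀ f, Cfsg.IsIrrCharacter G f → ∃ n : ℕ, 0 < n ∧ f 1 = n := fun f hf => IsIrr.exists_degree hf
  have hsub : S ⊆ A := fun f hf => (hmem f).2 (hS f hf)
  have h0 : ∑ f ∈ A \ S, f 1 ^ 2 = 0 := by
    have := Finset.sum_sdiff (f := fun f : G → ℂ => f 1 ^ 2) hsub
    rw [h, hall] at this
    linear_combination this
  have hnat : ∀ f : G → ℂ, ∃ m : ℕ, Cfsg.IsIrrCharacter G f → f 1 ^ 2 = (m : ℂ) ∧ 0 < m := fun f => by
    by_cases hf : Cfsg.IsIrrCharacter G f
    · obtain ⟨n, hn, e⟩ := hdeg f hf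
      exact ⟨n ^ 2, fun _ => ⟨by rw [e]; push_cast; ring, pow_pos hn 2⟩⟩
    · exact ⟨0, fun h' => absurd h' hf⟩
  choose m hm using hnat
  rw [Finset.sum_congr rfl fun f hf => (hm f ((hmem f).1 (Finset.mem_sdiff.1 hf).1)).1,
    ← Nat.cast_sum, Nat.cast_eq_zero, Finset.sum_eq_zero_iff] at h0
  have := h0 χ (Finset.mem_sdiff.2 ⟨(hmem χ).2 hχ, hn⟩)
  have := (hm χ hχ).2
  omega

/-- Cutting out a set of irreducible characters. -/
theorem card_irr_subtype {G : Type*} [Group G] (S : Finset (G → ℂ)) (p : (G → ℂ) → Prop)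
    (h : ∀ f, f ∈ S ↔ Cfsg.IsIrrCharacter G f ∧ p f) :
    Nat.card {χ : Cfsg.IrrCharacter G // p (χ : G → ℂ)} = S.card := by
  rw [← Nat.card_eq_finsetCard]
  exact Nat.card_congr
    { toFun := fun χ => ⟨χ.1.1, (h _).2 ⟨χ.1.2, χ.2⟩⟩
      invFun := fun f => ⟨⟨f.1, ((h _).1 f.2).1⟩, ((h _).1 f.2).2⟩
      left_inv := fun χ => rfl
      right_inv := fun f => rfl }

/-- A list of all irreducible characters counts the classes. -/
theorem card_conjClasses_eq {G : Type*} [Group G] [Finite G] (S : Finset (G → ℂ))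
    (hS : ∀ f, f ∈ S ↔ Cfsg.IsIrrCharacter G f) : Nat.card (ConjClasses G) = S.card := by
  rw [← card_irrCharacter, ← card_irr_subtype S (fun _ => True) (fun f => by rw [and_true]; exact hS f)]
  exact (Nat.card_congr (Equiv.subtypeUnivEquiv fun _ => trivial)).symm

end CfsgLib.SL2Char
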