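import Cfsg.Agent.Lib.Known.SL2Char.CuspidalInner
import Cfsg.Agent.Lib.Known.SL2Char.Families

/-!
# The irreducible characters of `GL₂`
-/

namespace CfsgLib.SL2Char

open Matrix CfsgLib.Char
open scoped ComplexConjugate

variable {F : Type*} [Field F] [Fintype F] [DecidableEq F] [Fintype (G2 F)]

/-- `α ∘ det`. -/
noncomputable def detChar (α : MulChar F ℂ) (g : G2 F) : ℂ := α (MGL g).det

/-- The principal series. -/
noncomputable def prGL (α β : MulChar F ℂ) : G2 F → ℂ :=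
  Cfsg.indFun (Cfsg.upperTriangularGL 2 F) fun b => α (MGL (b : G2 F) 0 0) * β (MGL (b : G2 F) 1 1)

/-- The twists of the Steinberg character. -/
noncomputable def stGL (α : MulChar F ℂ) : G2 F → ℂ := prGL α α - detChar α

theorem prGL_upper (α β : MulChar F ℂ) {g : G2 F} (hg : MGL g 1 0 = 0) :
    prGL α β g = α (MGL g 0 0) * β (MGL g 1 1) + if MGL g 0 0 = MGL g 1 1 then
      (if MGL g 0 1 = 0 then (Fintype.card F : ℂ) * (α (MGL g 0 0) * β (MGL g 1 1)) else 0)
      else α (MGL g 1 1) * β (MGL g 0 0) :=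
  indFun_apply_upper MGL mem_upperGL MGL_repGL (fun a e => α a * β e) hg

theorem prGL_elliptic (α β : MulChar F ℂ) {g : G2 F} (hg : Elliptic (MGL g)) : prGL α β g = 0 :=
  indFun_apply_irreducible MGL mem_upperGL MGL_repGL (fun a e => α a * β e) hg

theorem prGL_one (α β : MulChar F ℂ) : prGL α β 1 = (Fintype.card F : ℂ) + 1 := by
  rw [prGL_upper α β (by simp)]
  simp [add_comm]

theorem detChar_one (α : MulChar F ℂ) : detChar α 1 = 1 := by simp [detChar]

theorem stGL_one (α : MulChar F ℂ) : stGL α 1 = (Fintype.card F : ℂ) := by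
  simp [stGL, prGL_one, detChar_one]

/-- A standard transvection. -/
abbrev u1GL : G2 F := Matrix.SpecialLinearGroup.toGL (PLocal.SLTwo.U 1)

theorem detChar_u (α : MulChar F ℂ) : detChar α (u1GL : G2 F) = 1 := by
  simp [detChar, PLocal.SLTwo.U, Matrix.det_fin_two_of]

theorem prGL_u (α β : MulChar F ℂ) : prGL α β (u1GL : G2 F) = 1 := by
  rw [prGL_upper α β (by simp)]
  simp

theorem stGL_u (α : MulChar F ℂ) : stGL α (u1GL : G2 F) = 0 := by
  simp [stGL, prGL_u, detChar_u]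

theorem isIrr_detChar (α : MulChar F ℂ) : Cfsg.IsIrrCharacter (G2 F) (detChar α) := by
  convert isIrrCharacter_linear (α.toUnitHom.comp Matrix.GeneralLinearGroup.det) using 1
  funext g
  simp [detChar]

theorem detChar_injective : Function.Injective (detChar : MulChar F ℂ → G2 F → ℂ) := fun α β h => by
  ext a
  have := congrFun h (Matrix.GeneralLinearGroup.mkOfDetNeZero !![(a : F), 0; 0, 1]
    (by simp [Matrix.det_fin_two_of]))
  simpa [detChar, Matrix.det_fin_two_of] using this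

open scoped _root_.Classical in
theorem classInner_prGL_detChar (α β : MulChar F ℂ) :
    Cfsg.classInner (prGL α α) (detChar β) = if α = β then 1 else 0 := by
  have := Fintype.ofFinite (Cfsg.upperTriangularGL 2 F)
  rw [prGL, frobenius_reciprocity _ _ (IsIrr.isClassFunction (isIrr_detChar β)), Cfsg.classInner,
    Nat.card_eq_fintype_card, Fintype.card_congr borelGL, ← borelGL.symm.sum_comp,
    Fintype.sum_prod_type, Fintype.card_prod]
  have e : ∀ (d : Fˣ × Fˣ) (u : F), detChar β ((borelGL.symm (d, u) : Cfsg.upperTriangularGL 2 F) : G2 F) =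
      β (d.1 : F) * β (d.2 : F) := fun d u => by
    rw [detChar, det_upper ((mem_upperGL _).1 (SetLike.coe_mem _)), map_mul,
      (borelGL_symm d u).1, (borelGL_symm d u).2.1]
  simp only [e, (borelGL_symm _ _).1, (borelGL_symm _ _).2.1, Finset.sum_const, Finset.card_univ,
    nsmul_eq_mul, ← Finset.mul_sum]
  have e2 : ∑ d : Fˣ × Fˣ, α (d.1 : F) * α (d.2 : F) * conj (β (d.1 : F) * β (d.2 : F)) =
      (∑ a : Fˣ, α (a : F) * conj (β (a : F))) * ∑ a : Fˣ, α (a : F) * conj (β (a : F)) := by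
    rw [Finset.sum_mul_sum, Fintype.sum_prod_type]
    refine Finset.sum_congr rfl fun a _ => Finset.sum_congr rfl fun b _ => ?_
    rw [map_mul]; ring
  rw [e2, sum_units_mul_conj, Fintype.card_prod]
  have : (Fintype.card Fˣ : ℂ) ≠ 0 := Nat.cast_ne_zero.2 Fintype.card_ne_zero
  have : (Fintype.card F : ℂ) ≠ 0 := Nat.cast_ne_zero.2 Fintype.card_ne_zero
  push_cast
  split_ifs <;> field_simp <;> ring

open scoped _root_.Classical in
theorem classInner_stGL (α β : MulChar F ℂ) :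
    Cfsg.classInner (stGL α) (stGL β) = if α = β then 1 else 0 := by
  have hdet : Cfsg.classInner (detChar α) (detChar β) = if α = β then 1 else 0 := by
    by_cases h : α = β
    · subst h
      rw [if_pos rfl]
      exact classInner_irr_self (⟨_, isIrr_detChar α⟩ : Cfsg.IrrCharacter (G2 F))
    · rw [if_neg h]
      exact classInner_irr_of_ne (χ := (⟨_, isIrr_detChar α⟩ : Cfsg.IrrCharacter (G2 F)))
        (ψ := ⟨_, isIrr_detChar β⟩) fun e => h (detChar_injective (congrArg Subtype.val e))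
  have h1 := classInner_prGL_detChar α β
  have h2 : Cfsg.classInner (detChar α) (prGL β β) = if β = α then 1 else 0 := by
    rw [← classInner_conj_symm, classInner_prGL_detChar]
    split_ifs <;> simp
  have h3 : Cfsg.classInner (prGL α α) (prGL β β) = _ := classInner_principalGL α α β β
  rw [stGL, stGL, classInner_sub_left, classInner_sub_right, classInner_sub_right, h1, h2, h3, hdet]
  by_cases h : α = β
  · subst h; simp
  · simp [h, Ne.symm h]

theorem isIrr_stGL (α : MulChar F ℂ) : Cfsg.IsIrrCharacter (G2 F) (stGL α) := by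
  classical
  refine IsGen.isIrr_of_norm_one (IsGen.sub (IsGen.of_isCharacter
    (isCharacter_indFun _ (isCharacter_borelGL α α))) (IsGen.of_irr (isIrr_detChar α))) ?_ ?_
  · exact (classInner_stGL α α).trans (if_pos rfl)
  · show 0 < (stGL α 1).re
    rw [stGL_one, Complex.natCast_re]
    exact_mod_cast Fintype.card_pos

theorem isIrr_prGL {α β : MulChar F ℂ} (h : α ≠ β) : Cfsg.IsIrrCharacter (G2 F) (prGL α β) := by
  classical
  have := Fintype.ofFinite (PLocal.SLTwo.S2 F)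
  refine IsChar.isIrr_of_classInner_eq_one (isCharacter_indFun _ (isCharacter_borelGL α β)) ?_
  exact (classInner_principalGL α β α β).trans (by simp [h])

theorem prGL_eq_iff {α β α' β' : MulChar F ℂ} (h : α ≠ β) :
    prGL α' β' = prGL α β ↔ (α' = α ∧ β' = β) ∨ (α' = β ∧ β' = α) := by
  classical
  have := Fintype.ofFinite (PLocal.SLTwo.S2 F)
  constructor
  · intro e
    have h1 : Cfsg.classInner (prGL α' β') (prGL α β) = 1 := by
      rw [e]; exact classInner_irr_self (⟨_, isIrr_prGL h⟩ : Cfsg.IrrCharacter (G2 F))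
    by_contra hn
    push Not at hn
    have h2 : Cfsg.classInner (prGL α' β') (prGL α β) = _ := classInner_principalGL α' β' α β
    rw [if_neg fun h => hn.1 h.1 h.2, if_neg fun h => hn.2 h.1 h.2, h1] at h2
    simp at h2
  · rintro (⟨rfl, rfl⟩ | ⟨rfl, rfl⟩)
    · rfl
    · refine eq_of_classInner_eq_self
        (classInner_irr_self (⟨_, isIrr_prGL (Ne.symm h)⟩ : Cfsg.IrrCharacter (G2 F)))
        (classInner_irr_self (⟨_, isIrr_prGL h⟩ : Cfsg.IrrCharacter (G2 F))) ?_
      exact (classInner_principalGL _ _ _ _).trans (by simp [h, Ne.symm h])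

section Cusp

variable {g₀ : G2 F} (hg₀ : Elliptic (g₀ : Matrix (Fin 2) (Fin 2) F)) {ψ : AddChar F ℂ} (hψ : ψ ≠ 1)
  [Fintype (Orbits (⊤ : Subgroup Fˣ))]

omit [Fintype F] [DecidableEq F] [Fintype (G2 F)] [Fintype (Orbits (⊤ : Subgroup Fˣ))] in
theorem torus_GL : torus (MonoidHom.id (G2 F)) g₀ = Subgroup.centralizer ({g₀} : Set (G2 F)) := rfl

/-- The cuspidal characters of `GL₂`. -/
noncomputable abbrev cuspGL (ψ : AddChar F ℂ) (θ : torus (MonoidHom.id (G2 F)) g₀ →* ℂˣ) :
    G2 F → ℂ :=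
  emb_GL.cusp ψ θ

include hg₀ hψ

theorem cuspGL_u (θ : torus (MonoidHom.id (G2 F)) g₀ →* ℂˣ) : cuspGL ψ θ (u1GL : G2 F) = -1 := by
  classical
  have := Fintype.ofFinite (diags (⊤ : Subgroup Fˣ))
  have hu : (u1GL : G2 F) ∈ zu (MonoidHom.id (G2 F)) := emb_GL.mem_zu.2 (by simp)
  have hA : emb_GL.zuA ⟨u1GL, hu⟩ = 1 := Subtype.ext (Units.ext (by simp [Emb.zuA_apply]))
  rw [cuspGL, emb_GL.cusp_unipotent hg₀ θ hψ ⟨u1GL, hu⟩ (by simp [Emb.zuT]), hA, map_one, map_one,
    Units.val_one]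

theorem cuspGL_eq_iff {θ θ' : torus (MonoidHom.id (G2 F)) g₀ →* ℂˣ} (hθ : θ ≠ θ ^ Fintype.card F) :
    cuspGL ψ θ' = cuspGL ψ θ ↔ θ' = θ ∨ θ' = θ ^ Fintype.card F := by
  classical
  have := Fintype.ofFinite (diags (⊤ : Subgroup Fˣ))
  constructor
  · intro e
    by_contra hn
    push Not at hn
    have h1 := emb_GL.classInner_cusp hg₀ hψ θ' θ
    rw [if_neg hn.1, if_neg hn.2, add_zero] at h1
    change Cfsg.classInner (cuspGL ψ θ') (cuspGL ψ θ) = 0 at h1
    rw [e] at h1
    have h2 : Cfsg.classInner (cuspGL ψ θ) (cuspGL ψ θ) = 1 :=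
      classInner_irr_self (⟨_, emb_GL.isIrr_cusp hg₀ hψ θ hθ⟩ : Cfsg.IrrCharacter (G2 F))
    exact one_ne_zero (h2.symm.trans h1)
  · rintro (rfl | rfl)
    · rfl
    · have hpp := emb_GL.hom_pow_pow hg₀ θ
      have hne : θ ^ Fintype.card F ≠ (θ ^ Fintype.card F) ^ Fintype.card F := by
        rw [hpp]; exact Ne.symm hθ
      refine eq_of_classInner_eq_self
        (classInner_irr_self (⟨_, emb_GL.isIrr_cusp hg₀ hψ _ hne⟩ : Cfsg.IrrCharacter (G2 F)))
        (classInner_irr_self (⟨_, emb_GL.isIrr_cusp hg₀ hψ θ hθ⟩ : Cfsg.IrrCharacter (G2 F))) ?_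
      rw [emb_GL.classInner_cusp hg₀ hψ, if_neg (Ne.symm hθ), if_pos rfl, zero_add]

open scoped _root_.Classical in
/-- The irreducible characters of `GL₂`, in four families with their sizes. -/
theorem tableGL :
    ∃ L T P C : Finset (G2 F → ℂ),
      (∀ f, f ∈ L ↔ Cfsg.IsIrrCharacter (G2 F) f ∧ f 1 = 1 ∧ f u1GL = 1) ∧
      (∀ f, f ∈ T ↔ Cfsg.IsIrrCharacter (G2 F) f ∧ f 1 = (Fintype.card F : ℂ)) ∧
      (∀ f, f ∈ P ↔ Cfsg.IsIrrCharacter (G2 F) f ∧ f 1 = (Fintype.card F : ℂ) + 1) ∧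
      (∀ f, f ∈ C ↔ Cfsg.IsIrrCharacter (G2 F) f ∧ f 1 = (Fintype.card F : ℂ) - 1 ∧ f u1GL = -1) ∧
      (∀ f, Cfsg.IsIrrCharacter (G2 F) f ↔ f ∈ L ∪ T ∪ P ∪ C) ∧
      (∀ f ∈ L, ∃ α, f = detChar α) ∧ (∀ f ∈ T, ∃ α, f = stGL α) ∧
      (∀ f ∈ P, ∃ α β, α ≠ β ∧ f = prGL α β) ∧
      (∀ f ∈ C, ∃ θ, θ ≠ θ ^ Fintype.card F ∧ f = cuspGL (g₀ := g₀) ψ θ) ∧
      L.card = Fintype.card F - 1 ∧ T.card = Fintype.card F - 1 ∧
      2 * P.card = (Fintype.card F - 1) * (Fintype.card F - 2) ∧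
      2 * C.card = Fintype.card F * (Fintype.card F - 1) ∧
      (L ∪ T ∪ P ∪ C).card = L.card + T.card + P.card + C.card := by
  have := Fintype.ofFinite (diags (⊤ : Subgroup Fˣ))
  have := Fintype.ofFinite (MulChar F ℂ)
  have : IsCyclic (torus (MonoidHom.id (G2 F)) g₀) := isCyclic_centralizer hg₀
  have hcard : Nat.card (torus (MonoidHom.id (G2 F)) g₀) = Fintype.card F ^ 2 - 1 := card_centralizer hg₀
  have : Finite (torus (MonoidHom.id (G2 F)) g₀ →* ℂˣ) := Nat.finite_of_card_ne_zero (by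
    rw [card_hom_units (torus (MonoidHom.id (G2 F)) g₀)]; exact Nat.card_pos.ne')
  have := Fintype.ofFinite (torus (MonoidHom.id (G2 F)) g₀ →* ℂˣ)
  set q := Fintype.card F with hqdef
  have hq : 1 < q := Fintype.one_lt_card
  set Θ := Finset.univ.filter fun θ : torus (MonoidHom.id (G2 F)) g₀ →* ℂˣ => θ ≠ θ ^ q with hΘ
  set L : Finset (G2 F → ℂ) := Finset.univ.image detChar with hL
  set T : Finset (G2 F → ℂ) := Finset.univ.image stGL with hT
  set P : Finset (G2 F → ℂ) := (Finset.univ : Finset (MulChar F ℂ)).offDiag.image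
    (fun z => prGL z.1 z.2) with hP
  set C : Finset (G2 F → ℂ) := Θ.image (cuspGL ψ) with hC
  have hcα : Fintype.card (MulChar F ℂ) = q - 1 := by
    rw [← Nat.card_eq_fintype_card, MulChar.card_eq_card_units_of_hasEnoughRootsOfUnity,
      Nat.card_units, Nat.card_eq_fintype_card]
  have hLc : L.card = q - 1 := by
    rw [hL, Finset.card_image_of_injective _ detChar_injective, Finset.card_univ, hcα]
  have hTc : T.card = q - 1 := by
    rw [hT, Finset.card_image_of_injective _ fun α β e => ?_, Finset.card_univ, hcα]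
    by_contra h
    have h1 := classInner_stGL α β
    rw [if_neg h, e] at h1
    exact one_ne_zero ((classInner_irr_self (⟨_, isIrr_stGL β⟩ : Cfsg.IrrCharacter (G2 F))).symm.trans h1)
  have hPc : 2 * P.card = (q - 1) * (q - 2) := by
    rw [hP, two_mul_card_image (σ := Prod.swap), Finset.offDiag_card, Finset.card_univ, hcα]
    · rw [show q - 2 = q - 1 - 1 by omega]; exact (Nat.mul_sub_one _ _).symm
    · intro z hz
      simp only [Finset.mem_offDiag, Finset.mem_univ, true_and] at hz ⊢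
      exact fun e => hz e.symm
    · intro z hz e
      simp only [Finset.mem_offDiag, Finset.mem_univ, true_and] at hz
      exact hz (congrArg Prod.snd e)
    · intro z hz w hw
      simp only [Finset.mem_offDiag, Finset.mem_univ, true_and] at hz
      rw [prGL_eq_iff hz, Prod.ext_iff, Prod.ext_iff]
      exact Iff.rfl
  have hΘc : Θ.card + (q - 1) = q ^ 2 - 1 := by
    have h1 := Finset.card_filter_add_card_filter_not (s := (Finset.univ :
      Finset (torus (MonoidHom.id (G2 F)) g₀ →* ℂˣ))) (fun θ => θ ≠ θ ^ q)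
    have h2 : (Finset.univ.filter fun θ : torus (MonoidHom.id (G2 F)) g₀ →* ℂˣ => ¬θ ≠ θ ^ q).card = q - 1 := by
      rw [← Fintype.card_subtype, ← Nat.card_eq_fintype_card,
        Nat.card_congr (Equiv.subtypeEquivRight fun θ => not_not),
        card_hom_pow_eq (torus (MonoidHom.id (G2 F)) g₀) hq.le, hcard]
      refine Nat.gcd_eq_right ?_
      rw [card_eq_succ_mul]
      exact dvd_mul_left _ _
    rw [h2, Finset.card_univ, ← Nat.card_eq_fintype_card,
      card_hom_units (torus (MonoidHom.id (G2 F)) g₀), hcard] at h1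
    exact h1
  have hCc : 2 * C.card = q * (q - 1) := by
    rw [hC, two_mul_card_image (σ := fun θ => θ ^ q)]
    · rw [card_eq_succ_mul, ← hqdef, Nat.succ_mul] at hΘc
      omega
    · intro θ hθ
      simp only [hΘ, Finset.mem_filter, Finset.mem_univ, true_and] at hθ ⊢
      rw [emb_GL.hom_pow_pow hg₀]
      exact Ne.symm hθ
    · intro θ hθ
      simp only [hΘ, Finset.mem_filter, Finset.mem_univ, true_and] at hθ
      exact Ne.symm hθ
    · intro θ hθ θ' _
      simp only [hΘ, Finset.mem_filter, Finset.mem_univ, true_and] at hθ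
      exact cuspGL_eq_iff hg₀ hψ hθ
  have lL : ∀ f ∈ L, ∃ α, f = detChar α := fun f hf => by
    simp only [hL, Finset.mem_image, Finset.mem_univ, true_and] at hf
    exact hf.imp fun α e => e.symm
  have lT : ∀ f ∈ T, ∃ α, f = stGL α := fun f hf => by
    simp only [hT, Finset.mem_image, Finset.mem_univ, true_and] at hf
    exact hf.imp fun α e => e.symm
  have lP : ∀ f ∈ P, ∃ α β, α ≠ β ∧ f = prGL α β := fun f hf => by
    simp only [hP, Finset.mem_image, Finset.mem_offDiag, Finset.mem_univ, true_and] at hf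
    obtain ⟨⟨α, β⟩, h, e⟩ := hf
    exact ⟨α, β, h, e.symm⟩
  have lC : ∀ f ∈ C, ∃ θ, θ ≠ θ ^ q ∧ f = cuspGL (g₀ := g₀) ψ θ := fun f hf => by
    simp only [hC, hΘ, Finset.mem_image, Finset.mem_filter, Finset.mem_univ, true_and] at hf
    obtain ⟨θ, h, e⟩ := hf
    exact ⟨θ, h, e.symm⟩
  have vL : ∀ f ∈ L, Cfsg.IsIrrCharacter (G2 F) f ∧ f 1 = 1 ∧ f u1GL = 1 := fun f hf => by
    obtain ⟨α, rfl⟩ := lL f hf
    exact ⟨isIrr_detChar α, detChar_one α, detChar_u α⟩
  have vT : ∀ f ∈ T, Cfsg.IsIrrCharacter (G2 F) f ∧ f 1 = (q : ℂ) ∧ f u1GL = 0 := fun f hf => by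
    obtain ⟨α, rfl⟩ := lT f hf
    exact ⟨isIrr_stGL α, stGL_one α, stGL_u α⟩
  have vP : ∀ f ∈ P, Cfsg.IsIrrCharacter (G2 F) f ∧ f 1 = (q : ℂ) + 1 ∧ f u1GL = 1 := fun f hf => by
    obtain ⟨α, β, h, rfl⟩ := lP f hf
    exact ⟨isIrr_prGL h, prGL_one α β, prGL_u α β⟩
  have vC : ∀ f ∈ C, Cfsg.IsIrrCharacter (G2 F) f ∧ f 1 = (q : ℂ) - 1 ∧ f u1GL = -1 := fun f hf => by
    obtain ⟨θ, h, rfl⟩ := lC f hf
    exact ⟨emb_GL.isIrr_cusp hg₀ hψ θ h, emb_GL.cusp_one hg₀ ψ θ, cuspGL_u hg₀ hψ θ⟩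
  have hq0 : (q : ℂ) ≠ 0 := Nat.cast_ne_zero.2 (by omega)
  have hq1 : (q : ℂ) ≠ 1 := by exact_mod_cast hq.ne'
  have d1 : Disjoint L T := Finset.disjoint_left.2 fun f hf hf' =>
    one_ne_zero ((vL f hf).2.2.symm.trans (vT f hf').2.2)
  have d2 : Disjoint (L ∪ T) P := Finset.disjoint_left.2 fun f hf hf' => by
    rcases Finset.mem_union.1 hf with h | h
    · exact hq0 (add_eq_right.1 ((vP f hf').2.1.symm.trans (vL f h).2.1))
    · exact one_ne_zero ((vP f hf').2.2.symm.trans (vT f h).2.2)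
  have d3 : Disjoint (L ∪ T ∪ P) C := Finset.disjoint_left.2 fun f hf hf' => by
    rcases Finset.mem_union.1 hf with hf | h
    · rcases Finset.mem_union.1 hf with h | h
      · have := (vL f h).2.2.symm.trans (vC f hf').2.2; norm_num at this
      · have := (vT f h).2.2.symm.trans (vC f hf').2.2; norm_num at this
    · have := (vP f h).2.2.symm.trans (vC f hf').2.2; norm_num at this
  have hirr : ∀ f ∈ L ∪ T ∪ P ∪ C, Cfsg.IsIrrCharacter (G2 F) f := fun f hf => by
    simp only [Finset.mem_union] at hf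
    rcases hf with ((h | h) | h) | h
    exacts [(vL f h).1, (vT f h).1, (vP f h).1, (vC f h).1]
  have hall : ∀ f, Cfsg.IsIrrCharacter (G2 F) f ↔ f ∈ L ∪ T ∪ P ∪ C := fun f => by
    refine ⟨fun hf => irr_exhaust _ hirr ?_ hf, hirr f⟩
    have eL : ∑ f ∈ L, f 1 ^ 2 = ∑ f ∈ L, (1 : ℂ) ^ 2 :=
      Finset.sum_congr rfl fun f h => by rw [(vL f h).2.1]
    have eT : ∑ f ∈ T, f 1 ^ 2 = ∑ f ∈ T, (q : ℂ) ^ 2 :=
      Finset.sum_congr rfl fun f h => by rw [(vT f h).2.1]
    have eP' : ∑ f ∈ P, f 1 ^ 2 = ∑ f ∈ P, ((q : ℂ) + 1) ^ 2 :=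
      Finset.sum_congr rfl fun f h => by rw [(vP f h).2.1]
    have eC' : ∑ f ∈ C, f 1 ^ 2 = ∑ f ∈ C, ((q : ℂ) - 1) ^ 2 :=
      Finset.sum_congr rfl fun f h => by rw [(vC f h).2.1]
    rw [Finset.sum_union d3, Finset.sum_union d2, Finset.sum_union d1, eL, eT, eP', eC',
      Finset.sum_const, Finset.sum_const, Finset.sum_const, Finset.sum_const, emb_GL.card_eq,
      Subgroup.card_top, Nat.card_units, Nat.card_eq_fintype_card, hLc, hTc, nsmul_eq_mul,
      nsmul_eq_mul, nsmul_eq_mul, nsmul_eq_mul, ← hqdef]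
    obtain ⟨m, hm⟩ : ∃ m, q = m + 2 := ⟨q - 2, by omega⟩
    have eP : (2 : ℂ) * (P.card : ℂ) = ((m : ℂ) + 1) * m := by
      rw [hm, show m + 2 - 1 = m + 1 by omega, show m + 2 - 2 = m by omega] at hPc
      exact_mod_cast hPc
    have eC : (2 : ℂ) * (C.card : ℂ) = ((m : ℂ) + 2) * (m + 1) := by
      rw [hm, show m + 2 - 1 = m + 1 by omega] at hCc
      exact_mod_cast hCc
    rw [hm, show m + 2 - 1 = m + 1 by omega, show (m + 2) ^ 2 - 1 = (m + 3) * (m + 1) from
      Nat.sub_eq_of_eq_add (by ring)]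
    push_cast
    linear_combination ((m : ℂ) + 3) ^ 2 / 2 * eP + ((m : ℂ) + 1) ^ 2 / 2 * eC
  refine ⟨L, T, P, C, fun f => ⟨vL f, fun ⟨hf, h1, hu⟩ => ?_⟩,
    fun f => ⟨fun h => ⟨(vT f h).1, (vT f h).2.1⟩, fun ⟨hf, h1⟩ => ?_⟩,
    fun f => ⟨fun h => ⟨(vP f h).1, (vP f h).2.1⟩, fun ⟨hf, h1⟩ => ?_⟩,
    fun f => ⟨vC f, fun ⟨hf, h1, hu⟩ => ?_⟩, hall, lL, lT, lP, lC, hLc, hTc, hPc, hCc, ?_⟩
  · have hm := (hall f).1 hf
    simp only [Finset.mem_union] at hm
    rcases hm with ((h | h) | h) | h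
    · exact h
    · exact absurd ((vT f h).2.1.symm.trans h1) hq1
    · exact absurd (add_eq_right.1 ((vP f h).2.1.symm.trans h1)) hq0
    · have := (vC f h).2.2.symm.trans hu; norm_num at this
  · have hm := (hall f).1 hf
    simp only [Finset.mem_union] at hm
    rcases hm with ((h | h) | h) | h
    · exact absurd ((vL f h).2.1.symm.trans h1).symm hq1
    · exact h
    · exact absurd (add_eq_left.1 ((vP f h).2.1.symm.trans h1)) one_ne_zero
    · exact absurd (sub_eq_self.1 ((vC f h).2.1.symm.trans h1)) one_ne_zero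
  · have hm := (hall f).1 hf
    simp only [Finset.mem_union] at hm
    rcases hm with ((h | h) | h) | h
    · exact absurd (add_eq_right.1 ((vL f h).2.1.symm.trans h1).symm) hq0
    · exact absurd (add_eq_left.1 ((vT f h).2.1.symm.trans h1).symm) one_ne_zero
    · exact h
    · have := (vC f h).2.1.symm.trans h1
      exact absurd (show (2 : ℂ) = 0 by linear_combination -this) two_ne_zero
  · have hm := (hall f).1 hf
    simp only [Finset.mem_union] at hm
    rcases hm with ((h | h) | h) | h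
    · have := (vL f h).2.2.symm.trans hu; norm_num at this
    · have := (vT f h).2.2.symm.trans hu; norm_num at this
    · have := (vP f h).2.2.symm.trans hu; norm_num at this
    · exact h
  · rw [Finset.card_union_of_disjoint d3, Finset.card_union_of_disjoint d2,
      Finset.card_union_of_disjoint d1]

end Cusp

omit [DecidableEq F] [Fintype (G2 F)] in
/-- A nontrivial additive character exists. -/
theorem exists_addChar : ∃ ψ : AddChar F ℂ, ψ ≠ 1 := by
  obtain ⟨ψ, hψ⟩ := (AddChar.exists_apply_ne_zero (α := F) (a := 1)).2 one_ne_zero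
  exact ⟨ψ, fun h => hψ (by rw [h]; rfl)⟩

end CfsgLib.SL2Char
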