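import Cfsg.Agent.Lib.Known.SL2Char.TableSL

/-!
# The character table of `SL₂` over a field of even order
-/

namespace CfsgLib.SL2Char

open Matrix CfsgLib.Char CfsgLib.PLocal.SLTwo

variable {F : Type*} [Field F] [Fintype F] [DecidableEq F] [Fintype (S2 F)]

variable {g₀ : G2 F} (hg₀ : Elliptic (g₀ : Matrix (Fin 2) (Fin 2) F)) {ψ : AddChar F ℂ} (hψ : ψ ≠ 1)
  [Fintype (Orbits (⊥ : Subgroup Fˣ))]

include hg₀ hψ

open scoped _root_.Classical in
/-- The table for even `q`. -/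
theorem tableSLEven (heven : Even (Fintype.card F)) :
    ∃ P C : Finset (S2 F → ℂ),
      (∀ f, f ∈ P ↔ ∃ α : MulChar F ℂ, α ≠ α⁻¹ ∧ f = prSL α) ∧
      (∀ f, f ∈ C ↔ ∃ θ, θ ≠ θ ^ Fintype.card F ∧ f = cuspSL (g₀ := g₀) ψ θ) ∧
      (∀ f ∈ P, Cfsg.IsIrrCharacter (S2 F) f ∧ f 1 = (Fintype.card F : ℂ) + 1) ∧
      (∀ f ∈ C, Cfsg.IsIrrCharacter (S2 F) f ∧ f 1 = (Fintype.card F : ℂ) - 1) ∧
      2 * P.card + 2 = Fintype.card F ∧ 2 * C.card = Fintype.card F ∧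
      ({(1 : S2 F → ℂ), stSL} ∪ P ∪ C : Finset (S2 F → ℂ)).card = P.card + C.card + 2 ∧
      ∀ f, Cfsg.IsIrrCharacter (S2 F) f ↔ f = 1 ∨ f = stSL ∨ f ∈ P ∨ f ∈ C := by
  obtain ⟨P, C, iP, iC, vP, vC, cP, cC, d1, d2, d3⟩ := mainSL hg₀ hψ
  rw [eps_even heven] at cP cC
  refine ⟨P, C, iP, iC, vP, vC, by omega, by omega, ?_, fun f => ?_⟩
  · rw [Finset.card_union_of_disjoint d1, Finset.card_union_of_disjoint d2, Finset.card_pair d3]
    ring
  have hirr : ∀ g ∈ {(1 : S2 F → ℂ), stSL} ∪ P ∪ C, Cfsg.IsIrrCharacter (S2 F) g := fun g hg => by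
    simp only [Finset.mem_union, Finset.mem_insert, Finset.mem_singleton] at hg
    rcases hg with ((rfl | rfl) | h) | h
    exacts [isIrrCharacter_one, isIrr_stSL, (vP g h).1, (vC g h).1]
  constructor
  · intro hf
    have h := irr_exhaust _ hirr ?_ hf
    · simpa [or_assoc] using h
    · rw [sum_sq_main hg₀ vP vC (by rw [eps_even heven]; omega) (by rw [eps_even heven]; omega) d1 d2 d3,
        eps_even heven]
      simp
  · exact fun h => hirr f (by simpa [or_assoc] using h)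

end CfsgLib.SL2Char
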