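import Cfsg.Agent.Lib.Known.SL2Char.TableSLOdd

/-!
# Values of the characters of `SL₂` in the forms used by the statements
-/

namespace CfsgLib.SL2Char

open Matrix CfsgLib.Char CfsgLib.PLocal.SLTwo
open scoped ComplexConjugate

/-- A nontrivial quadratic character of a cyclic group of order `2 n` detects the `n`-th power. -/
theorem quad_hom_iff {C : Type*} [Group C] [Finite C] [IsCyclic C] {f : C →* ℂˣ}
    (h2 : ∀ c, f c * f c = 1) (h1 : f ≠ 1) {n : ℕ} (hn : Nat.card C = 2 * n) (c : C) :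
    (c ^ n = 1 → (f c : ℂ) = 1) ∧ (c ^ n ≠ 1 → (f c : ℂ) = -1) := by
  obtain ⟨g, hg⟩ := IsCyclic.exists_generator (α := C)
  have hgn : orderOf g = 2 * n := (orderOf_eq_card_of_forall_mem_zpowers hg).trans hn
  have hfg : (f g : ℂ) = -1 := by
    refine (mul_self_eq_one_iff.1 (show (f g : ℂ) * f g = 1 by
      rw [← Units.val_mul, h2, Units.val_one])).resolve_left fun e => h1 ?_
    ext d
    obtain ⟨k, rfl⟩ := Subgroup.mem_zpowers_iff.1 (hg d)
    rw [map_zpow, show f g = 1 from Units.ext (by simpa using e), _root_.one_zpow]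
    rfl
  obtain ⟨i, hi⟩ := (isOfFinOrder_of_finite g).mem_powers_iff_mem_zpowers.2 (hg c)
  change g ^ i = c at hi
  have hn0 : n ≠ 0 := fun e => by
    have := Nat.card_pos (α := C)
    omega
  have hiff : c ^ n = 1 ↔ Even i := by
    rw [← hi, ← pow_mul, ← orderOf_dvd_iff_pow_eq_one, hgn, Nat.mul_dvd_mul_iff_right
      (Nat.pos_of_ne_zero hn0), even_iff_two_dvd]
  have hv : (f c : ℂ) = (-1) ^ i := by rw [← hi, map_pow, Units.val_pow_eq_pow_val, hfg]
  refine ⟨fun h => ?_, fun h => ?_⟩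
  · rw [hv, (hiff.1 h).neg_one_pow]
  · rw [hv, (Nat.not_even_iff_odd.1 (mt hiff.2 h)).neg_one_pow]

variable {F : Type*} [Field F]

theorem not_central_of_elliptic {g : S2 F} (hg : Elliptic g.1) :
    g ∉ Subgroup.center (S2 F) := fun h => by
  have e := congrArg (fun x : S2 F => x.1 0 0) (Subgroup.mem_center_iff.1 h (U 1))
  simp [m00] at e
  exact hg.lower_ne_zero e

theorem diagS_pow (a : Fˣ) (n : ℕ) : diagS a ^ n = diagS (a ^ n) := by
  induction n with
  | zero => refine ext2 ?_ ?_ ?_ ?_ <;> simp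
  | succ n ih =>
    rw [pow_succ, ih]
    refine ext2 ?_ ?_ ?_ ?_ <;> simp [m00, m01, m10, m11, pow_succ, mul_comm]

variable [Fintype F] [DecidableEq F]

omit [DecidableEq F] in
theorem pow_of_not_elliptic {g : S2 F} (hg : ¬ Elliptic g.1) :
    g ^ (Fintype.card F - 1) = 1 ∨ g ^ (2 * Fintype.card F) = 1 := by
  classical
  by_cases hd : tr g ^ 2 = 4
  · right
    by_cases hn : NonScalar g
    · obtain ⟨h, a, t, ha, -, -, hM⟩ := exists_conj_signed_U hn hd
      have h2 : (h * g * h⁻¹) ^ 2 = U (2 * t) := by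
        apply Subtype.ext
        rw [Matrix.SpecialLinearGroup.coe_pow, hM, smul_pow, show ((a : F)) ^ 2 = 1 by
          rcases ha with rfl | rfl <;> simp, one_smul, ← Matrix.SpecialLinearGroup.coe_pow, U_pow]
        norm_num
      have h3 : (h * g * h⁻¹) ^ (2 * Fintype.card F) = 1 := by
        rw [pow_mul, h2, U_pow, FiniteField.cast_card_eq_zero, zero_mul, U_zero]
      rw [conj_pow] at h3
      exact conj_eq_one_iff.1 h3
    · rcases scalar_cases hn with rfl | rfl
      · exact one_pow _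
      · rw [pow_mul, PLocal.SLTwo.neg_one_sq, one_pow]
  · left
    rcases elliptic_or_root hd with h | ⟨a, d, had, htr, hdet⟩
    · exact absurd h hg
    · have h1 : a * d = 1 := by rw [← hdet]; exact g.2
      have ha : a ≠ 0 := left_ne_zero_of_mul_eq_one h1
      have ht : tr (diagS (Units.mk0 a ha)) = tr g := by
        rw [tr_eq_trace, tr_eq_trace, htr, Matrix.trace_fin_two]
        simp [eq_inv_of_mul_eq_one_right h1]
      obtain ⟨y, hy⟩ := isConj_iff.1 (isConj_of_tr_eq hd ht)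
      have h3 : (y * g * y⁻¹) ^ (Fintype.card F - 1) = 1 := by
        rw [hy, diagS_pow, show Units.mk0 a ha ^ (Fintype.card F - 1) = 1 from
          Units.ext (by simpa using FiniteField.pow_card_sub_one_eq_one a ha)]
        refine ext2 ?_ ?_ ?_ ?_ <;> simp
      rw [conj_pow] at h3
      exact conj_eq_one_iff.1 h3

omit [DecidableEq F] in
theorem elliptic_of_orderOf {g : S2 F} (hg : orderOf g = Fintype.card F + 1) : Elliptic g.1 := by
  by_contra h
  have hq : 1 < Fintype.card F := Fintype.one_lt_card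
  rcases pow_of_not_elliptic h with e | e <;>
    have e' := orderOf_dvd_of_pow_eq_one e <;> rw [hg] at e'
  · have := Nat.le_of_dvd (by omega) e'
    omega
  · have h2 : Fintype.card F + 1 ∣ 2 := by
      have h3 : Fintype.card F + 1 ∣ 2 * (Fintype.card F + 1) := dvd_mul_left _ _
      simpa [mul_add] using Nat.dvd_sub h3 e'
    have := Nat.le_of_dvd two_pos h2
    omega

variable [Fintype (S2 F)]

/-- The sum over the upper unitriangular elements. -/
theorem sum_unitriangular (χ : S2 F → ℂ) :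
    (∑ g : S2 F, if g.1 1 0 = 0 ∧ g.1 0 0 = 1 ∧ g.1 1 1 = 1 then χ g else 0) =
      χ 1 + ∑ t ∈ Finset.univ.erase 0, χ (U t) := by
  rw [← U_zero, Finset.add_sum_erase _ (fun t => χ (U t)) (Finset.mem_univ _), ← Finset.sum_filter]
  refine Finset.sum_bij (fun g _ => g.1 0 1) (fun g _ => Finset.mem_univ _) ?_ ?_ ?_
  · intro g hg g' hg' e
    simp only [Finset.mem_filter, Finset.mem_univ, true_and] at hg hg'
    exact ext2 (hg.2.1.trans hg'.2.1.symm) e (hg.1.trans hg'.1.symm) (hg.2.2.trans hg'.2.2.symm)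
  · exact fun t _ => ⟨U t, by simp, rfl⟩
  · intro g hg
    simp only [Finset.mem_filter, Finset.mem_univ, true_and] at hg
    congr 1
    exact ext2 hg.2.1 rfl hg.1 hg.2.2

theorem sum_unitriangular_const {χ : S2 F → ℂ} {v : ℂ} (h : ∀ t, t ≠ 0 → χ (U t) = v) :
    (∑ g : S2 F, if g.1 1 0 = 0 ∧ g.1 0 0 = 1 ∧ g.1 1 1 = 1 then χ g else 0) =
      χ 1 + ((Fintype.card F : ℂ) - 1) * v := by
  rw [sum_unitriangular, Finset.sum_congr rfl fun t ht => h t (Finset.ne_of_mem_erase ht),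
    Finset.sum_const, Finset.card_erase_of_mem (Finset.mem_univ _), Finset.card_univ, nsmul_eq_mul,
    Nat.cast_sub (show 1 ≤ Fintype.card F from Fintype.card_pos), Nat.cast_one]

theorem stSL_diag {g : S2 F} (h : g.1 1 0 = 0) (ha : g.1 0 0 ≠ g.1 1 1) : stSL g = 1 := by
  have hd := det2 g
  rw [h, mul_zero, sub_zero] at hd
  rw [stSL, Pi.sub_apply, prSL_upper 1 h, if_neg ha, Pi.one_apply,
    MulChar.one_apply (isUnit_iff_ne_zero.2 (left_ne_zero_of_mul_eq_one hd)),
    MulChar.one_apply (isUnit_iff_ne_zero.2 (right_ne_zero_of_mul_eq_one hd))]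
  ring

theorem stSL_elliptic {g : S2 F} (h : Elliptic g.1) : stSL g = -1 := by
  rw [stSL, Pi.sub_apply, prSL_elliptic 1 h, Pi.one_apply, zero_sub]

theorem stSL_unipotent {g : S2 F} (h : g.1 1 0 = 0) (ha : g.1 0 0 = g.1 1 1) (hb : g.1 0 1 ≠ 0) :
    stSL g = 0 := by
  have hd := det2 g
  rw [h, mul_zero, sub_zero] at hd
  rw [stSL, Pi.sub_apply, prSL_upper 1 h, if_pos ha, if_neg hb, Pi.one_apply,
    MulChar.one_apply (isUnit_iff_ne_zero.2 (left_ne_zero_of_mul_eq_one hd))]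
  ring

omit [Fintype F] [DecidableEq F] [Fintype (S2 F)] in
theorem diag_ne {g : S2 F} (h : g.1 1 0 = 0) (ha : g.1 0 0 ^ 2 ≠ 1) : g.1 0 0 ≠ g.1 1 1 := fun e => by
  have hd := det2 g
  rw [h, mul_zero, sub_zero, ← e, ← pow_two] at hd
  exact ha hd

section Cusp

variable {g₀ : G2 F} (hg₀ : Elliptic (g₀ : Matrix (Fin 2) (Fin 2) F)) {ψ : AddChar F ℂ} (hψ : ψ ≠ 1)
  [Fintype (Orbits (⊥ : Subgroup Fˣ))]

include hg₀

omit [DecidableEq F] [Fintype (S2 F)] [Fintype (Orbits (⊥ : Subgroup Fˣ))] in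
/-- Elliptic means noncentral, in the torus. -/
theorem torusSL_cases (c : torus (Matrix.SpecialLinearGroup.toGL : S2 F →* G2 F) g₀) :
    ((c : S2 F) = 1 ∨ (c : S2 F) = -1) ∨ Elliptic (c : S2 F).1 := by
  classical
  rcases emb_SL.torus_cases hg₀ c with ⟨a, rfl⟩ | h
  · left
    have e : ((emb_SL.scalarC g₀ a : torus (Matrix.SpecialLinearGroup.toGL : S2 F →* G2 F) g₀) : S2 F).1 =
        ((a : Fˣ) : F) • (1 : Matrix (Fin 2) (Fin 2) F) := emb_SL.scalarC_spec a
    rcases mem_zs_bot.1 a.2 with e1 | e1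
    · exact Or.inl (Subtype.ext (by rw [e, e1]; simp))
    · exact Or.inr (Subtype.ext (by rw [e, e1]; simp))
  · exact Or.inr h

omit [DecidableEq F] [Fintype (S2 F)] [Fintype (Orbits (⊥ : Subgroup Fˣ))] in
theorem elliptic_of_noncentral {c : torus (Matrix.SpecialLinearGroup.toGL : S2 F →* G2 F) g₀}
    (hc : (c : S2 F) ∉ Subgroup.center (S2 F)) : Elliptic (c : S2 F).1 := by
  refine (torusSL_cases hg₀ c).resolve_left fun h => hc ?_
  rcases h with e | e <;> rw [e]
  · exact Subgroup.one_mem _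
  · exact Subgroup.mem_center_iff.2 fun y => commute_neg_one y

theorem cuspSL_ell (θ : torus (Matrix.SpecialLinearGroup.toGL : S2 F →* G2 F) g₀ →* ℂˣ)
    {c : torus (Matrix.SpecialLinearGroup.toGL : S2 F →* G2 F) g₀} (hc : Elliptic (c : S2 F).1) :
    cuspSL ψ θ (c : S2 F) = -((θ c : ℂ) + (θ c : ℂ) ^ Fintype.card F) := by
  have := Fintype.ofFinite (diags (⊥ : Subgroup Fˣ))
  exact emb_SL.cusp_elliptic hg₀ ψ θ hc

theorem cuspSL_one (θ : torus (Matrix.SpecialLinearGroup.toGL : S2 F →* G2 F) g₀ →* ℂˣ) :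
    cuspSL ψ θ (1 : S2 F) = (Fintype.card F : ℂ) - 1 := by
  have := Fintype.ofFinite (diags (⊥ : Subgroup Fˣ))
  exact emb_SL.cusp_one hg₀ ψ θ

theorem cuspSL_diag (θ : torus (Matrix.SpecialLinearGroup.toGL : S2 F →* G2 F) g₀ →* ℂˣ)
    {g : S2 F} (h : g.1 1 0 = 0) (ha : g.1 0 0 ≠ g.1 1 1) : cuspSL ψ θ g = 0 := by
  exact emb_SL.cusp_split hg₀ ψ θ ha (Matrix.trace_fin_two _) (det_upper h)

omit [DecidableEq F] [Fintype (S2 F)] [Fintype (Orbits (⊥ : Subgroup Fˣ))] in
/-- For `q = 3` the cuspidal member of degree two vanishes on the elliptic elements. -/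
theorem theta_three (h3 : Fintype.card F = 3)
    {θ : torus (Matrix.SpecialLinearGroup.toGL : S2 F →* G2 F) g₀ →* ℂˣ}
    (hθ : θ ≠ θ ^ Fintype.card F) {c : torus (Matrix.SpecialLinearGroup.toGL : S2 F →* G2 F) g₀}
    (hc : Elliptic (c : S2 F).1) : (θ c : ℂ) ^ 2 = -1 := by
  classical
  have := Fintype.ofFinite (S2 F)
  have := isCyclic_torusSL hg₀
  obtain ⟨γ, hγ⟩ := IsCyclic.exists_generator
    (α := torus (Matrix.SpecialLinearGroup.toGL : S2 F →* G2 F) g₀)
  have hn : orderOf γ = 4 := by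
    rw [orderOf_eq_card_of_forall_mem_zpowers hγ, card_torusSL hg₀, h3]
  have h4 : (θ γ : ℂ) ^ 4 = 1 := by
    rw [← Units.val_pow_eq_pow_val, ← map_pow, ← hn, pow_orderOf_eq_one, map_one, Units.val_one]
  have hne : (θ γ : ℂ) ^ 2 ≠ 1 := fun e => hθ <| by
    ext d
    obtain ⟨k, rfl⟩ := Subgroup.mem_zpowers_iff.1 (hγ d)
    have e' : θ γ = θ γ ^ Fintype.card F := Units.ext (by
      rw [Units.val_pow_eq_pow_val, h3, pow_succ, e, one_mul])
    rw [MonoidHom.pow_apply, map_zpow, ← zpow_natCast (θ γ ^ k), ← _root_.zpow_mul, mul_comm, _root_.zpow_mul,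
      zpow_natCast, ← e']
  have hg : (θ γ : ℂ) ^ 2 = -1 := (mul_self_eq_one_iff.1 (by linear_combination h4 :
    (θ γ : ℂ) ^ 2 * (θ γ : ℂ) ^ 2 = 1)).resolve_left hne
  obtain ⟨k, hk⟩ := (isOfFinOrder_of_finite γ).mem_powers_iff_mem_zpowers.2 (hγ c)
  change γ ^ k = c at hk
  have hodd : Odd k := by
    rw [← Nat.not_even_iff_odd]
    rintro ⟨j, rfl⟩
    have hc2 : c ^ 2 = 1 := by
      rw [← hk, ← pow_mul, show (j + j) * 2 = 4 * j by ring, pow_mul, ← hn, pow_orderOf_eq_one, one_pow]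
    have hi : (c : S2 F)⁻¹ = (c : S2 F) := inv_eq_of_mul_eq_one_right (by
      rw [← pow_two, ← Subgroup.coe_pow, hc2, Subgroup.coe_one])
    have e01 := congrArg (fun x : S2 F => x.1 0 1) hi
    simp only [i01] at e01
    have h2 : (2 : F) ≠ 0 := fun e => by
      have := FiniteField.cast_card_eq_zero F
      rw [h3] at this
      exact one_ne_zero (show (1 : F) = 0 by push_cast at this; linear_combination this - e)
    exact hc.upper_ne_zero ((mul_eq_zero.1 (show (2 : F) * (c : S2 F).1 0 1 = 0 by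
      linear_combination -e01)).resolve_left h2)
  rw [← hk, map_pow, Units.val_pow_eq_pow_val, ← pow_mul, mul_comm k 2, pow_mul, hg, hodd.neg_one_pow]

end Cusp

end CfsgLib.SL2Char
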