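import Cfsg.Prelude.Def_DegreeGraph
import Cfsg.Agent.Lib.Known.SL2Char.Values
import Cfsg.Agent.Lib.Known.SL2Char.TableSLEven
import Cfsg.Agent.Lib.Known.SL2Char.TableGL
import Cfsg.Agent.Lib.Blocks.Quotient

/-!
# Character degrees of `SL₂(q)` and `PSL₂(q)`
-/

namespace CfsgLib.SL2Char

open Matrix CfsgLib.Char CfsgLib.PLocal.SLTwo

section

variable {F : Type*} [Field F]

theorem eq_one_or_neg_one_of_mem_center {x : S2 F} (h : x ∈ Subgroup.center (S2 F)) :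
    x = 1 ∨ x = -1 := by
  refine scalar_cases fun hn => hn ?_
  have hU := congrArg (fun y : S2 F => (y.1 0 0, y.1 0 1)) (Subgroup.mem_center_iff.1 h (U 1))
  have hL := congrArg (fun y : S2 F => y.1 0 0) (Subgroup.mem_center_iff.1 h (Lo 1))
  simp [m00, m01] at hU hL
  exact ⟨hL, hU.1, by linear_combination -hU.2⟩

variable [Fintype F]

open scoped _root_.Classical in
/-- An irreducible character trivial at `-1` comes from `PSL₂`. -/
theorem exists_psl {f : S2 F → ℂ} (hf : Cfsg.IsIrrCharacter (S2 F) f) (h : f (-1) = f 1) :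
    ∃ χ : Cfsg.IrrCharacter (Matrix.ProjectiveSpecialLinearGroup (Fin 2) F),
      ∀ g : S2 F, (χ : Matrix.ProjectiveSpecialLinearGroup (Fin 2) F → ℂ) (QuotientGroup.mk g) = f g := by
  have := Fintype.ofFinite (S2 F)
  obtain ⟨χ, hχ⟩ := Blocks.exists_inflate_eq (Subgroup.center (S2 F)) ⟨f, hf⟩ (fun n hn => by
    rcases eq_one_or_neg_one_of_mem_center hn with rfl | rfl
    exacts [rfl, h])
  exact ⟨χ, fun g => congrFun (congrArg Subtype.val hχ) g⟩

variable [DecidableEq F] [Fintype (S2 F)]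

omit [DecidableEq F] in
theorem exists_psl_stSL [DecidableEq F] :
    ∃ χ : Cfsg.IrrCharacter (Matrix.ProjectiveSpecialLinearGroup (Fin 2) F),
      ∀ g : S2 F, (χ : Matrix.ProjectiveSpecialLinearGroup (Fin 2) F → ℂ) (QuotientGroup.mk g) = stSL g := by
  refine exists_psl isIrr_stSL ?_
  rw [stSL, Pi.sub_apply, Pi.sub_apply, show (-1 : S2 F) = -(1 : S2 F) from rfl, prSL_neg,
    MulChar.one_apply (isUnit_one.neg), one_mul]
  rfl

/-- every degree is `q` or divides `q ± 1` -/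
theorem degree_cases {f : S2 F → ℂ} (hf : Cfsg.IsIrrCharacter (S2 F) f) :
    ∃ d : ℕ, f 1 = (d : ℂ) ∧ ((f = stSL ∧ d = Fintype.card F) ∨ d ∣ Fintype.card F + 1 ∨
      d ∣ Fintype.card F - 1) := by
  classical
  have := Fintype.ofFinite (Orbits (⊥ : Subgroup Fˣ))
  obtain ⟨g₀, hg₀⟩ := exists_elliptic (F := F)
  have := Fintype.ofFinite (Matrix.GeneralLinearGroup (Fin 2) F)
  obtain ⟨ψ, hψ⟩ := exists_addChar (F := F)
  have h1 : 1 ≤ Fintype.card F := Fintype.card_pos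
  have hsub : (Fintype.card F : ℂ) - 1 = ((Fintype.card F - 1 : ℕ) : ℂ) := by
    rw [Nat.cast_sub h1, Nat.cast_one]
  have hadd : (Fintype.card F : ℂ) + 1 = ((Fintype.card F + 1 : ℕ) : ℂ) := by push_cast; rfl
  rcases (Fintype.card F).even_or_odd with heven | hodd
  · obtain ⟨P, C, iP, iC, vP, vC, cP, cC, ctot, hall⟩ := tableSLEven hg₀ hψ heven
    rcases (hall f).1 hf with rfl | rfl | h | h
    · exact ⟨1, by simp, Or.inr (Or.inl (one_dvd _))⟩
    · exact ⟨_, stSL_one, Or.inl ⟨rfl, rfl⟩⟩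
    · exact ⟨_, (vP f h).2.trans hadd, Or.inr (Or.inl dvd_rfl)⟩
    · exact ⟨_, (vC f h).2.trans hsub, Or.inr (Or.inr dvd_rfl)⟩
  · obtain ⟨θ₀, a, b, c, d, P, C, hθ1, hθ0, hab, hcd, hA, hB, ha, hb, hc, hd, sab, scd, hsw, iP, iC, vP, vC,
      cP, cC, ctot, hall⟩ := tableSLOdd hg₀ hψ hodd
    obtain ⟨m, hm⟩ := id hodd
    have dA : ∀ {X σ} {g : S2 F → ℂ}, Half ψ 1 σ X g → g 1 = ((m + 1 : ℕ) : ℂ) := fun h => by
      have e := h.deg
      rw [hm] at e
      push_cast at e ⊢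
      linear_combination e / 2
    have dC : ∀ {X σ} {g : S2 F → ℂ}, Half ψ (-1) σ X g → g 1 = ((m : ℕ) : ℂ) := fun h => by
      have e := h.deg
      rw [hm] at e
      push_cast at e ⊢
      linear_combination e / 2
    have ha' : m + 1 ∣ Fintype.card F + 1 := ⟨2, by omega⟩
    have hc' : m ∣ Fintype.card F - 1 := ⟨2, by omega⟩
    rcases (hall f).1 hf with rfl | rfl | h | h | rfl | rfl | rfl | rfl
    · exact ⟨1, by simp, Or.inr (Or.inl (one_dvd _))⟩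
    · exact ⟨_, stSL_one, Or.inl ⟨rfl, rfl⟩⟩
    · exact ⟨_, (vP f h).2.trans hadd, Or.inr (Or.inl dvd_rfl)⟩
    · exact ⟨_, (vC f h).2.trans hsub, Or.inr (Or.inr dvd_rfl)⟩
    · exact ⟨_, dA ha, Or.inr (Or.inl ha')⟩
    · exact ⟨_, dA hb, Or.inr (Or.inl ha')⟩
    · exact ⟨_, dC hc, Or.inr (Or.inr hc')⟩
    · exact ⟨_, dC hd, Or.inr (Or.inr hc')⟩

omit [DecidableEq F] in
theorem exists_psl_succ [DecidableEq F] (h : ¬ Fintype.card F - 1 ∣ 4) :
    ∃ χ : Cfsg.IrrCharacter (Matrix.ProjectiveSpecialLinearGroup (Fin 2) F),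
      (χ : Matrix.ProjectiveSpecialLinearGroup (Fin 2) F → ℂ) 1 = ((Fintype.card F + 1 : ℕ) : ℂ) := by
  classical
  have := Fintype.ofFinite (Orbits (⊥ : Subgroup Fˣ))
  obtain ⟨g₀, hg₀⟩ := exists_elliptic (F := F)
  have := Fintype.ofFinite (Matrix.GeneralLinearGroup (Fin 2) F)
  obtain ⟨ψ, hψ⟩ := exists_addChar (F := F)
  obtain ⟨e⟩ := MulChar.mulEquiv_units F ℂ
  obtain ⟨g, hg⟩ := IsCyclic.exists_generator (α := Fˣ)
  have hord : orderOf (e.symm g) = Fintype.card F - 1 := by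
    rw [MulEquiv.orderOf_eq, orderOf_eq_card_of_forall_mem_zpowers hg, Nat.card_units, Nat.card_eq_fintype_card]
  set α := e.symm g ^ 2 with hα
  have hne : α ≠ α⁻¹ := fun e' => h (by
    rw [← hord]
    refine orderOf_dvd_of_pow_eq_one ?_
    rw [eq_inv_iff_mul_eq_one, hα, ← pow_add] at e'
    exact e')
  obtain ⟨P, C, iP, iC, vP, vC, -⟩ := mainSL hg₀ hψ (F := F)
  have hmem : prSL α ∈ P := (iP _).2 ⟨α, hne, rfl⟩
  have hneg : α (-1 : F) = 1 := by
    rw [hα, sq, MulChar.mul_apply, ← map_mul, neg_mul_neg, one_mul, map_one]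
  obtain ⟨χ, hχ⟩ := exists_psl (vP _ hmem).1
    (by rw [show (-1 : S2 F) = -(1 : S2 F) from rfl, prSL_neg, hneg, one_mul])
  exact ⟨χ, ((hχ 1).trans (vP _ hmem).2).trans (by push_cast; rfl)⟩

omit [DecidableEq F] in
theorem exists_psl_pred [DecidableEq F] (h : ¬ Fintype.card F + 1 ∣ 4) :
    ∃ χ : Cfsg.IrrCharacter (Matrix.ProjectiveSpecialLinearGroup (Fin 2) F),
      (χ : Matrix.ProjectiveSpecialLinearGroup (Fin 2) F → ℂ) 1 = ((Fintype.card F - 1 : ℕ) : ℂ) := by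
  classical
  have := Fintype.ofFinite (Orbits (⊥ : Subgroup Fˣ))
  have := Fintype.ofFinite (diags (⊥ : Subgroup Fˣ))
  obtain ⟨g₀, hg₀⟩ := exists_elliptic (F := F)
  have := Fintype.ofFinite (Matrix.GeneralLinearGroup (Fin 2) F)
  obtain ⟨ψ, hψ⟩ := exists_addChar (F := F)
  have := isCyclic_torusSL hg₀
  let _ : CommGroup (torus (Matrix.SpecialLinearGroup.toGL : S2 F →* G2 F) g₀) := IsCyclic.commGroup
  obtain ⟨e⟩ := CommGroup.monoidHom_mulEquiv_of_hasEnoughRootsOfUnity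
    (torus (Matrix.SpecialLinearGroup.toGL : S2 F →* G2 F) g₀) ℂ
  obtain ⟨c, hc⟩ := IsCyclic.exists_generator
    (α := torus (Matrix.SpecialLinearGroup.toGL : S2 F →* G2 F) g₀)
  have hord : orderOf (e.symm c) = Fintype.card F + 1 := by
    rw [MulEquiv.orderOf_eq, orderOf_eq_card_of_forall_mem_zpowers hc, card_torusSL hg₀]
  set θ := e.symm c ^ 2 with hθ
  have hne : θ ≠ θ ^ Fintype.card F := fun e' => h (by
    have h1 := pow_orderOf_eq_one (e.symm c)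
    rw [hord] at h1
    rw [hθ, ← pow_mul] at e'
    refine hord ▸ orderOf_dvd_of_pow_eq_one ?_
    calc (e.symm c) ^ 4 = e.symm c ^ 2 * e.symm c ^ 2 := by rw [← pow_add]
      _ = e.symm c ^ (2 * Fintype.card F) * e.symm c ^ 2 := by rw [← e']
      _ = (e.symm c ^ (Fintype.card F + 1)) ^ 2 := by rw [← pow_add, ← pow_mul]; ring_nf
      _ = 1 := by rw [h1, one_pow])
  obtain ⟨P, C, iP, iC, vP, vC, -⟩ := mainSL hg₀ hψ (F := F)
  have hmem : cuspSL ψ θ ∈ C := (iC _).2 ⟨θ, hne, rfl⟩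
  have hneg : cuspSL ψ θ (-1 : S2 F) = cuspSL ψ θ 1 := by
    have hz : (-1 : Fˣ) ∈ zs (⊥ : Subgroup Fˣ) := mem_zs_bot.2 (Or.inr rfl)
    have hs : ((emb_SL.scalarC g₀ ⟨-1, hz⟩ : torus (Matrix.SpecialLinearGroup.toGL : S2 F →* G2 F) g₀) :
        S2 F) = -1 := Subtype.ext (by
      refine (emb_SL.scalarC_spec ⟨-1, hz⟩).trans ?_
      simp)
    have h2 : θ (emb_SL.scalarC g₀ ⟨-1, hz⟩) = 1 := by
      rw [hθ, MonoidHom.pow_apply, ← map_pow, ← map_pow,
        show (⟨-1, hz⟩ : zs (⊥ : Subgroup Fˣ)) ^ 2 = 1 from Subtype.ext (by simp), map_one, map_one]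
    have h3 := emb_SL.cusp_mul_scalar hg₀ (ψ := ψ) θ ⟨-1, hz⟩ 1
    rw [hs, mul_one, h2, Units.val_one, one_mul] at h3
    exact h3
  obtain ⟨χ, hχ⟩ := exists_psl (vC _ hmem).1 hneg
  refine ⟨χ, ((hχ 1).trans (vC _ hmem).2).trans ?_⟩
  rw [Nat.cast_sub (show 1 ≤ Fintype.card F from Fintype.card_pos), Nat.cast_one]

end

section Graph

universe u v

variable {F : Type u} [Field F] [Fintype F] {S : Type v} [Group S] [Finite S]

theorem charDegree_natCast {G : Type*} [Group G] {f : G → ℂ} {d : ℕ} (h : f 1 = (d : ℂ)) :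
    Cfsg.charDegree f = d := by
  rw [Cfsg.charDegree, h, Complex.natCast_re, Nat.floor_natCast]

theorem degrees_of_iso (h4 : ¬ Fintype.card F - 1 ∣ 4) (h4' : ¬ Fintype.card F + 1 ∣ 4)
    (hS : Nonempty (S ≃* Matrix.ProjectiveSpecialLinearGroup (Fin 2) F) ∨
      Nonempty (S ≃* Matrix.SpecialLinearGroup (Fin 2) F)) :
    (Fintype.card F ∈ Cfsg.charDegrees S ∧ Fintype.card F + 1 ∈ Cfsg.charDegrees S ∧
      Fintype.card F - 1 ∈ Cfsg.charDegrees S) ∧
    ∀ d ∈ Cfsg.charDegrees S, d = Fintype.card F ∨ d ∣ Fintype.card F + 1 ∨ d ∣ Fintype.card F - 1 := by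
  classical
  have := Fintype.ofFinite (S2 F)
  have hdown : ∀ (π : S2 F →* S), Function.Surjective π → ∀ d ∈ Cfsg.charDegrees S,
      d = Fintype.card F ∨ d ∣ Fintype.card F + 1 ∨ d ∣ Fintype.card F - 1 := by
    rintro π hπ _ ⟨χ, rfl⟩
    obtain ⟨d, hd, hc⟩ := degree_cases (IsIrr.comp_surjective π hπ χ.2)
    simp only [map_one] at hd
    rw [charDegree_natCast hd]
    exact hc.imp_left And.right
  have hup : ∀ (π : S →* Matrix.ProjectiveSpecialLinearGroup (Fin 2) F), Function.Surjective π →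
      Fintype.card F ∈ Cfsg.charDegrees S ∧ Fintype.card F + 1 ∈ Cfsg.charDegrees S ∧
      Fintype.card F - 1 ∈ Cfsg.charDegrees S := by
    intro π hπ
    have key : ∀ (χ : Cfsg.IrrCharacter (Matrix.ProjectiveSpecialLinearGroup (Fin 2) F)) (d : ℕ),
        (χ : Matrix.ProjectiveSpecialLinearGroup (Fin 2) F → ℂ) 1 = (d : ℂ) → d ∈ Cfsg.charDegrees S :=
      fun χ d hd => ⟨⟨_, IsIrr.comp_surjective π hπ χ.2⟩, charDegree_natCast (by
        show χ.1 (π 1) = _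
        rw [map_one]; exact hd)⟩
    obtain ⟨χ₀, h₀⟩ := exists_psl_stSL (F := F)
    obtain ⟨χ₁, h₁⟩ := exists_psl_succ h4
    obtain ⟨χ₂, h₂⟩ := exists_psl_pred h4'
    exact ⟨key χ₀ _ ((h₀ 1).trans stSL_one), key χ₁ _ h₁, key χ₂ _ h₂⟩
  rcases hS with ⟨⟨e⟩⟩ | ⟨⟨e⟩⟩
  · exact ⟨hup e.toMonoidHom e.surjective,
      hdown (e.symm.toMonoidHom.comp (QuotientGroup.mk' _))
        (e.symm.surjective.comp (QuotientGroup.mk'_surjective _))⟩
  · exact ⟨hup ((QuotientGroup.mk' _).comp e.toMonoidHom)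
        ((QuotientGroup.mk'_surjective _).comp e.surjective),
      hdown e.symm.toMonoidHom e.symm.surjective⟩

theorem graph_of_degrees {q t n : ℕ} (ht : t.Prime) (hn : 0 < n) (hqt : q = t ^ n)
    (hD : q ∈ Cfsg.charDegrees S ∧ q + 1 ∈ Cfsg.charDegrees S ∧ q - 1 ∈ Cfsg.charDegrees S)
    (hall : ∀ d ∈ Cfsg.charDegrees S, d = q ∨ d ∣ q + 1 ∨ d ∣ q - 1) :
    Cfsg.degreePrimes S = {r : ℕ | r.Prime ∧ r ∣ q * (q ^ 2 - 1)} ∧
    ∀ r s : ℕ, (Cfsg.degreeGraph S).Adj r s ↔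
      (r ≠ s ∧ r.Prime ∧ s.Prime ∧ ((r ∣ q + 1 ∧ s ∣ q + 1) ∨ (r ∣ q - 1 ∧ s ∣ q - 1))) := by
  obtain ⟨h0, h1, h2⟩ := hD
  have hsq : q ^ 2 - 1 = (q + 1) * (q - 1) := by rw [← Nat.sq_sub_sq, one_pow]
  refine ⟨?_, fun r s => ?_⟩
  · ext r
    simp only [Cfsg.degreePrimes, Set.mem_setOf_eq, hsq]
    constructor
    · rintro ⟨hr, d, hd, hrd⟩
      refine ⟨hr, ?_⟩
      rcases hall d hd with rfl | h | h
      · exact dvd_mul_of_dvd_left hrd _
      · exact dvd_mul_of_dvd_right (dvd_mul_of_dvd_left (hrd.trans h) _) _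
      · exact dvd_mul_of_dvd_right (dvd_mul_of_dvd_right (hrd.trans h) _) _
    · rintro ⟨hr, hd⟩
      refine ⟨hr, ?_⟩
      rcases hr.dvd_mul.1 hd with h | h
      · exact ⟨q, h0, h⟩
      · rcases hr.dvd_mul.1 h with h | h
        · exact ⟨q + 1, h1, h⟩
        · exact ⟨q - 1, h2, h⟩
  · show (r ≠ s ∧ r.Prime ∧ s.Prime ∧ ∃ d ∈ Cfsg.charDegrees S, r * s ∣ d) ↔ _
    refine and_congr_right fun hne => and_congr_right fun hr => and_congr_right fun hs => ?_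
    have hcop : Nat.Coprime r s := (Nat.coprime_primes hr hs).2 hne
    constructor
    · rintro ⟨d, hd, hrs⟩
      rcases hall d hd with rfl | h | h
      · exfalso
        rw [hqt] at hrs
        have er := (Nat.prime_dvd_prime_iff_eq hr ht).1 (hr.dvd_of_dvd_pow ((dvd_mul_right r s).trans hrs))
        have es := (Nat.prime_dvd_prime_iff_eq hs ht).1 (hs.dvd_of_dvd_pow ((dvd_mul_left s r).trans hrs))
        exact hne (er.trans es.symm)
      · exact Or.inl ⟨((dvd_mul_right r s).trans hrs).trans h, ((dvd_mul_left s r).trans hrs).trans h⟩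
      · exact Or.inr ⟨((dvd_mul_right r s).trans hrs).trans h, ((dvd_mul_left s r).trans hrs).trans h⟩
    · rintro (h | h)
      · exact ⟨q + 1, h1, hcop.mul_dvd_of_dvd_of_dvd h.1 h.2⟩
      · exact ⟨q - 1, h2, hcop.mul_dvd_of_dvd_of_dvd h.1 h.2⟩

end Graph

end CfsgLib.SL2Char
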