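import Cfsg.Agent.Lib.Known.SL2Char.TableSLOdd
import Cfsg.Agent.Lib.Known.SL2Char.PSLDegrees
import Cfsg.Agent.Lib.Classical.SL2Sylow
import Cfsg.Agent.Lib.Blocks.DerivedQuotient
import Cfsg.Agent.Lib.Blocks.DefectNumber
import Cfsg.Agent.Lib.Blocks.MajorSubsection
import Cfsg.Agent.Lib.Blocks.Kernel

/-!
# The blocks of `SL₂` in the defining characteristic
-/

set_option autoImplicit false

namespace CfsgLib.SL2Char

open Matrix CfsgLib.Char CfsgLib.PLocal.SLTwo Cfsg

variable {F : Type*} [Field F] [Fintype F] [DecidableEq F] {p : ℕ} [Fact p.Prime] [CharP F p]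

theorem U_pow_char (t : F) : (U t) ^ p = (1 : S2 F) := by
  rw [U_pow, CharP.cast_eq_zero, zero_mul, U_zero]

theorem orderOf_U_one : orderOf (U (1 : F)) = p :=
  orderOf_eq_prime (U_pow_char 1) fun h => by
    have := congrArg (fun x : S2 F => x.1 0 1) h
    simp at this

/-- A `p`-regular element commuting with `U 1` is scalar. -/
theorem eq_one_or_neg_one_of_regular {g : S2 F} (h2 : (2 : F) ≠ 0) (hg : ¬ p ∣ orderOf g)
    (hc : g * U 1 = U 1 * g) : g = 1 ∨ g = -1 := by
  have hU := congrArg (fun y : S2 F => (y.1 0 0, y.1 0 1)) hc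
  simp [m00, m01] at hU
  obtain ⟨h10, h11⟩ := hU
  have hdet := det2 g
  have h11' : g.1 1 1 = g.1 0 0 := by linear_combination -h11
  rw [h10, h11', mul_zero, sub_zero] at hdet
  have hsq : g * g = U (2 * g.1 0 0 * g.1 0 1) := by
    refine Subtype.ext (Matrix.ext fun i j => ?_)
    fin_cases i <;> fin_cases j <;>
      simp [Matrix.mul_apply, Fin.sum_univ_two, U, h10, h11', hdet] <;> ring
  have hs : orderOf (g * g) ∣ p := orderOf_dvd_of_pow_eq_one (hsq ▸ U_pow_char _)
  have h1 : g * g = 1 := by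
    rcases (Nat.dvd_prime Fact.out).1 hs with h | h
    · exact orderOf_eq_one_iff.1 h
    · refine absurd ?_ hg
      rw [← h, ← pow_two]
      exact orderOf_pow_dvd 2
  rw [hsq] at h1
  have hb : (U (2 * g.1 0 0 * g.1 0 1) : S2 F).1 0 1 = 0 := by rw [h1]; simp
  have ha : g.1 0 0 ≠ 0 := left_ne_zero_of_mul_eq_one hdet
  have hb0 : g.1 0 1 = 0 := by
    simp [U] at hb
    tauto
  refine eq_one_or_neg_one_of_mem_center (Subgroup.mem_center_iff.2 fun y => ?_)
  refine Subtype.ext (Matrix.ext fun i j => ?_)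
  fin_cases i <;> fin_cases j <;>
    simp [Matrix.mul_apply, Fin.sum_univ_two, h10, h11', hb0] <;> ring

theorem dvd_index_centralizer {g : S2 F} (h2 : (2 : F) ≠ 0) (hg : ¬ p ∣ orderOf g)
    (hn : g ≠ 1 ∧ g ≠ -1) : p ∣ (Subgroup.centralizer ({g} : Set (S2 F))).index := by
  classical
  by_contra h
  set C := Subgroup.centralizer ({g} : Set (S2 F))
  obtain ⟨Q⟩ := (inferInstance : Nonempty (Sylow p C))
  have hcard : Nat.card ((Q : Subgroup C).map C.subtype) =
      p ^ (Nat.card (S2 F)).factorization p := by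
    rw [Subgroup.card_map_of_injective C.subtype_injective, Q.card_eq_multiplicity,
      ← C.card_mul_index, Nat.factorization_mul Nat.card_pos.ne' Subgroup.index_ne_zero_of_finite,
      Finsupp.add_apply, Nat.factorization_eq_zero_of_not_dvd h, add_zero]
  set S : Sylow p (S2 F) := Sylow.ofCard _ hcard with hS
  have hU : IsPGroup p (Subgroup.zpowers (U (1 : F))) := by
    refine IsPGroup.of_card (n := 1) ?_
    rw [Nat.card_zpowers, orderOf_U_one, pow_one]
  obtain ⟨T, hT⟩ := hU.exists_le_sylow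
  obtain ⟨x, hx⟩ := MulAction.exists_smul_eq (S2 F) T S
  have hmem : x * U 1 * x⁻¹ ∈ C := by
    have h1 : MulAut.conj x • (U (1 : F)) ∈ (x • T : Sylow p (S2 F)) := by
      rw [Sylow.smul_def]
      exact Subgroup.smul_mem_pointwise_smul _ _ _ (hT (Subgroup.mem_zpowers _))
    rw [hx, hS] at h1
    obtain ⟨c, -, hc⟩ := Subgroup.mem_map.1 (show MulAut.conj x • (U (1 : F)) ∈
      (Q : Subgroup C).map C.subtype from h1)
    rw [MulAut.smul_def, MulAut.conj_apply] at hc
    exact hc ▸ c.2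
  rw [Subgroup.mem_centralizer_singleton_iff] at hmem
  have hreg : ¬ p ∣ orderOf (x⁻¹ * g * x) := by
    rwa [show x⁻¹ * g * x = MulAut.conj x⁻¹ g by rw [MulAut.conj_apply, inv_inv],
      MulEquiv.orderOf_eq]
  have hcm : x⁻¹ * g * x * U 1 = U 1 * (x⁻¹ * g * x) := by
    calc x⁻¹ * g * x * U 1 = x⁻¹ * (g * (x * U 1 * x⁻¹)) * x := by group
      _ = x⁻¹ * (x * U 1 * x⁻¹ * g) * x := by rw [hmem]
      _ = _ := by group
  have hback : g = x * (x⁻¹ * g * x) * x⁻¹ := by group
  rcases eq_one_or_neg_one_of_regular h2 hreg hcm with e | e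
  · exact hn.1 (by rw [hback, e]; group)
  · exact hn.2 (by
      rw [hback, e, (commute_neg_one x : x * -1 = -1 * x)]
      group)

variable [Fintype (S2 F)]

omit [Fintype F] [DecidableEq F] in
theorem apply_neg_one_sign (χ : IrrCharacter (S2 F)) :
    (χ : S2 F → ℂ) (-1) = (χ : S2 F → ℂ) 1 ∨ (χ : S2 F → ℂ) (-1) = -(χ : S2 F → ℂ) 1 := by
  have h := CfsgLib.Blocks.apply_central_mul χ (z := (-1 : S2 F)) (fun g => commute_neg_one g) (-1)
  rw [show (-1 : S2 F) * -1 = 1 by simp] at h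
  exact mul_self_eq_mul_self_iff.1 h.symm

omit [Fintype F] [DecidableEq F] in
theorem centralChar_neg_one (χ : IrrCharacter (S2 F)) :
    centralChar (χ : S2 F → ℂ) (-1) = (χ : S2 F → ℂ) (-1) / (χ : S2 F → ℂ) 1 := by
  have h : Subgroup.centralizer ({(-1 : S2 F)} : Set (S2 F)) = ⊤ := by
    rw [eq_top_iff]
    intro y _
    rw [Subgroup.mem_centralizer_singleton_iff]
    exact commute_neg_one y
  rw [centralChar, h, Subgroup.index_top, Nat.cast_one, one_mul]

/-- Degree `q` only occurs for the Steinberg character, the others are prime to `p`. -/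
theorem degree_dichotomy (hodd : Odd (Fintype.card F)) (χ : IrrCharacter (S2 F)) :
    (χ : S2 F → ℂ) = stSL ∨
      (¬ p ∣ charDegree (χ : S2 F → ℂ) ∧ (χ : S2 F → ℂ) 1 ≠ (Fintype.card F : ℂ)) := by
  classical
  have := Fintype.ofFinite (CfsgLib.SL2Char.Orbits (⊥ : Subgroup Fˣ))
  have := Fintype.ofFinite (Matrix.GeneralLinearGroup (Fin 2) F)
  obtain ⟨g₀, hg₀⟩ := exists_elliptic (F := F)
  obtain ⟨ψ, hψ⟩ := exists_addChar (F := F)
  obtain ⟨θ₀, a, b, c, d, P, C, -, -, -, -, -, -, ha, hb, hc, hd, -, -, -, -, -, vP, vC, -, -, -,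
    hall⟩ := tableSLOdd hg₀ hψ hodd
  have hp : p.Prime := Fact.out
  obtain ⟨k, -, hk⟩ := FiniteField.card F p
  have hpq : p ∣ Fintype.card F := hk ▸ dvd_pow_self p k.ne_zero
  have hq := Fintype.one_lt_card (α := F)
  have hd1 := CfsgLib.Blocks.apply_one_eq_charDegree χ
  have key : ∀ n : ℕ, n ≠ Fintype.card F → (∀ h : p ∣ n, False) →
      (χ : S2 F → ℂ) 1 = (n : ℂ) →
      ¬ p ∣ charDegree (χ : S2 F → ℂ) ∧ (χ : S2 F → ℂ) 1 ≠ (Fintype.card F : ℂ) := by
    intro n hn hnd e
    rw [hd1, Nat.cast_inj] at e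
    rw [hd1, e, Ne, Nat.cast_inj]
    exact ⟨hnd, hn⟩
  obtain ⟨m, hm⟩ := id hodd
  have hnd1 : ∀ r, r ∣ Fintype.card F + 1 → ¬ p ∣ r := fun r hr h =>
    hp.not_dvd_one ((Nat.dvd_add_right hpq).1 (h.trans hr))
  have hnd2 : ∀ r, r ∣ Fintype.card F - 1 → ¬ p ∣ r := fun r hr h =>
    hp.not_dvd_one (by
      have := Nat.dvd_sub hpq (h.trans hr)
      rwa [show Fintype.card F - (Fintype.card F - 1) = 1 by omega] at this)
  have hA : ∀ {X σ}, Half ψ 1 σ X (χ : S2 F → ℂ) → (χ : S2 F → ℂ) 1 = ((m + 1 : ℕ) : ℂ) := fun h => by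
    have e := h.deg
    rw [hm] at e
    push_cast at e ⊢
    linear_combination e / 2
  have hC : ∀ {X σ}, Half ψ (-1) σ X (χ : S2 F → ℂ) → (χ : S2 F → ℂ) 1 = ((m : ℕ) : ℂ) := fun h => by
    have e := h.deg
    rw [hm] at e
    push_cast at e ⊢
    linear_combination e / 2
  rcases (hall _).1 χ.2 with h | h | h | h | h | h | h | h
  · exact Or.inr (key 1 (by omega) hp.not_dvd_one (by rw [h]; simp))
  · exact Or.inl h
  · exact Or.inr (key (Fintype.card F + 1) (by omega) (hnd1 _ dvd_rfl)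
      (by rw [(vP _ h).2]; push_cast; ring))
  · exact Or.inr (key (Fintype.card F - 1) (by omega) (hnd2 _ dvd_rfl)
      (by rw [(vC _ h).2, Nat.cast_sub (by omega), Nat.cast_one]))
  · exact Or.inr (key (m + 1) (by omega) (hnd1 _ ⟨2, by omega⟩) (hA (h ▸ ha)))
  · exact Or.inr (key (m + 1) (by omega) (hnd1 _ ⟨2, by omega⟩) (hA (h ▸ hb)))
  · exact Or.inr (key m (by omega) (hnd2 _ ⟨2, by omega⟩) (hC (h ▸ hc)))
  · exact Or.inr (key m (by omega) (hnd2 _ ⟨2, by omega⟩) (hC (h ▸ hd)))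

theorem stSL_neg_one : stSL (-1 : S2 F) = (Fintype.card F : ℂ) := by
  rw [stSL, Pi.sub_apply, prSL_neg, prSL_one, MulChar.one_apply (by simp)]
  simp

section Blocks

variable {M : Ideal AlgInt} (hM : IsPModular p M) (hodd : Odd (Fintype.card F))

/-- The Steinberg character. -/
noncomputable def stIrr : IrrCharacter (S2 F) := ⟨stSL, isIrr_stSL⟩

include hM in
theorem blockOf_stIrr : blockOf M (stSL : S2 F → ℂ) = {stIrr} := by
  have : M.IsPrime := hM.2.1.isPrime
  refine CfsgLib.Blocks.blockOf_eq_singleton hM (stIrr : IrrCharacter (S2 F)) ?_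
  have hd : charDegree ((stIrr : IrrCharacter (S2 F)) : S2 F → ℂ) = Fintype.card F := by
    simp [charDegree, stIrr, stSL_one]
  rw [hd, CfsgLib.Classical.Two.card_SL_two, Nat.mul_div_cancel_left _ Fintype.card_pos]
  obtain ⟨k, -, hk⟩ := FiniteField.card F p
  intro h
  have hq : p ∣ Fintype.card F ^ 2 := dvd_pow (hk ▸ dvd_pow_self p k.ne_zero) two_ne_zero
  have := Nat.dvd_sub hq h
  rw [show Fintype.card F ^ 2 - (Fintype.card F ^ 2 - 1) = 1 by
    have := pow_pos (Fintype.card_pos (α := F)) 2; omega] at this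
  exact (Fact.out : p.Prime).not_dvd_one this

include hM hodd in
theorem mem_blockOf_iff {χ ψ : IrrCharacter (S2 F)} (hχ : (χ : S2 F → ℂ) ≠ stSL) :
    ψ ∈ blockOf M (χ : S2 F → ℂ) ↔ (ψ : S2 F → ℂ) ≠ stSL ∧
      (ψ : S2 F → ℂ) (-1) / (ψ : S2 F → ℂ) 1 = (χ : S2 F → ℂ) (-1) / (χ : S2 F → ℂ) 1 := by
  classical
  have : M.IsPrime := hM.2.1.isPrime
  have hp2 : p ≠ 2 := by
    rintro rfl
    obtain ⟨k, -, hk⟩ := FiniteField.card F 2
    exact Nat.not_even_iff_odd.2 hodd (hk ▸ (Nat.even_pow.2 ⟨even_two, k.ne_zero⟩))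
  constructor
  · intro h
    refine ⟨fun e => hχ ?_, ?_⟩
    · have h' : χ ∈ blockOf M (ψ : S2 F → ℂ) := CfsgLib.Blocks.SameBlock.symm' h
      rw [e, blockOf_stIrr hM] at h'
      exact congrArg Subtype.val (Set.mem_singleton_iff.1 h')
    by_contra hne
    have h1 := CfsgLib.Char.IsIrr.apply_one_ne_zero χ.2
    have h2 := CfsgLib.Char.IsIrr.apply_one_ne_zero ψ.2
    have e2 : MemLocalIdeal M ((2 : ℕ) : ℂ) := by
      rcases apply_neg_one_sign χ with e | e <;> rcases apply_neg_one_sign ψ with e' | e'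
      · exact absurd (by rw [e, e', div_self h1, div_self h2]) hne
      · have := h (-1)
        rw [centralChar_neg_one, centralChar_neg_one, e, e', neg_div, div_self h1, div_self h2] at this
        norm_num at this ⊢
        exact this
      · have := (CfsgLib.Blocks.SameBlock.symm' h) (-1)
        rw [centralChar_neg_one, centralChar_neg_one, e, e', neg_div, div_self h1, div_self h2] at this
        norm_num at this ⊢
        exact this
      · exact absurd (by rw [e, e', neg_div, neg_div, div_self h1, div_self h2]) hne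
    exact hp2 ((Nat.prime_dvd_prime_iff_eq Fact.out Nat.prime_two).1
      ((CfsgLib.Blocks.memLocalIdeal_natCast_iff hM).1 e2))
  · rintro ⟨hψ, hsign⟩
    refine CfsgLib.Blocks.sameBlock_of_regular_centralizer hM (⊥ : Subgroup (S2 F)) IsPGroup.of_bot
      (χ := χ) (ψ := ψ) fun g _ hg => ?_
    by_cases h1 : g = 1
    · subst h1
      refine congrArg (CfsgLib.Blocks.resHom M) (Subtype.ext ?_)
      change centralChar (χ : S2 F → ℂ) 1 = centralChar (ψ : S2 F → ℂ) 1
      rw [centralChar, centralChar, mul_div_assoc, mul_div_assoc,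
        div_self (CfsgLib.Char.IsIrr.apply_one_ne_zero χ.2),
        div_self (CfsgLib.Char.IsIrr.apply_one_ne_zero ψ.2)]
    by_cases hm1 : g = -1
    · subst hm1
      refine congrArg (CfsgLib.Blocks.resHom M) (Subtype.ext ?_)
      change centralChar (χ : S2 F → ℂ) (-1) = centralChar (ψ : S2 F → ℂ) (-1)
      rw [centralChar_neg_one, centralChar_neg_one, hsign]
    have h2 : (2 : F) ≠ 0 := Ring.two_ne_zero (by rw [ringChar.eq F p]; exact hp2)
    have hdvd := dvd_index_centralizer h2 hg ⟨h1, hm1⟩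
    have hzero : ∀ θ : IrrCharacter (S2 F), (θ : S2 F → ℂ) ≠ stSL →
        CfsgLib.Blocks.centralCharBar M θ g = 0 := by
      intro θ hθ
      refine CfsgLib.Blocks.centralCharBar_eq_zero_of_lt hM θ ?_
      rw [Nat.factorization_eq_zero_of_not_dvd ((degree_dichotomy hodd θ).resolve_left hθ).1]
      exact Nat.Prime.factorization_pos_of_dvd Fact.out Subgroup.index_ne_zero_of_finite hdvd
    rw [hzero χ hχ, hzero ψ hψ]

end Blocks

end CfsgLib.SL2Char
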