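import Cfsg.Agent.Lib.Known.SL2Char.Tori

/-!
# Split and nonsplit tori of `SL₂`: normalizers and Sylow subgroups of odd order
-/

namespace CfsgLib.SL2Char

open Matrix CfsgLib.PLocal.SLTwo

variable {F : Type*} [Field F]

theorem nonScalar_of_ne {y : S2 F} (h1 : y ≠ 1) (hn : y ≠ -1) : NonScalar y := by
  by_contra h
  exact (scalar_cases h).elim h1 hn

theorem commute_neg_one (y : S2 F) : y * (-1) = (-1) * y := by
  rw [mul_neg, neg_mul, mul_one, one_mul]

theorem neg_one_mem_centralizer (x : S2 F) : (-1 : S2 F) ∈ Subgroup.centralizer ({x} : Set (S2 F)) :=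
  Subgroup.mem_centralizer_singleton_iff.2 (commute_neg_one x).symm

theorem two_dvd_card_centralizer (h2 : (2 : F) ≠ 0) [Finite F] (x : S2 F) :
    2 ∣ Nat.card (Subgroup.centralizer ({x} : Set (S2 F))) := by
  have h : orderOf (-1 : S2 F) = 2 :=
    orderOf_eq_prime CfsgLib.PLocal.SLTwo.neg_one_sq (Classical.Two.neg_one_ne_one_SL h2)
  have h' := Subgroup.orderOf_dvd_natCard _ (neg_one_mem_centralizer x)
  rwa [h] at h'

theorem map_conj_centralizer {G : Type*} [Group G] (h x : G) :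
    (Subgroup.centralizer ({x} : Set G)).map (MulAut.conj h).toMonoidHom =
      Subgroup.centralizer ({h * x * h⁻¹} : Set G) := by
  ext y
  rw [Subgroup.mem_map, Subgroup.mem_centralizer_singleton_iff]
  constructor
  · rintro ⟨z, hz, rfl⟩
    rw [Subgroup.mem_centralizer_singleton_iff] at hz
    show h * z * h⁻¹ * (h * x * h⁻¹) = h * x * h⁻¹ * (h * z * h⁻¹)
    calc h * z * h⁻¹ * (h * x * h⁻¹) = h * (z * x) * h⁻¹ := by group
      _ = h * (x * z) * h⁻¹ := by rw [hz]
      _ = h * x * h⁻¹ * (h * z * h⁻¹) := by group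
  · intro hy
    refine ⟨h⁻¹ * y * h, Subgroup.mem_centralizer_singleton_iff.2 ?_, ?_⟩
    · calc h⁻¹ * y * h * x = h⁻¹ * (y * (h * x * h⁻¹)) * h := by group
        _ = h⁻¹ * (h * x * h⁻¹ * y) * h := by rw [hy]
        _ = x * (h⁻¹ * y * h) := by group
    · show h * (h⁻¹ * y * h) * h⁻¹ = y
      group

theorem nonScalar_conj {x : S2 F} (hx : NonScalar x) (h : S2 F) : NonScalar (h * x * h⁻¹) := by
  refine nonScalar_of_ne (fun e => ?_) (fun e => ?_)
  · exact not_nonScalar_one (conj_eq_one_iff.1 e ▸ hx)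
  · refine not_nonScalar_neg_one ((?_ : x = -1) ▸ hx)
    calc x = h⁻¹ * (h * x * h⁻¹) * h := by group
      _ = -1 := by rw [e, commute_neg_one, mul_assoc, inv_mul_cancel, mul_one]

/-- Classes of the normalizer of a torus. -/
theorem card_conjClasses_normalizer [Finite F] (h2 : (2 : F) ≠ 0) {x w : S2 F} (hx : NonScalar x)
    (hd : tr x ^ 2 ≠ 4) (hw : w * x * w⁻¹ = x⁻¹) :
    2 * Nat.card (ConjClasses
        (Subgroup.normalizer (Subgroup.centralizer ({x} : Set (S2 F)) : Set (S2 F)))) =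
      Nat.card (Subgroup.centralizer ({x} : Set (S2 F))) + 6 := by
  let e := Subgroup.subgroupOfEquivOfLe
    (Subgroup.le_normalizer (H := Subgroup.centralizer ({x} : Set (S2 F))))
  have := Classical.Two.isCyclic_centralizer hx hd
  have := isCyclic_of_surjective e.symm e.symm.surjective
  rw [← Nat.card_congr e.toEquiv]
  refine card_conjClasses_of_inverting _ ?_ ?_ fun n hn t ht => Subtype.ext ?_
  · have h := ((Subgroup.centralizer ({x} : Set (S2 F))).subgroupOf
      (Subgroup.normalizer (Subgroup.centralizer ({x} : Set (S2 F)) : Set (S2 F)))).index_mul_card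
    rw [card_normalizer h2 hx hd hw, Nat.card_congr e.toEquiv] at h
    exact Nat.eq_of_mul_eq_mul_right Nat.card_pos h
  · rw [Nat.card_congr e.toEquiv]
    exact two_dvd_card_centralizer h2 x
  · exact conj_eq_inv hx
      ((mem_normalizer_cases h2 hx hd n.2).resolve_left fun h => hn h) ht

/-! ### The split torus -/

/-- `diag(a, a⁻¹)`. -/
def diagS (a : Fˣ) : S2 F := ⟨!![(a : F), 0; 0, ((a⁻¹ : Fˣ) : F)], by simp [Matrix.det_fin_two_of]⟩

/-- The Weyl element. -/
def weylS : S2 F := ⟨!![0, 1; -1, 0], by simp [Matrix.det_fin_two_of]⟩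

@[simp] theorem weylS00 : (weylS : S2 F).1 0 0 = 0 := rfl
@[simp] theorem weylS01 : (weylS : S2 F).1 0 1 = 1 := rfl
@[simp] theorem weylS10 : (weylS : S2 F).1 1 0 = -1 := rfl
@[simp] theorem weylS11 : (weylS : S2 F).1 1 1 = 0 := rfl
@[simp] theorem diagS00 (a : Fˣ) : (diagS a).1 0 0 = a := rfl
@[simp] theorem diagS01 (a : Fˣ) : (diagS a).1 0 1 = 0 := rfl
@[simp] theorem diagS10 (a : Fˣ) : (diagS a).1 1 0 = 0 := rfl
@[simp] theorem diagS11 (a : Fˣ) : (diagS a).1 1 1 = ((a⁻¹ : Fˣ) : F) := rfl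

section Diag

variable {d : S2 F} (h01 : d.1 0 1 = 0) (h10 : d.1 1 0 = 0) (hda : d.1 0 0 ^ 2 ≠ 1)
include h01 h10 hda

theorem nonScalar_diag : NonScalar d := fun h => hda (by
  have e := det2 d
  rw [h01, h10] at e
  rw [← h.2.2] at e
  linear_combination e)

theorem tr_sq_ne_diag : tr d ^ 2 ≠ 4 := fun h => by
  have e := det2 d
  rw [h01, h10] at e
  have h1 : (d.1 0 0 - d.1 1 1) * (d.1 0 0 - d.1 1 1) = 0 := by
    simp only [tr] at h
    linear_combination h - 4 * e
  refine hda ?_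
  rw [← sub_eq_zero.1 (mul_self_eq_zero.1 h1)] at e
  linear_combination e

theorem mem_centralizer_diag (g : S2 F) :
    g ∈ Subgroup.centralizer ({d} : Set (S2 F)) ↔ g.1 0 1 = 0 ∧ g.1 1 0 = 0 := by
  rw [Subgroup.mem_centralizer_singleton_iff]
  constructor
  · intro h
    obtain ⟨a, b, -, e01, e10, -⟩ := exists_affine (nonScalar_diag h01 h10 hda) h.symm
    exact ⟨by rw [e01, h01, mul_zero], by rw [e10, h10, mul_zero]⟩
  · rintro ⟨e01, e10⟩
    refine ext2 ?_ ?_ ?_ ?_ <;> simp only [m00, m01, m10, m11, h01, h10, e01, e10] <;> ring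

theorem card_centralizer_diag [Finite F] :
    Nat.card (Subgroup.centralizer ({d} : Set (S2 F))) = Nat.card F - 1 := by
  rw [← Nat.card_units]
  refine (Nat.card_congr (Equiv.ofBijective
    (fun a : Fˣ => (⟨diagS a, (mem_centralizer_diag h01 h10 hda _).2 ⟨rfl, rfl⟩⟩ :
      Subgroup.centralizer ({d} : Set (S2 F)))) ⟨fun a b h => ?_, fun g => ?_⟩)).symm
  · exact Units.ext (congrArg (fun y : Subgroup.centralizer ({d} : Set (S2 F)) => y.1.1 0 0) h)
  · obtain ⟨e01, e10⟩ := (mem_centralizer_diag h01 h10 hda _).1 g.2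
    have e := det2 g.1
    rw [e01, e10, mul_zero, sub_zero] at e
    refine ⟨Units.mkOfMulEqOne _ _ e, Subtype.ext (ext2 rfl e01.symm e10.symm ?_)⟩
    rw [diagS11]
    exact Units.inv_eq_of_mul_eq_one_right e

omit hda in
theorem weylS_conj_diag : weylS * d * weylS⁻¹ = d⁻¹ := by
  refine ext2 ?_ ?_ ?_ ?_ <;>
    simp [m00, m01, m10, m11, i00, i01, i10, i11, h01, h10]

end Diag

theorem exists_unit_sq_ne_one [Fintype F] (hq : 3 < Fintype.card F) : ∃ a : Fˣ, (a : F) ^ 2 ≠ 1 := by
  obtain ⟨a, ha⟩ := IsCyclic.exists_ofOrder_eq_natCard (α := Fˣ)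
  refine ⟨a, fun h => ?_⟩
  have h' : a ^ 2 = 1 := Units.ext (by simpa using h)
  have := Nat.le_of_dvd (by norm_num) (orderOf_dvd_of_pow_eq_one h')
  rw [ha, Nat.card_units, Nat.card_eq_fintype_card] at this
  omega

/-! ### The nonsplit torus -/

theorem exists_elliptic_SL [Fintype F] : ∃ x : S2 F, Elliptic (x : Matrix (Fin 2) (Fin 2) F) := by
  classical
  obtain ⟨g, hg⟩ := exists_elliptic (F := F)
  set K := (Subgroup.centralizer ({g} : Set (G2 F))).comap
    (Matrix.SpecialLinearGroup.toGL : S2 F →* G2 F) with hK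
  have hcard := card_centralizer_comap hg
  rw [← hK] at hcard
  obtain ⟨k, hk, hk1, hkn⟩ : ∃ k ∈ K, k ≠ 1 ∧ k ≠ -1 := by
    by_contra hcon
    push Not at hcon
    have hsub : (K : Set (S2 F)) ⊆ {1, -1} := fun k hk => by
      by_cases h : k = 1
      · exact Or.inl h
      · exact Or.inr (hcon k hk h)
    have h := Set.ncard_le_ncard hsub
    rw [← Nat.card_coe_set_eq] at h
    have h' := Set.ncard_insert_le (1 : S2 F) {-1}
    rw [Set.ncard_singleton] at h'
    have hq : 1 < Fintype.card F := Fintype.one_lt_card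
    change Nat.card K ≤ _ at h
    omega
  obtain ⟨a, b, hab⟩ := (mem_centralizer_iff_affine hg _).1 hk
  refine ⟨k, ?_⟩
  change (k : Matrix (Fin 2) (Fin 2) F) = _ at hab
  rw [hab]
  refine hg.affine fun hb => nonScalar_of_ne hk1 hkn ?_
  refine ⟨?_, ?_, ?_⟩ <;> simp [hab, hb]

theorem exists_inverter [Fintype F] {x : S2 F} (hx : Elliptic (x : Matrix (Fin 2) (Fin 2) F)) :
    ∃ w : S2 F, w * x * w⁻¹ = x⁻¹ :=
  exists_conj_SL hx (by simp [tr, i00, i11, add_comm])

/-- All elliptic elements of `SL₂` are conjugate into one torus. -/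
theorem exists_conj_mem [Fintype F] {x y : S2 F} (hx : Elliptic (x : Matrix (Fin 2) (Fin 2) F))
    (hy : Elliptic (y : Matrix (Fin 2) (Fin 2) F)) :
    ∃ h : S2 F, h * y * h⁻¹ ∈ Subgroup.centralizer ({x} : Set (S2 F)) := by
  obtain ⟨μ, hμ, hμd⟩ := exists_embedding (g := Matrix.SpecialLinearGroup.toGL x) hx
  obtain ⟨ν, -, hνd⟩ := exists_embedding (g := Matrix.SpecialLinearGroup.toGL y) hy
  let f : Subgroup.centralizer ({x} : Set (S2 F)) →*
      Subgroup.centralizer ({Matrix.SpecialLinearGroup.toGL x} : Set (G2 F)) :=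
    (Matrix.SpecialLinearGroup.toGL.comp (Subgroup.centralizer ({x} : Set (S2 F))).subtype).codRestrict
      _ fun t => by
        have h := t.2
        rw [Subgroup.mem_centralizer_singleton_iff] at h ⊢
        simp only [MonoidHom.comp_apply, Subgroup.coe_subtype, ← map_mul, h]
  have hf : Function.Injective f := fun a b h => by
    exact Subtype.ext (Matrix.SpecialLinearGroup.toGL_injective (congrArg Subtype.val h))
  have := Classical.Two.isCyclic_centralizer (nonScalar_of_elliptic hx) (tr_sq_ne_of_elliptic hx)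
  obtain ⟨z, hz⟩ := IsCyclic.exists_ofOrder_eq_natCard (α := Subgroup.centralizer ({x} : Set (S2 F)))
  rw [card_centralizer_SL hx] at hz
  have hord : orderOf (μ (f z)) = Fintype.card F + 1 := by
    rw [← MonoidHom.comp_apply, orderOf_injective (μ.comp f) (hμ.comp hf), hz]
  let y' : Subgroup.centralizer ({Matrix.SpecialLinearGroup.toGL y} : Set (G2 F)) :=
    ⟨Matrix.SpecialLinearGroup.toGL y, Subgroup.mem_centralizer_singleton_iff.2 rfl⟩
  have hy1 : ν y' ^ (Fintype.card F + 1) = 1 := by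
    rw [← (hνd y').1]
    show algebraMap F _ (y : Matrix (Fin 2) (Fin 2) F).det = 1
    rw [y.2, map_one]
  obtain ⟨i, -, hi⟩ :=
    (hord ▸ IsPrimitiveRoot.orderOf (μ (f z))).eq_pow_of_pow_eq_one hy1
  have htr : tr ((z ^ i : Subgroup.centralizer ({x} : Set (S2 F))) : S2 F) = tr y := by
    refine (algebraMap F (AlgebraicClosure F)).injective ?_
    rw [tr_eq_trace, tr_eq_trace]
    have e1 := (hμd (f (z ^ i))).2
    have e2 := (hνd y').2
    rw [map_pow, map_pow, hi] at e1
    rw [← map_pow] at e1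
    exact e1.trans e2.symm
  obtain ⟨h, hh⟩ := exists_conj_SL hy htr
  exact ⟨h, hh ▸ (z ^ i).2⟩

/-! ### Sylow subgroups of odd order -/

theorem sylow_odd_torus [Finite F] (h2 : (2 : F) ≠ 0) {ℓ : ℕ} [Fact ℓ.Prime] (hℓ : ℓ ≠ 2) {x w : S2 F}
    (hx : NonScalar x) (hd : tr x ^ 2 ≠ 4) (hw : w * x * w⁻¹ = x⁻¹)
    (hdvd : ℓ ∣ Nat.card (Subgroup.centralizer ({x} : Set (S2 F))))
    (hidx : ¬ ℓ ∣ (Subgroup.centralizer ({x} : Set (S2 F))).index) (P : Sylow ℓ (S2 F)) :
    Nat.card (Subgroup.centralizer ((P : Subgroup (S2 F)) : Set (S2 F))) =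
        Nat.card (Subgroup.centralizer ({x} : Set (S2 F))) ∧
      IsCyclic (Subgroup.centralizer ((P : Subgroup (S2 F)) : Set (S2 F))) ∧
      Nat.card (Subgroup.normalizer ((P : Subgroup (S2 F)) : Set (S2 F))) =
        2 * Nat.card (Subgroup.centralizer ({x} : Set (S2 F))) := by
  obtain ⟨Q⟩ : Nonempty (Sylow ℓ (Subgroup.centralizer ({x} : Set (S2 F)))) := inferInstance
  have hQ' : ¬ ℓ ∣ ((Q : Subgroup _).map (Subgroup.centralizer ({x} : Set (S2 F))).subtype).index := by
    rw [Subgroup.index_map_subtype]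
    exact (Fact.out : ℓ.Prime).not_dvd_mul Q.not_dvd_index hidx
  obtain ⟨h, hh⟩ := MulAction.exists_smul_eq (S2 F) ((Q.isPGroup'.map _).toSylow hQ') P
  set x' := h * x * h⁻¹ with hx'def
  set T := Subgroup.centralizer ({x'} : Set (S2 F)) with hT
  have hle : (P : Subgroup (S2 F)) ≤ T := by
    rw [← hh, hT, ← map_conj_centralizer]
    refine Subgroup.map_mono ?_
    exact Subgroup.map_subtype_le _
  have hcard : Nat.card T = Nat.card (Subgroup.centralizer ({x} : Set (S2 F))) := by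
    rw [hT, ← map_conj_centralizer,
      Subgroup.card_map_of_injective (MulAut.conj h).injective]
  have hx' : NonScalar x' := nonScalar_conj hx h
  have hd' : tr x' ^ 2 ≠ 4 := by rwa [hx'def, tr_conj]
  have hw' : (h * w * h⁻¹) * x' * (h * w * h⁻¹)⁻¹ = x'⁻¹ := by
    calc (h * w * h⁻¹) * x' * (h * w * h⁻¹)⁻¹ = h * (w * x * w⁻¹) * h⁻¹ := by rw [hx'def]; group
      _ = x'⁻¹ := by rw [hw, hx'def]; group
  obtain ⟨⟨t, htP⟩, ht⟩ := exists_prime_orderOf_dvd_card' (G := P) ℓ
    (P.dvd_card_of_dvd_card (hdvd.trans (Subgroup.card_subgroup_dvd_card _)))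
  rw [Subgroup.orderOf_mk] at ht
  have hts : NonScalar t := by
    refine nonScalar_of_ne (fun e => ?_) (fun e => ?_)
    · rw [e, orderOf_one] at ht
      exact (Fact.out : ℓ.Prime).ne_one ht.symm
    · rw [e] at ht
      exact hℓ ((Nat.prime_dvd_prime_iff_eq Fact.out Nat.prime_two).1
        (ht ▸ orderOf_dvd_of_pow_eq_one CfsgLib.PLocal.SLTwo.neg_one_sq))
  have hCt : Subgroup.centralizer ({t} : Set (S2 F)) = T :=
    centralizer_eq_of_commute hx' hts (Subgroup.mem_centralizer_singleton_iff.1 (hle htP)).symm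
  have hCP : Subgroup.centralizer ((P : Subgroup (S2 F)) : Set (S2 F)) = T := by
    refine le_antisymm (hCt ▸ Subgroup.centralizer_le (Set.singleton_subset_iff.2 htP)) fun u hu => ?_
    rw [Subgroup.mem_centralizer_iff]
    intro s hs
    exact commute_of_commute hx' (Subgroup.mem_centralizer_singleton_iff.1 (hle hs)).symm
      (Subgroup.mem_centralizer_singleton_iff.1 hu).symm
  have hTcyc : IsCyclic T := Classical.Two.isCyclic_centralizer hx' hd'
  refine ⟨hCP.symm ▸ hcard, hCP.symm ▸ hTcyc, ?_⟩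
  rw [← hcard, ← card_normalizer h2 hx' hd' hw']
  refine congrArg (fun K : Subgroup (S2 F) => Nat.card K) (le_antisymm (fun n hn => ?_) ?_)
  · refine Subgroup.mem_normalizer_iff.2 fun s => ?_
    show s ∈ T ↔ _ ∈ T
    rw [← hCP, Subgroup.mem_centralizer_iff, Subgroup.mem_centralizer_iff]
    constructor <;> intro hs u hu
    · have hu' : n⁻¹ * u * n ∈ (P : Subgroup (S2 F)) := by
        refine (Subgroup.mem_normalizer_iff.1 hn _).2 ?_
        have e : n * (n⁻¹ * u * n) * n⁻¹ = u := by group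
        rw [e]; exact hu
      calc u * (n * s * n⁻¹) = n * ((n⁻¹ * u * n) * s) * n⁻¹ := by group
        _ = n * (s * (n⁻¹ * u * n)) * n⁻¹ := by rw [hs _ hu']
        _ = n * s * n⁻¹ * u := by group
    · have hu' : n * u * n⁻¹ ∈ (P : Subgroup (S2 F)) := (Subgroup.mem_normalizer_iff.1 hn _).1 hu
      calc u * s = n⁻¹ * ((n * u * n⁻¹) * (n * s * n⁻¹)) * n := by group
        _ = n⁻¹ * ((n * s * n⁻¹) * (n * u * n⁻¹)) * n := by rw [hs _ hu']
        _ = s * u := by group
  · refine fun n hn => Subgroup.mem_normalizer_iff.2 fun s => ?_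
    have key : ∀ m : S2 F, m ∈ Subgroup.normalizer (T : Set (S2 F)) →
        ∀ u ∈ (P : Subgroup (S2 F)), m * u * m⁻¹ ∈ (P : Subgroup (S2 F)) := fun m hm u hu => by
      rcases mem_normalizer_cases h2 hx' hd' hm with hm' | hm'
      · rw [commute_of_commute hx' (Subgroup.mem_centralizer_singleton_iff.1 hm').symm
          (Subgroup.mem_centralizer_singleton_iff.1 (hle hu)).symm, mul_inv_cancel_right]
        exact hu
      · rw [conj_eq_inv hx' hm' (hle hu)]
        exact inv_mem hu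
    refine ⟨key n hn s, fun hs => ?_⟩
    have := key n⁻¹ (inv_mem hn) _ hs
    simpa [mul_assoc] using this

end CfsgLib.SL2Char
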