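import Mathlib
import Cfsg.Prelude.Def_ParabolicCharacters
import Cfsg.Agent.Lib.Char.Clifford

/-!
# Characters of `GL₂` and `SL₂` induced from the upper triangular subgroup

Both groups are handled at once: a group `G` with an injective map `M` to `2 × 2` matrices, its
subgroup `H` of upper triangular elements and the transversal `1`, `!![c, -1; 1, 0]` (`c : F`).
-/

namespace CfsgLib.SL2Char

open Matrix CfsgLib.Char
open scoped ComplexConjugate

variable {F : Type*} [Field F]

/-- The transversal of the upper triangular matrices. -/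
def repMat : Option F → Matrix (Fin 2) (Fin 2) F
  | none => 1
  | some c => !![c, -1; 1, 0]

section Uniform

variable {G : Type*} [Group G] (M : G →* Matrix (Fin 2) (Fin 2) F) {H : Subgroup G}
  (hH : ∀ g, g ∈ H ↔ M g 1 0 = 0) {r : Option F → G} (hr : ∀ o, M (r o) = repMat o)

theorem map_inv_some (hr : ∀ o, M (r o) = repMat o) (c : F) :
    M (r (some c))⁻¹ = !![0, 1; -1, c] := by
  have h1 : M (r (some c))⁻¹ * !![c, -1; 1, 0] = 1 := by
    rw [show !![c, -1; 1, 0] = M (r (some c)) from (hr (some c)).symm, ← map_mul, inv_mul_cancel,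
      map_one]
  have h2 : !![c, -1; 1, 0] * !![0, 1; -1, c] = (1 : Matrix (Fin 2) (Fin 2) F) := by
    ext i j; fin_cases i <;> fin_cases j <;> simp [Matrix.mul_apply]
  rw [← mul_one (M (r (some c))⁻¹), ← h2, ← mul_assoc, h1, one_mul]

theorem map_inv_none (hr : ∀ o, M (r o) = repMat o) : M (r none)⁻¹ = 1 := by
  have h1 : M (r none)⁻¹ * M (r none) = 1 := by rw [← map_mul, inv_mul_cancel, map_one]
  rwa [hr none, repMat, mul_one] at h1

theorem map_conj_some (hr : ∀ o, M (r o) = repMat o) (g : G) (c : F) :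
    M ((r (some c))⁻¹ * g * r (some c)) =
      !![M g 1 0 * c + M g 1 1, -M g 1 0;
        -(M g 0 0 * c + M g 0 1) + c * (M g 1 0 * c + M g 1 1), M g 0 0 - c * M g 1 0] := by
  rw [map_mul, map_mul, map_inv_some M hr, hr, repMat]
  ext i j
  fin_cases i <;> fin_cases j <;> simp [Matrix.mul_apply, Fin.sum_univ_two, Matrix.vecMul, dotProduct] <;> ring

include hH hr in
theorem existsUnique_rep (g : G) : ∃! o, (r o)⁻¹ * g ∈ H := by
  have hdet : M g 1 0 = 0 → M g 0 0 ≠ 0 := fun h h0 => by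
    have h1 := congrArg (fun A : Matrix (Fin 2) (Fin 2) F => A 0 0)
      (show M g⁻¹ * M g = 1 by rw [← map_mul, inv_mul_cancel, map_one])
    simp [Matrix.mul_apply, Fin.sum_univ_two, h, h0] at h1
  have hs : ∀ c, (r (some c))⁻¹ * g ∈ H ↔ M g 0 0 = c * M g 1 0 := fun c => by
    rw [hH, map_mul, map_inv_some M hr]
    simp [Matrix.mul_apply, Fin.sum_univ_two, neg_add_eq_zero]
  have hn : (r none)⁻¹ * g ∈ H ↔ M g 1 0 = 0 := by
    rw [hH, map_mul, map_inv_none M hr, one_mul]
  by_cases h : M g 1 0 = 0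
  · refine ⟨none, hn.2 h, fun o ho => ?_⟩
    rcases o with _ | c
    · rfl
    · exact absurd (by rw [(hs c).1 ho, h, mul_zero]) (hdet h)
  · refine ⟨some (M g 0 0 / M g 1 0), (hs _).2 (by field_simp), fun o ho => ?_⟩
    rcases o with _ | c
    · exact absurd (hn.1 ho) h
    · rw [(hs c).1 ho, mul_div_cancel_right₀ _ h]

variable [Fintype G] [Fintype F] [DecidableEq F]

include hH in
theorem isClassFunction_diag (φ : F → F → ℂ) :
    Cfsg.IsClassFunction H fun b : H => φ (M b 0 0) (M b 1 1) := by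
  intro x y
  have hy := (hH y).1 y.2
  have hx := (hH x).1 x.2
  have hyi := (hH _).1 (y⁻¹ : H).2
  have h1 : M (y : G) * M ((y : G)⁻¹) = 1 := by rw [← map_mul, mul_inv_cancel, map_one]
  have e0 := congrArg (fun A : Matrix (Fin 2) (Fin 2) F => A 0 0) h1
  have e1 := congrArg (fun A : Matrix (Fin 2) (Fin 2) F => A 1 1) h1
  rw [Subgroup.coe_inv] at hyi
  simp [Matrix.mul_apply, Fin.sum_univ_two, hy, hyi] at e0 e1
  simp only [Subgroup.coe_mul, Subgroup.coe_inv, map_mul]
  congr 1 <;> simp [Matrix.mul_apply, Fin.sum_univ_two, hy, hx, hyi] <;>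
    [linear_combination M x 0 0 * e0; linear_combination M x 1 1 * e1]

include hH hr in
/-- The induced function as a sum over the projective line. -/
theorem indFun_apply (φ : F → F → ℂ) (g : G) :
    Cfsg.indFun H (fun b : H => φ (M b 0 0) (M b 1 1)) g =
      (if M g 1 0 = 0 then φ (M g 0 0) (M g 1 1) else 0) +
      ∑ c : F, if M g 1 0 * c * c + (M g 1 1 - M g 0 0) * c - M g 0 1 = 0
        then φ (M g 1 0 * c + M g 1 1) (M g 0 0 - c * M g 1 0) else 0 := by
  classical
  have := Fintype.ofFinite (G ⧸ H)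
  set θ : H → ℂ := fun b => φ (M b 0 0) (M b 1 1) with hθdef
  have hθ : Cfsg.IsClassFunction H θ := isClassFunction_diag M hH φ
  have hinv : ∀ x : G, ∀ t : H, Cfsg.extendByZero H θ ((x * t)⁻¹ * g * (x * t)) =
      Cfsg.extendByZero H θ (x⁻¹ * g * x) := by
    intro x t
    rw [show (x * t)⁻¹ * g * (x * t) = (t : G)⁻¹ * (x⁻¹ * g * x) * t by group]
    by_cases hx : x⁻¹ * g * x ∈ H
    · rw [show (t : G)⁻¹ * (x⁻¹ * g * x) * t = ((t⁻¹ * ⟨_, hx⟩ * t : H) : G) from rfl,
        extendByZero_coe, extendByZero_of_mem H θ hx]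
      have h := hθ ⟨_, hx⟩ t⁻¹
      rwa [inv_inv] at h
    · rw [extendByZero_of_notMem H θ hx, extendByZero_of_notMem H θ]
      intro h
      refine hx ?_
      have h2 := H.mul_mem (H.mul_mem t.2 h) (H.inv_mem t.2)
      rwa [show (t : G) * ((t : G)⁻¹ * (x⁻¹ * g * x) * t) * (t : G)⁻¹ = x⁻¹ * g * x by group] at h2
  have hbij : Function.Bijective fun o => (QuotientGroup.mk (r o) : G ⧸ H) := by
    constructor
    · intro o o' h
      obtain ⟨o₀, -, huniq⟩ := existsUnique_rep M hH hr (r o')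
      rw [huniq o (QuotientGroup.eq.1 h), huniq o' (show (r o')⁻¹ * r o' ∈ H by rw [inv_mul_cancel]; exact H.one_mem)]
    · intro q
      obtain ⟨g, rfl⟩ := QuotientGroup.mk_surjective q
      obtain ⟨o, ho, -⟩ := existsUnique_rep M hH hr g
      exact ⟨o, QuotientGroup.eq.2 ho⟩
  rw [Clifford.indFun_eq_sum_quotient H hθ, ← hbij.sum_comp, Fintype.sum_option]
  have hterm : ∀ o, Cfsg.extendByZero H θ
      ((QuotientGroup.mk (r o) : G ⧸ H).out⁻¹ * g * (QuotientGroup.mk (r o) : G ⧸ H).out) =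
      if M ((r o)⁻¹ * g * r o) 1 0 = 0 then
        φ (M ((r o)⁻¹ * g * r o) 0 0) (M ((r o)⁻¹ * g * r o) 1 1) else 0 := by
    intro o
    obtain ⟨t, ht⟩ := QuotientGroup.mk_out_eq_mul H (r o)
    rw [ht, hinv]
    split_ifs with h
    · rw [extendByZero_of_mem H θ ((hH _).2 h)]
    · rw [extendByZero_of_notMem H θ fun hm => h ((hH _).1 hm)]
  simp only [hterm]
  congr 1
  · rw [map_mul, map_mul, map_inv_none M hr, hr, repMat, one_mul, mul_one]
  · refine Finset.sum_congr rfl fun c _ => ?_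
    rw [map_conj_some M hr]
    refine if_congr ?_ ?_ rfl
    · simp only [Matrix.cons_val', Matrix.cons_val_zero, Matrix.cons_val_one,
        Matrix.cons_val_fin_one, Matrix.of_apply]
      rw [neg_add_eq_sub]
      ring_nf
    · simp

include hH hr in
theorem indFun_apply_upper (φ : F → F → ℂ) {g : G} (hg : M g 1 0 = 0) :
    Cfsg.indFun H (fun b : H => φ (M b 0 0) (M b 1 1)) g =
      φ (M g 0 0) (M g 1 1) + if M g 0 0 = M g 1 1 then
        (if M g 0 1 = 0 then (Fintype.card F : ℂ) * φ (M g 0 0) (M g 1 1) else 0)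
        else φ (M g 1 1) (M g 0 0) := by
  rw [indFun_apply M hH hr φ g, if_pos hg]
  congr 1
  simp only [hg, zero_mul, mul_zero, zero_add, sub_zero]
  split_ifs with he hu
  · simp [he, hu]
  · simp [he, hu]
  · rw [Finset.sum_eq_single (M g 0 1 / (M g 1 1 - M g 0 0)) (fun c _ hc => if_neg fun h => hc ?_)
      (by simp), if_pos]
    · rw [mul_div_cancel₀ _ (sub_ne_zero.2 (Ne.symm he)), sub_self]
    · rw [eq_div_iff (sub_ne_zero.2 (Ne.symm he))]
      linear_combination h

include hH hr in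
theorem indFun_apply_irreducible (φ : F → F → ℂ) {g : G}
    (hg : ∀ (c : F) (v : Fin 2 → F), v ≠ 0 → (M g).mulVec v ≠ c • v) :
    Cfsg.indFun H (fun b : H => φ (M b 0 0) (M b 1 1)) g = 0 := by
  have h10 : M g 1 0 ≠ 0 := fun h => hg (M g 0 0) ![1, 0]
    (fun e => by simpa using congrFun e 0) (by
      ext i; fin_cases i <;> simp [Matrix.mulVec, dotProduct, Fin.sum_univ_two, h])
  rw [indFun_apply M hH hr φ g, if_neg h10, zero_add]
  refine Finset.sum_eq_zero fun c _ => if_neg fun h => hg (M g 1 0 * c + M g 1 1) ![c, 1]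
    (fun e => by simpa using congrFun e 1) ?_
  ext i; fin_cases i <;> simp [Matrix.mulVec, dotProduct, Fin.sum_univ_two]
  linear_combination -h

include hH hr in
/-- Mackey's formula for two diagonal functions. -/
theorem classInner_indFun [Fintype H] {D : Type*} [Fintype D] (e : H ≃ D × F) (δ₁ δ₂ : D → F)
    (he : ∀ (d : D) (u : F), M (e.symm (d, u) : H) 0 0 = δ₁ d ∧ M (e.symm (d, u) : H) 1 1 = δ₂ d ∧
      M (e.symm (d, u) : H) 0 1 = u) (φ ψ : F → F → ℂ) :
    Cfsg.classInner (Cfsg.indFun H fun b : H => φ (M b 0 0) (M b 1 1))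
        (Cfsg.indFun H fun b : H => ψ (M b 0 0) (M b 1 1)) =
      (Fintype.card D : ℂ)⁻¹ *
        ∑ d : D, (φ (δ₁ d) (δ₂ d) + φ (δ₂ d) (δ₁ d)) * conj (ψ (δ₁ d) (δ₂ d)) := by
  classical
  rw [← classInner_conj_symm, frobenius_reciprocity H _ (isClassFunction_indFun H _),
    classInner_conj_symm, Cfsg.classInner, Nat.card_eq_fintype_card, Fintype.card_congr e,
    Fintype.card_prod, Nat.cast_mul, mul_inv, mul_assoc]
  congr 1
  rw [← e.symm.sum_comp, Fintype.sum_prod_type, Finset.mul_sum]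
  refine Finset.sum_congr rfl fun d _ => ?_
  have hq : (Fintype.card F : ℂ) ≠ 0 := Nat.cast_ne_zero.2 Fintype.card_ne_zero
  simp only [indFun_apply_upper M hH hr φ ((hH _).1 (SetLike.coe_mem _)), (he d _).1, (he d _).2.1,
    (he d _).2.2, add_mul, Finset.sum_add_distrib, Finset.sum_const, Finset.card_univ, nsmul_eq_mul]
  by_cases hd : δ₁ d = δ₂ d
  · simp only [if_pos hd, ite_mul, zero_mul, Finset.sum_ite_eq', Finset.mem_univ, if_true, hd]
    field_simp
  · simp only [if_neg hd, Finset.sum_const, Finset.card_univ, nsmul_eq_mul]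
    field_simp

end Uniform

end CfsgLib.SL2Char
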