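import Cfsg.Agent.Lib.Known.SL2Char.Basic

/-!
# The Borel subgroups of `GL₂` and `SL₂` and their principal series
-/

namespace CfsgLib.SL2Char

open Matrix CfsgLib.Char
open scoped ComplexConjugate

variable {F : Type*} [Field F]

/-- Matrices of elements of `GL₂`. -/
def MGL : Matrix.GeneralLinearGroup (Fin 2) F →* Matrix (Fin 2) (Fin 2) F := Units.coeHom _

/-- Matrices of elements of `SL₂`. -/
def MSL : Matrix.SpecialLinearGroup (Fin 2) F →* Matrix (Fin 2) (Fin 2) F :=
  (Units.coeHom _).comp Matrix.SpecialLinearGroup.toGL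

@[simp] theorem MGL_apply (g : Matrix.GeneralLinearGroup (Fin 2) F) :
    MGL g = (g : Matrix (Fin 2) (Fin 2) F) := rfl

@[simp] theorem MSL_apply (g : Matrix.SpecialLinearGroup (Fin 2) F) :
    MSL g = (g : Matrix (Fin 2) (Fin 2) F) := rfl

theorem mem_upperGL (g : Matrix.GeneralLinearGroup (Fin 2) F) :
    g ∈ Cfsg.upperTriangularGL 2 F ↔ MGL g 1 0 = 0 := by
  change ((g : Matrix (Fin 2) (Fin 2) F)).BlockTriangular id ↔ _
  constructor
  · intro h; exact h (i := 1) (j := 0) (by decide)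
  · intro h i j hij
    fin_cases i <;> fin_cases j <;> first | exact absurd hij (by decide) | exact h

theorem mem_upperSL (g : Matrix.SpecialLinearGroup (Fin 2) F) :
    g ∈ (Cfsg.upperTriangularGL 2 F).comap Matrix.SpecialLinearGroup.toGL ↔ MSL g 1 0 = 0 :=
  mem_upperGL _

theorem det_repMat (o : Option F) : (repMat o).det = 1 := by
  cases o <;> simp [repMat, Matrix.det_fin_two_of]

/-- The transversal in `SL₂`. -/
def repSL (o : Option F) : Matrix.SpecialLinearGroup (Fin 2) F := ⟨repMat o, det_repMat o⟩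

/-- The transversal in `GL₂`. -/
def repGL (o : Option F) : Matrix.GeneralLinearGroup (Fin 2) F :=
  Matrix.SpecialLinearGroup.toGL (repSL o)

theorem MSL_repSL (o : Option F) : MSL (repSL o) = repMat o := rfl

theorem MGL_repGL (o : Option F) : MGL (repGL o) = repMat o := rfl

theorem det_upper {A : Matrix (Fin 2) (Fin 2) F} (h : A 1 0 = 0) : A.det = A 0 0 * A 1 1 := by
  rw [Matrix.det_fin_two, h, mul_zero, sub_zero]

theorem diag_ne_zero_GL (g : Cfsg.upperTriangularGL 2 F) :
    MGL (g : Matrix.GeneralLinearGroup (Fin 2) F) 0 0 ≠ 0 ∧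
      MGL (g : Matrix.GeneralLinearGroup (Fin 2) F) 1 1 ≠ 0 := by
  have h := det_upper ((mem_upperGL _).1 g.2)
  have hd : (MGL (g : Matrix.GeneralLinearGroup (Fin 2) F)).det ≠ 0 :=
    ((Matrix.isUnit_iff_isUnit_det _).1 (g : Matrix.GeneralLinearGroup (Fin 2) F).isUnit).ne_zero
  rw [h] at hd
  exact ⟨left_ne_zero_of_mul hd, right_ne_zero_of_mul hd⟩

/-- Coordinates on the upper triangular subgroup of `GL₂`. -/
def borelGL : Cfsg.upperTriangularGL 2 F ≃ (Fˣ × Fˣ) × F where
  toFun g := ((Units.mk0 _ (diag_ne_zero_GL g).1, Units.mk0 _ (diag_ne_zero_GL g).2),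
    MGL (g : Matrix.GeneralLinearGroup (Fin 2) F) 0 1)
  invFun z := ⟨Matrix.GeneralLinearGroup.mkOfDetNeZero !![(z.1.1 : F), z.2; 0, (z.1.2 : F)]
    (by simp [Matrix.det_fin_two_of]), (mem_upperGL _).2 rfl⟩
  left_inv g := by
    refine Subtype.ext (Units.ext ?_)
    ext i j
    fin_cases i <;> fin_cases j
    · rfl
    · rfl
    · exact ((mem_upperGL _).1 g.2).symm
    · rfl
  right_inv z := Prod.ext (Prod.ext (Units.ext rfl) (Units.ext rfl)) rfl

theorem borelGL_symm (d : Fˣ × Fˣ) (u : F) :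
    MGL (borelGL.symm (d, u) : Matrix.GeneralLinearGroup (Fin 2) F) 0 0 = d.1 ∧
    MGL (borelGL.symm (d, u) : Matrix.GeneralLinearGroup (Fin 2) F) 1 1 = d.2 ∧
    MGL (borelGL.symm (d, u) : Matrix.GeneralLinearGroup (Fin 2) F) 0 1 = u := ⟨rfl, rfl, rfl⟩

theorem diag_SL (g : (Cfsg.upperTriangularGL 2 F).comap Matrix.SpecialLinearGroup.toGL) :
    MSL (g : Matrix.SpecialLinearGroup (Fin 2) F) 0 0 *
      MSL (g : Matrix.SpecialLinearGroup (Fin 2) F) 1 1 = 1 := by
  rw [← det_upper ((mem_upperSL _).1 g.2)]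
  exact (g : Matrix.SpecialLinearGroup (Fin 2) F).2

/-- Coordinates on the upper triangular subgroup of `SL₂`. -/
def borelSL : (Cfsg.upperTriangularGL 2 F).comap Matrix.SpecialLinearGroup.toGL ≃ Fˣ × F where
  toFun g := (Units.mk0 _ (left_ne_zero_of_mul_eq_one (diag_SL g)),
    MSL (g : Matrix.SpecialLinearGroup (Fin 2) F) 0 1)
  invFun z := ⟨⟨!![(z.1 : F), z.2; 0, ((z.1⁻¹ : Fˣ) : F)], by simp [Matrix.det_fin_two_of]⟩,
    (mem_upperSL _).2 rfl⟩
  left_inv g := by
    refine Subtype.ext (Subtype.ext ?_)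
    ext i j
    fin_cases i <;> fin_cases j
    · rfl
    · rfl
    · exact ((mem_upperSL _).1 g.2).symm
    · simpa using (eq_inv_of_mul_eq_one_right (diag_SL g)).symm
  right_inv z := Prod.ext (Units.ext rfl) rfl

theorem borelSL_symm (d : Fˣ) (u : F) :
    MSL (borelSL.symm (d, u) : Matrix.SpecialLinearGroup (Fin 2) F) 0 0 = d ∧
    MSL (borelSL.symm (d, u) : Matrix.SpecialLinearGroup (Fin 2) F) 1 1 = ((d⁻¹ : Fˣ) : F) ∧
    MSL (borelSL.symm (d, u) : Matrix.SpecialLinearGroup (Fin 2) F) 0 1 = u := ⟨rfl, rfl, rfl⟩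

variable [Fintype F] [DecidableEq F]

theorem conj_mulChar (α : MulChar F ℂ) (a : F) : conj (α a) = α⁻¹ a := MulChar.star_apply' α a

open scoped Classical in
/-- Orthogonality of multiplicative characters over the units. -/
theorem sum_units_mul_conj (α β : MulChar F ℂ) :
    ∑ a : Fˣ, α a * conj (β a) = if α = β then (Fintype.card Fˣ : ℂ) else 0 := by
  have h : ∑ a : Fˣ, α a * conj (β a) = ∑ a : F, (α * β⁻¹) a := by
    rw [← Finset.sum_subset (Finset.subset_univ (Finset.univ.map ⟨fun a : Fˣ => (a : F),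
      Units.val_injective⟩)), Finset.sum_map]
    · refine Finset.sum_congr rfl fun a _ => ?_
      rw [MulChar.mul_apply, conj_mulChar]
      rfl
    · intro a _ ha
      refine MulChar.map_nonunit _ fun hu => ha (Finset.mem_map.2 ⟨hu.unit, Finset.mem_univ _, rfl⟩)
  rw [h]
  split_ifs with he
  · subst he
    rw [mul_inv_cancel, MulChar.sum_one_eq_card_units]
  · exact MulChar.sum_eq_zero_of_ne_one fun e => he (mul_inv_eq_one.1 e)

variable [Fintype (Matrix.GeneralLinearGroup (Fin 2) F)] [Fintype (Matrix.SpecialLinearGroup (Fin 2) F)]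

omit [Fintype (Matrix.SpecialLinearGroup (Fin 2) F)] in
open scoped Classical in
theorem classInner_principalGL (α β α' β' : MulChar F ℂ) :
    Cfsg.classInner (Cfsg.indFun (Cfsg.upperTriangularGL 2 F) fun b =>
        α (MGL (b : Matrix.GeneralLinearGroup (Fin 2) F) 0 0) *
          β (MGL (b : Matrix.GeneralLinearGroup (Fin 2) F) 1 1))
      (Cfsg.indFun (Cfsg.upperTriangularGL 2 F) fun b =>
        α' (MGL (b : Matrix.GeneralLinearGroup (Fin 2) F) 0 0) *
          β' (MGL (b : Matrix.GeneralLinearGroup (Fin 2) F) 1 1)) =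
      (if α = α' ∧ β = β' then 1 else 0) + (if α = β' ∧ β = α' then 1 else 0) := by
  have := Fintype.ofFinite (Cfsg.upperTriangularGL 2 F)
  rw [classInner_indFun MGL mem_upperGL MGL_repGL borelGL (fun d => (d.1 : F)) (fun d => (d.2 : F))
    borelGL_symm (fun a e => α a * β e) (fun a e => α' a * β' e)]
  simp only [add_mul, map_mul, Finset.sum_add_distrib, Fintype.sum_prod_type]
  have key : ∀ a b c d : MulChar F ℂ, (Fintype.card (Fˣ × Fˣ) : ℂ)⁻¹ *
      ∑ x : Fˣ, ∑ y : Fˣ, a x * b y * (conj (c x) * conj (d y)) =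
      if a = c ∧ b = d then 1 else 0 := by
    intro a b c d
    have e : ∑ x : Fˣ, ∑ y : Fˣ, a x * b y * (conj (c x) * conj (d y)) =
        (∑ x : Fˣ, a x * conj (c x)) * ∑ y : Fˣ, b y * conj (d y) := by
      rw [Finset.sum_mul_sum]
      exact Finset.sum_congr rfl fun x _ => Finset.sum_congr rfl fun y _ => mul_mul_mul_comm _ _ _ _
    rw [e, sum_units_mul_conj, sum_units_mul_conj, Fintype.card_prod, Nat.cast_mul]
    have : (Fintype.card Fˣ : ℂ) ≠ 0 := Nat.cast_ne_zero.2 Fintype.card_ne_zero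
    by_cases h1 : a = c <;> by_cases h2 : b = d <;> simp [h1, h2] <;> field_simp
  rw [mul_add, key α β α' β']
  congr 1
  rw [← key α β β' α', Finset.sum_comm]
  refine congrArg _ (Finset.sum_congr rfl fun x _ => Finset.sum_congr rfl fun y _ => ?_)
  ring

omit [Fintype (Matrix.GeneralLinearGroup (Fin 2) F)] in
open scoped Classical in
theorem classInner_principalSL (α β : MulChar F ℂ) :
    Cfsg.classInner (Cfsg.indFun ((Cfsg.upperTriangularGL 2 F).comap Matrix.SpecialLinearGroup.toGL)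
        fun b => α (MSL (b : Matrix.SpecialLinearGroup (Fin 2) F) 0 0))
      (Cfsg.indFun ((Cfsg.upperTriangularGL 2 F).comap Matrix.SpecialLinearGroup.toGL)
        fun b => β (MSL (b : Matrix.SpecialLinearGroup (Fin 2) F) 0 0)) =
      (if α = β then 1 else 0) + (if α = β⁻¹ then 1 else 0) := by
  have := Fintype.ofFinite ((Cfsg.upperTriangularGL 2 F).comap Matrix.SpecialLinearGroup.toGL)
  rw [classInner_indFun MSL mem_upperSL MSL_repSL borelSL (fun d => (d : F))
    (fun d => ((d⁻¹ : Fˣ) : F)) borelSL_symm (fun a _ => α a) (fun a _ => β a)]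
  simp only [add_mul, Finset.sum_add_distrib]
  have key : ∀ a c : MulChar F ℂ, (Fintype.card Fˣ : ℂ)⁻¹ * ∑ x : Fˣ, a x * conj (c x) =
      if a = c then 1 else 0 := by
    intro a c
    rw [sum_units_mul_conj]
    by_cases h : a = c <;> simp [h, Nat.cast_ne_zero.2 (Fintype.card_ne_zero (α := Fˣ))]
  rw [mul_add, key, show (∑ x : Fˣ, α ((x⁻¹ : Fˣ) : F) * conj (β x)) =
    ∑ x : Fˣ, α⁻¹ x * conj (β x) from Finset.sum_congr rfl fun x _ => by
      rw [MulChar.inv_apply' α, Units.val_inv_eq_inv_val], key]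
  congr 1
  exact if_congr inv_eq_iff_eq_inv rfl rfl

end CfsgLib.SL2Char
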