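import Cfsg.Agent.Lib.Known.SL2Char.CuspidalSetup

/-!
# Cuspidal characters

For a character `θ` of the nonsplit torus `C` the generalized character
`cusp θ = Ind_{ZU} (θ ⊗ Ψ) - Ind_C θ` has value `(q - 1) θ z` at a scalar `z`, `-θ z` at `z u`,
`-θ c - θ (c ^ q)` at elliptic `c` and vanishes at the other semisimple elements.  Here `Ψ` is the sum
of one additive character for each orbit of the diagonal group on the nontrivial ones.
-/

namespace CfsgLib.SL2Char

open Matrix CfsgLib.Char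
open scoped ComplexConjugate

variable {F : Type*} [Field F] {G : Type*} [Group G] {ι : G →* G2 F} {D : Subgroup Fˣ}

/-- The nonsplit torus through `g₀`. -/
abbrev torus (ι : G →* G2 F) (g₀ : G2 F) : Subgroup G :=
  (Subgroup.centralizer ({g₀} : Set (G2 F))).comap ι

variable (hE : Emb ι D) {g₀ : G2 F}
include hE

theorem Emb.exists_scalar_mem (g₀ : G2 F) (a : zs D) :
    ∃ g : torus ι g₀, hE.M (g : G) = ((a : Fˣ) : F) • (1 : Matrix (Fin 2) (Fin 2) F) := by
  obtain ⟨g, hg⟩ := hE.exists_scalar a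
  refine ⟨⟨g, Subgroup.mem_centralizer_singleton_iff.2 (Units.ext ?_)⟩, hg⟩
  show hE.M g * (g₀ : Matrix (Fin 2) (Fin 2) F) = (g₀ : Matrix (Fin 2) (Fin 2) F) * hE.M g
  rw [hg, smul_mul_assoc, mul_smul_comm, one_mul, mul_one]

/-- The scalars inside the torus. -/
noncomputable def Emb.scalarC (g₀ : G2 F) : zs D →* torus ι g₀ where
  toFun a := (hE.exists_scalar_mem g₀ a).choose
  map_one' := Subtype.ext (hE.M_injective ((hE.exists_scalar_mem g₀ 1).choose_spec.trans (by simp)))
  map_mul' a b := Subtype.ext (hE.M_injective ((hE.exists_scalar_mem g₀ (a * b)).choose_spec.trans (by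
    show _ = hE.M (((hE.exists_scalar_mem g₀ a).choose : G) * ((hE.exists_scalar_mem g₀ b).choose : G))
    rw [map_mul, (hE.exists_scalar_mem g₀ a).choose_spec, (hE.exists_scalar_mem g₀ b).choose_spec,
      smul_mul_assoc, one_mul, smul_smul]
    rfl)))

theorem Emb.scalarC_spec (a : zs D) :
    hE.M (hE.scalarC g₀ a : G) = ((a : Fˣ) : F) • (1 : Matrix (Fin 2) (Fin 2) F) :=
  (hE.exists_scalar_mem g₀ a).choose_spec

/-- A scalar element has scalar matrix `a`. -/
theorem Emb.eq_scalarC (g₀ : G2 F) {g : G} {a : F}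
    (hg : hE.M g = a • (1 : Matrix (Fin 2) (Fin 2) F)) :
    ∃ z : zs D, ((z : Fˣ) : F) = a ∧ g = (hE.scalarC g₀ z : G) := by
  have hd := hE.det_ne_zero g
  rw [hg, Matrix.det_smul, Matrix.det_one, mul_one, Fintype.card_fin] at hd
  have ha : a ≠ 0 := fun h => hd (by rw [h]; simp)
  refine ⟨⟨Units.mk0 a ha, ?_⟩, rfl, hE.M_injective (by rw [hE.scalarC_spec, hg]; rfl)⟩
  rw [mem_zs]
  convert hE.det_mem g using 1
  refine Units.ext ?_
  show _ = (hE.M g).det
  rw [hg, Matrix.det_smul, Matrix.det_one, mul_one, Fintype.card_fin, pow_two]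
  rfl

section Values

variable [Fintype F] [DecidableEq F] [Fintype G]

theorem Emb.card_zu : Nat.card (zu ι) = Nat.card (zs D) * Fintype.card F := by
  rw [Nat.card_congr (Equiv.ofBijective _ hE.zuEquiv_bijective), Nat.card_prod,
    Nat.card_eq_fintype_card (α := F)]

theorem Emb.index_zu [Fintype (Orbits D)] [Fintype (diags D)] :
    (zu ι).index * Nat.card (Orbits D) = Fintype.card F ^ 2 - 1 := by
  have h := (zu ι).index_mul_card
  rw [hE.card_zu, hE.card_eq, ← card_orbits_mul D] at h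
  refine Nat.eq_of_mul_eq_mul_right (show 0 < Fintype.card F * Nat.card D from
    Nat.mul_pos Fintype.card_pos Nat.card_pos) ?_
  calc _ = (zu ι).index * (Nat.card (Orbits D) * Nat.card D * Fintype.card F) := by ring
    _ = _ := by rw [h]; ring

variable (hg₀ : Elliptic (g₀ : Matrix (Fin 2) (Fin 2) F))
include hg₀

theorem Emb.card_torus : Nat.card (torus ι g₀) = (Fintype.card F + 1) * Nat.card D := by
  classical
  let δ : torus ι g₀ →* D :=
    ((Matrix.GeneralLinearGroup.det.comp ι).comp (torus ι g₀).subtype).codRestrict D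
      fun c => hE.det_mem c
  have hsurj : Function.Surjective δ := fun d => by
    obtain ⟨x, hx, hxd⟩ := det_centralizer_surjective hg₀ (d : Fˣ)
    obtain ⟨g, hg⟩ := (hE.mem x).2 (by
      rw [show Matrix.GeneralLinearGroup.det x = (d : Fˣ) from Units.ext hxd]; exact d.2)
    subst hg
    exact ⟨⟨g, hx⟩, Subtype.ext (Units.ext hxd)⟩
  have h := δ.ker.index_mul_card
  rw [Subgroup.index_ker, MonoidHom.range_eq_top.2 hsurj, Subgroup.card_top] at h
  have hker : Nat.card δ.ker = Fintype.card F + 1 := by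
    rw [← card_centralizer_comap hg₀]
    refine Nat.card_congr (Equiv.ofBijective
      (fun x : δ.ker => (⟨⟨hE.M (x : G), congrArg (fun z : D => ((z : Fˣ) : F))
        (MonoidHom.mem_ker.1 x.2)⟩, by
          refine Subgroup.mem_comap.2 ?_
          have h := Subgroup.mem_comap.1 x.1.2
          convert h using 1
          exact Units.ext rfl⟩ : (Subgroup.centralizer ({g₀} : Set (G2 F))).comap
          (Matrix.SpecialLinearGroup.toGL : PLocal.SLTwo.S2 F →* G2 F))) ⟨fun x y h => ?_, fun s => ?_⟩)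
    · refine Subtype.ext (Subtype.ext (hE.M_injective ?_))
      exact congrArg (fun z : (Subgroup.centralizer ({g₀} : Set (G2 F))).comap
        (Matrix.SpecialLinearGroup.toGL : PLocal.SLTwo.S2 F →* G2 F) =>
          ((z : PLocal.SLTwo.S2 F) : Matrix (Fin 2) (Fin 2) F)) h
    · obtain ⟨g, hg⟩ := (hE.mem (Matrix.SpecialLinearGroup.toGL s.1)).2 (by
        rw [show Matrix.GeneralLinearGroup.det (Matrix.SpecialLinearGroup.toGL s.1) = 1 from
          Units.ext s.1.2]
        exact one_mem D)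
      refine ⟨⟨⟨g, Subgroup.mem_comap.2 (hg ▸ Subgroup.mem_comap.1 s.2)⟩, MonoidHom.mem_ker.2 (Subtype.ext ?_)⟩,
        Subtype.ext (Subtype.ext ?_)⟩
      · show Matrix.GeneralLinearGroup.det (ι g) = 1
        rw [hg]; exact Units.ext s.1.2
      · show hE.M g = _
        rw [hE.M_apply, hg]; rfl
  rw [← h, hker, mul_comm]

theorem Emb.index_torus : (torus ι g₀).index = Fintype.card F * (Fintype.card F - 1) := by
  have h := (torus ι g₀).index_mul_card
  rw [hE.card_torus hg₀, hE.card_eq, card_eq_succ_mul] at h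
  refine Nat.eq_of_mul_eq_mul_right (show 0 < (Fintype.card F + 1) * Nat.card D from
    Nat.mul_pos (Nat.succ_pos _) Nat.card_pos) ?_
  rw [h]; ring

/-- The torus consists of scalars and elliptic elements. -/
theorem Emb.torus_cases (c : torus ι g₀) :
    (∃ a : zs D, c = hE.scalarC g₀ a) ∨ Elliptic (hE.M (c : G)) := by
  obtain ⟨a, b, hab⟩ := (mem_centralizer_iff_affine hg₀ (ι c)).1 c.2
  by_cases hb : b = 0
  · rw [hb, zero_smul, add_zero] at hab
    obtain ⟨z, -, hz⟩ := hE.eq_scalarC g₀ (g := (c : G)) hab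
    exact Or.inl ⟨z, Subtype.ext hz⟩
  · right
    rw [hE.M_apply, hab]
    exact hg₀.affine hb

omit [DecidableEq F] in
theorem Emb.not_elliptic_scalarC (a : zs D) : ¬ Elliptic (hE.M (hE.scalarC g₀ a : G)) := fun h =>
  h.upper_ne_zero (by rw [hE.scalarC_spec]; simp)

/-- The centralizer of an elliptic element of the torus is the torus. -/
theorem Emb.mem_torus_iff {c : torus ι g₀} (hc : Elliptic (hE.M (c : G))) (y : G) :
    y⁻¹ * (c : G) * y = c ↔ y ∈ torus ι g₀ := by
  have : IsCyclic (Subgroup.centralizer ({g₀} : Set (G2 F))) := isCyclic_centralizer hg₀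
  let _ : CommGroup (Subgroup.centralizer ({g₀} : Set (G2 F))) := IsCyclic.commGroup
  have hle : Subgroup.centralizer ({g₀} : Set (G2 F)) ≤ Subgroup.centralizer ({ι c} : Set (G2 F)) :=
    fun x hx => Subgroup.mem_centralizer_singleton_iff.2
      (congrArg Subtype.val (mul_comm (⟨x, hx⟩ : Subgroup.centralizer ({g₀} : Set (G2 F))) ⟨ι c, c.2⟩))
  have heq := Subgroup.eq_of_le_of_card_ge hle
    (by rw [card_centralizer (g := ι (c : G)) hc, card_centralizer hg₀])
  rw [Subgroup.mem_comap, heq, Subgroup.mem_centralizer_singleton_iff, ← map_mul, ← map_mul,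
    hE.inj.eq_iff, mul_assoc, inv_mul_eq_iff_eq_mul]
  exact eq_comm

/-- The other conjugate of an elliptic element of the torus. -/
theorem Emb.conj_pow {c : torus ι g₀} (hc : Elliptic (hE.M (c : G))) :
    c ^ Fintype.card F ≠ c ∧
      (∃ y : G, y⁻¹ * (c : G) * y = ((c ^ Fintype.card F : torus ι g₀) : G)) ∧
      ∀ d : torus ι g₀, (hE.M (d : G)).trace = (hE.M (c : G)).trace →
        (hE.M (d : G)).det = (hE.M (c : G)).det → d = c ∨ d = c ^ Fintype.card F := by
  classical
  obtain ⟨μ, hμ, hμd⟩ := exists_embedding hg₀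
  let ν : torus ι g₀ →* AlgebraicClosure F := μ.comp
    ((ι.comp (torus ι g₀).subtype).codRestrict (Subgroup.centralizer ({g₀} : Set (G2 F))) fun x => x.2)
  have hν : Function.Injective ν := fun x y h => by
    have := congrArg Subtype.val (hμ h)
    exact Subtype.ext (hE.inj this)
  set A := algebraMap F (AlgebraicClosure F)
  have hνd : ∀ x : torus ι g₀, A (hE.M (x : G)).det = ν x ^ (Fintype.card F + 1) ∧
      A (hE.M (x : G)).trace = ν x + ν x ^ Fintype.card F := fun x => hμd ⟨ι (x : G), x.2⟩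
  have hdet : ∀ x : torus ι g₀, (hE.M (x : G)).det ≠ 0 := fun x => hE.det_ne_zero _
  have hq2 : ∀ x : torus ι g₀, (ν x ^ Fintype.card F) ^ Fintype.card F = ν x := fun x => by
    have h2 := congrArg A (FiniteField.pow_card_sub_one_eq_one _ (hdet x))
    rw [map_pow, (hνd x).1, map_one, ← pow_mul] at h2
    have e : Fintype.card F * Fintype.card F =
        (Fintype.card F + 1) * (Fintype.card F - 1) + 1 := by
      rw [← card_eq_succ_mul, ← sq, Nat.sub_add_cancel (Nat.one_le_pow _ _ Fintype.card_pos)]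
    rw [← pow_mul, e, pow_add, h2, one_mul, pow_one]
  refine ⟨fun h => ?_, ?_, fun d ht hd => ?_⟩
  · -- a fixed point of the `q`-th power has an eigenvalue in `F`
    have h1 : ν c ^ Fintype.card F = ν c := by rw [← map_pow, h]
    obtain ⟨a, ha⟩ : ∃ a : F, A a = ν c := by
      have h4 : Polynomial.aeval (ν c) (Polynomial.X ^ Fintype.card F - Polynomial.X : Polynomial F) = 0 := by
        simp [h1]
      have hq : 1 < Fintype.card F := Fintype.one_lt_card
      have hsplit : (Polynomial.X ^ Fintype.card F - Polynomial.X : Polynomial F) =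
          ∏ a : F, (Polynomial.X - Polynomial.C a) := by
        rw [← Polynomial.prod_multiset_X_sub_C_of_monic_of_roots_card_eq
          (p := (Polynomial.X ^ Fintype.card F - Polynomial.X : Polynomial F))
          (Polynomial.monic_X_pow_sub (by rw [Polynomial.degree_X]; exact_mod_cast hq))
          (by rw [FiniteField.roots_X_pow_card_sub_X,
                FiniteField.X_pow_card_sub_X_natDegree_eq F hq]; rfl),
          FiniteField.roots_X_pow_card_sub_X]
        rfl
      rw [hsplit, map_prod, Finset.prod_eq_zero_iff] at h4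
      obtain ⟨a, -, ha⟩ := h4
      exact ⟨a, (sub_eq_zero.1 (by simpa using ha)).symm⟩
    refine hc.charpoly_ne a (A.injective ?_)
    rw [map_add, map_sub, map_mul, map_mul, ha, (hνd c).1, (hνd c).2, map_zero, pow_succ, h1]
    ring
  · refine hE.exists_conj hc (A.injective ?_) (A.injective ?_)
    · rw [(hνd _).2, (hνd c).2, map_pow, hq2, add_comm]
    · rw [(hνd _).1, (hνd c).1, map_pow, pow_succ, pow_succ, hq2, mul_comm]
  · have e1 := congrArg A ht
    have e2 := congrArg A hd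
    rw [(hνd d).2, (hνd c).2] at e1
    rw [(hνd d).1, (hνd c).1, pow_succ, pow_succ] at e2
    have h : (ν d - ν c) * (ν d - ν c ^ Fintype.card F) = 0 := by
      linear_combination ν d * e1 - e2
    rcases mul_eq_zero.1 h with e | e
    · exact Or.inl (hν (sub_eq_zero.1 e))
    · exact Or.inr (hν (by rw [map_pow]; exact sub_eq_zero.1 e))

variable [Fintype (Orbits D)] [Fintype (diags D)]

omit hE hg₀ [DecidableEq F] [Fintype (diags D)] in
/-- The sum of additive characters used on the root group. -/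
noncomputable def orbitSum (D : Subgroup Fˣ) [Fintype (Orbits D)] (ψ : AddChar F ℂ) (t : F) : ℂ :=
  ∑ q : Orbits D, ψ ((q.out : Fˣ) * t)

omit hE hg₀ in
theorem sum_orbitSum {ψ : AddChar F ℂ} (hψ : ψ ≠ 1) : ∑ t : F, orbitSum D ψ t = 0 := by
  classical
  unfold orbitSum
  rw [Finset.sum_comm]
  refine Finset.sum_eq_zero fun q _ => ?_
  rw [← AddChar.sum_eq_zero_of_ne_one hψ]
  exact Fintype.sum_equiv (Equiv.mulLeft₀ _ (q.out : Fˣ).ne_zero) _ _ fun t => rfl

omit hE hg₀ [DecidableEq F] [Fintype (diags D)] in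
theorem orbitSum_zero (ψ : AddChar F ℂ) : orbitSum D ψ 0 = (Nat.card (Orbits D) : ℂ) := by
  simp [orbitSum, Nat.card_eq_fintype_card]

variable (ψ : AddChar F ℂ) (θ : torus ι g₀ →* ℂˣ)

omit hg₀ [DecidableEq F] [Fintype (diags D)] in
/-- The character of `Z U` that is induced. -/
noncomputable def Emb.lam (g : zu ι) : ℂ :=
  (θ (hE.scalarC g₀ (hE.zuA g)) : ℂ) * orbitSum D ψ (hE.zuT g)

omit hg₀ [DecidableEq F] [Fintype (diags D)] in
/-- The cuspidal generalized character. -/
noncomputable def Emb.cusp : G → ℂ :=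
  Cfsg.indFun (zu ι) (hE.lam ψ θ) - Cfsg.indFun (torus ι g₀) fun c => (θ c : ℂ)

omit hg₀ in
theorem Emb.isCharacter_lam : Cfsg.IsCharacter (zu ι) (hE.lam ψ θ) := by
  classical
  have h : hE.lam ψ θ = ∑ q : Orbits D, fun g : zu ι =>
      (θ (hE.scalarC g₀ (hE.zuA g)) : ℂ) * ψ ((q.out : Fˣ) * hE.zuT g) := by
    funext g
    rw [Emb.lam, orbitSum, Finset.mul_sum, Finset.sum_apply]
  rw [h]
  refine IsChar.sum _ _ fun q _ => ?_
  have hne : ∀ t : F, ψ t ≠ 0 := fun t h0 => by
    have := ψ.map_add_eq_mul t (-t)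
    rw [add_neg_cancel, AddChar.map_zero_eq_one, h0, zero_mul] at this
    exact one_ne_zero this
  let l : zu ι →* ℂˣ :=
    { toFun := fun g => θ (hE.scalarC g₀ (hE.zuA g)) * Units.mk0 _ (hne ((q.out : Fˣ) * hE.zuT g))
      map_one' := Units.ext (by simp [Emb.zuT])
      map_mul' := fun x y => by
        refine Units.ext ?_
        simp only [map_mul, hE.zuT_mul, mul_add, AddChar.map_add_eq_mul, Units.val_mul, Units.val_mk0]
        ring }
  exact IsIrr.isCharacter (isIrrCharacter_linear l)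

omit hg₀ in
theorem Emb.isGen_cusp : Cfsg.IsGeneralizedCharacter G (hE.cusp ψ θ) :=
  IsGen.sub (IsGen.of_isCharacter (isCharacter_indFun _ (hE.isCharacter_lam ψ θ)))
    (IsGen.of_isCharacter (isCharacter_indFun _ (IsIrr.isCharacter (isIrrCharacter_linear θ))))

theorem Emb.cusp_scalar (a : zs D) :
    hE.cusp ψ θ (hE.scalarC g₀ a : G) =
      ((Fintype.card F : ℂ) - 1) * (θ (hE.scalarC g₀ a) : ℂ) := by
  classical
  have hcomm : ∀ y : G, y⁻¹ * (hE.scalarC g₀ a : G) * y = (hE.scalarC g₀ a : G) := fun y => by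
    rw [mul_assoc, inv_mul_eq_iff_eq_mul]
    refine hE.M_injective ?_
    rw [map_mul, map_mul, hE.scalarC_spec, smul_mul_assoc, one_mul, mul_smul_comm, mul_one]
  have hz : (hE.scalarC g₀ a : G) ∈ zu ι := hE.mem_zu.2 (by rw [hE.scalarC_spec]; simp)
  have hlam : hE.lam ψ θ ⟨_, hz⟩ = (θ (hE.scalarC g₀ a) : ℂ) * (Nat.card (Orbits D) : ℂ) := by
    have e1 : hE.zuA ⟨_, hz⟩ = a := Subtype.ext (Units.ext (by
      rw [hE.zuA_apply, hE.scalarC_spec]; simp))
    have e2 : hE.zuT ⟨_, hz⟩ = 0 := by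
      rw [Emb.zuT, hE.scalarC_spec]; simp
    rw [Emb.lam, e1, e2, orbitSum_zero]
  simp only [Emb.cusp, Pi.sub_apply, Cfsg.indFun, hcomm, extendByZero_of_mem _ _ hz,
    extendByZero_coe, hlam, Finset.sum_const, Finset.card_univ, nsmul_eq_mul]
  rw [← Nat.card_eq_fintype_card (α := G)]
  have h1 := (zu ι).index_mul_card
  have h2 := (torus ι g₀).index_mul_card
  have h3 := hE.index_zu
  have h4 := hE.index_torus hg₀
  rw [h4] at h2
  have hz0 : (Nat.card (zu ι) : ℂ) ≠ 0 := Nat.cast_ne_zero.2 Nat.card_pos.ne'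
  have hc0 : (Nat.card (torus ι g₀) : ℂ) ≠ 0 := Nat.cast_ne_zero.2 Nat.card_pos.ne'
  have hq : 1 ≤ Fintype.card F := Fintype.card_pos
  have e1 : (Nat.card (zu ι) : ℂ)⁻¹ * (Nat.card G : ℂ) = ((zu ι).index : ℂ) := by
    rw [← h1, Nat.cast_mul]; field_simp
  have e2 : (Nat.card (torus ι g₀) : ℂ)⁻¹ * (Nat.card G : ℂ) =
      (Fintype.card F : ℂ) * ((Fintype.card F : ℂ) - 1) := by
    rw [← h2, Nat.cast_mul, Nat.cast_mul, Nat.cast_sub hq, Nat.cast_one]; field_simp
  have e3 : ((zu ι).index : ℂ) * (Nat.card (Orbits D) : ℂ) = (Fintype.card F : ℂ) ^ 2 - 1 := by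
    rw [← Nat.cast_mul, h3, Nat.cast_sub (Nat.one_le_pow _ _ hq), Nat.cast_pow, Nat.cast_one]
  linear_combination (θ (hE.scalarC g₀ a) : ℂ) * (Nat.card (Orbits D) : ℂ) * e1 -
    (θ (hE.scalarC g₀ a) : ℂ) * e2 + (θ (hE.scalarC g₀ a) : ℂ) * e3

theorem Emb.cusp_one : hE.cusp ψ θ 1 = (Fintype.card F : ℂ) - 1 := by
  have h := hE.cusp_scalar hg₀ ψ θ 1
  simpa using h

theorem Emb.cusp_unipotent {ψ : AddChar F ℂ} (hψ : ψ ≠ 1) (g : zu ι) (ht : hE.zuT g ≠ 0) :
    hE.cusp ψ θ (g : G) = -(θ (hE.scalarC g₀ (hE.zuA g)) : ℂ) := by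
  classical
  obtain ⟨x1, x2⟩ := hE.mem_zu.1 g.2
  set a : F := hE.M (g : G) 0 0 with ha
  set u : F := hE.M (g : G) 0 1 with hu
  have ha0 : a ≠ 0 := hE.zu_diag_ne_zero g
  have hu0 : u ≠ 0 := fun h => ht (by rw [Emb.zuT, ← hu, h, zero_div])
  -- no conjugate in the torus
  have hB : ∀ y : G, y⁻¹ * (g : G) * y ∉ torus ι g₀ := fun y hy => by
    rcases hE.torus_cases hg₀ ⟨_, hy⟩ with ⟨b, hb⟩ | h
    · have hb' : y⁻¹ * (g : G) * y = (hE.scalarC g₀ b : G) := congrArg Subtype.val hb
      have e : (g : G) * y = y * (hE.scalarC g₀ b : G) := by rw [← hb']; group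
      have e' := congrArg hE.M e
      rw [map_mul, map_mul, hE.scalarC_spec, mul_smul_comm, mul_one] at e'
      have hdy := hE.det_ne_zero y
      have f00 := congrFun (congrFun e' 0) 0
      have f01 := congrFun (congrFun e' 0) 1
      have f10 := congrFun (congrFun e' 1) 0
      have f11 := congrFun (congrFun e' 1) 1
      simp only [Matrix.mul_apply, Fin.sum_univ_two, x1, ← x2, ← ha, ← hu, zero_mul, zero_add,
        Matrix.smul_apply, smul_eq_mul] at f00 f01 f10 f11
      rw [Matrix.det_fin_two] at hdy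
      apply hdy
      have g10 : hE.M y 1 0 = 0 := mul_self_eq_zero.1 ((mul_eq_zero.1
        (show u * (hE.M y 1 0 * hE.M y 1 0) = 0 by
          linear_combination hE.M y 1 0 * f00 - hE.M y 0 0 * f10)).resolve_left hu0)
      have g11 : hE.M y 1 1 = 0 := mul_self_eq_zero.1 ((mul_eq_zero.1
        (show u * (hE.M y 1 1 * hE.M y 1 1) = 0 by
          linear_combination hE.M y 1 1 * f01 - hE.M y 0 1 * f11)).resolve_left hu0)
      rw [g10, g11]; ring
    · have h' := h.charpoly_ne a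
      rw [hE.trace_conj, hE.det_conj] at h'
      refine h' ?_
      rw [Matrix.trace_fin_two, Matrix.det_fin_two, x1, ← x2, ← ha]
      ring
  -- conjugates in `Z U` come from upper triangular elements
  have hconj : ∀ y : G, y⁻¹ * (g : G) * y ∈ zu ι → hE.M y 1 0 = 0 := fun y hy => by
    obtain ⟨h10, h00⟩ := hE.mem_zu.1 hy
    have e := congrArg hE.M (show y * (y⁻¹ * (g : G) * y) = (g : G) * y by group)
    rw [map_mul, map_mul hE.M (g : G) y] at e
    have ht' := hE.trace_conj (g : G) y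
    have hd' := hE.det_conj (g : G) y
    generalize hE.M (y⁻¹ * (g : G) * y) = X at e h10 h00 ht' hd'
    rw [Matrix.trace_fin_two, Matrix.trace_fin_two, ← h00, ← x2, ← ha] at ht'
    rw [det_upper h10, det_upper x1, ← h00, ← x2, ← ha] at hd'
    have haa : X 0 0 = a := sub_eq_zero.1 (mul_self_eq_zero.1 (show (X 0 0 - a) * (X 0 0 - a) = 0 by
      linear_combination hd' - a * ht'))
    have e00 := congrFun (congrFun e 0) 0
    simp only [Matrix.mul_apply, Fin.sum_univ_two, h10, haa, ← ha, ← hu, mul_zero, add_zero] at e00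
    exact (mul_eq_zero.1 (show u * hE.M y 1 0 = 0 by linear_combination -e00)).resolve_left hu0
  have hupper : ∀ y : G, hE.M y 1 0 = 0 → ∃ hy : y⁻¹ * (g : G) * y ∈ zu ι,
      hE.lam ψ θ ⟨_, hy⟩ = (θ (hE.scalarC g₀ (hE.zuA g)) : ℂ) *
        orbitSum D ψ (u / a * (hE.M y 1 1 / hE.M y 0 0)) := fun y hy => by
    obtain ⟨hy0, hy1, -⟩ := hE.diag_mem hy
    have e : hE.M (y⁻¹ * (g : G) * y) = !![a, u * hE.M y 1 1 / hE.M y 0 0; 0, a] := by
      have hinv : hE.M y⁻¹ * hE.M y = 1 := by rw [← map_mul, inv_mul_cancel, map_one]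
      rw [map_mul, map_mul, mul_assoc]
      have e' : hE.M (g : G) * hE.M y = hE.M y * !![a, u * hE.M y 1 1 / hE.M y 0 0; 0, a] := by
        ext i j
        fin_cases i <;> fin_cases j <;>
          simp only [Matrix.mul_apply, Fin.sum_univ_two, hy, x1, ← x2, ← ha, ← hu, Fin.isValue,
            Matrix.of_apply, Matrix.cons_val', Matrix.cons_val_zero, Matrix.cons_val_one,
            Matrix.cons_val_fin_one, Fin.mk_one, Fin.zero_eta] <;>
          field_simp <;> ring
      rw [e', ← mul_assoc, hinv, one_mul]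
    have hmem : y⁻¹ * (g : G) * y ∈ zu ι := hE.mem_zu.2 (by rw [e]; simp)
    refine ⟨hmem, ?_⟩
    have e1 : hE.zuA ⟨_, hmem⟩ = hE.zuA g := Subtype.ext (Units.ext (by
      rw [hE.zuA_apply, hE.zuA_apply, e]; rfl))
    have e2 : hE.zuT ⟨_, hmem⟩ = u / a * (hE.M y 1 1 / hE.M y 0 0) := by
      rw [Emb.zuT, e]
      show u * hE.M y 1 1 / hE.M y 0 0 / a = _
      ring
    rw [Emb.lam, e1, e2]
  set th := (θ (hE.scalarC g₀ (hE.zuA g)) : ℂ) with hth
  have hA : ∑ y : G, Cfsg.extendByZero (zu ι) (hE.lam ψ θ) (y⁻¹ * (g : G) * y) =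
      th * ((Fintype.card F : ℂ) * -(Nat.card (zs D) : ℂ)) := by
    rw [← Finset.sum_filter_of_ne (p := fun y => hE.M y 1 0 = 0) fun y _ hy => hconj y
      (by by_contra hn; exact hy (extendByZero_of_notMem _ _ hn)),
      Finset.sum_subtype _ (p := fun y => hE.M y 1 0 = 0) (fun y => Finset.mem_filter.trans (and_iff_right (Finset.mem_univ y)))]
    let e := Equiv.ofBijective _ hE.upperEquiv_bijective
    rw [Fintype.sum_equiv e _ (fun z : diags D × F => th *
      orbitSum D ψ (u / a * (((ratio D z.1 : Fˣ)) : F))) fun y => ?_]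
    · rw [← Finset.mul_sum, Fintype.sum_prod_type]
      simp only [Finset.sum_const, Finset.card_univ, nsmul_eq_mul, ← Finset.mul_sum]
      congr 2
      simp only [orbitSum]
      rw [Finset.sum_comm]
      simp only [← mul_assoc, mul_comm _ (u / a), mul_assoc (u / a), ← Units.val_mul]
      rw [sum_orbits D fun r => ψ (u / a * (r : F)),
        show ∑ r : Fˣ, ψ (u / a * (r : F)) = -1 from ?_, mul_neg, mul_one]
      have hsum : ∑ t : F, ψ (u / a * t) = 0 := by
        rw [← AddChar.sum_eq_zero_of_ne_one hψ]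
        exact Fintype.sum_equiv (Equiv.mulLeft₀ _ (div_ne_zero hu0 ha0)) _ _ fun t => rfl
      rw [← Finset.add_sum_erase _ _ (Finset.mem_univ 0), mul_zero, AddChar.map_zero_eq_one,
        Finset.sum_subtype (p := fun t : F => t ≠ 0) _ (by simp)] at hsum
      rw [← Fintype.sum_equiv unitsEquivNeZero (fun r : Fˣ => ψ (u / a * (r : F)))
        (fun t : {t : F // t ≠ 0} => ψ (u / a * t.1)) fun r => rfl] at hsum
      linear_combination hsum
    · obtain ⟨hy', e'⟩ := hupper y.1 y.2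
      rw [extendByZero_of_mem _ _ hy', e']
      simp only [e, Equiv.ofBijective_apply, ratio, MonoidHom.coe_mk, OneHom.coe_mk,
        Units.val_div_eq_div_val, Units.val_mk0]
  have hBsum : ∑ y : G, Cfsg.extendByZero (torus ι g₀) (fun c => (θ c : ℂ)) (y⁻¹ * (g : G) * y) = 0 :=
    Finset.sum_eq_zero fun y _ => extendByZero_of_notMem _ _ (hB y)
  simp only [Emb.cusp, Pi.sub_apply, Cfsg.indFun, hA, hBsum, mul_zero, sub_zero]
  rw [hE.card_zu, Nat.cast_mul]
  have hq : (Fintype.card F : ℂ) ≠ 0 := Nat.cast_ne_zero.2 Fintype.card_ne_zero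
  have hz : (Nat.card (zs D) : ℂ) ≠ 0 := Nat.cast_ne_zero.2 Nat.card_pos.ne'
  field_simp

theorem Emb.cusp_elliptic {c : torus ι g₀} (hc : Elliptic (hE.M (c : G))) :
    hE.cusp ψ θ (c : G) = -((θ c : ℂ) + (θ c : ℂ) ^ Fintype.card F) := by
  classical
  obtain ⟨hne, ⟨y₀, hy₀⟩, hcases⟩ := hE.conj_pow hg₀ hc
  have hA : ∑ y : G, Cfsg.extendByZero (zu ι) (hE.lam ψ θ) (y⁻¹ * (c : G) * y) = 0 :=
    Finset.sum_eq_zero fun y _ => extendByZero_of_notMem _ _ fun hy =>
      (hc.of_trace_det (hE.trace_conj (c : G) y) (hE.det_conj (c : G) y)).lower_ne_zero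
        (hE.mem_zu.1 hy).1
  have hy : ∀ y : G, Cfsg.extendByZero (torus ι g₀) (fun d => (θ d : ℂ)) (y⁻¹ * (c : G) * y) =
      (if y ∈ torus ι g₀ then (θ c : ℂ) else 0) +
        if y * y₀⁻¹ ∈ torus ι g₀ then (θ c : ℂ) ^ Fintype.card F else 0 := by
    intro y
    have hiff1 := hE.mem_torus_iff hg₀ hc y
    have hiff2 : y * y₀⁻¹ ∈ torus ι g₀ ↔
        y⁻¹ * (c : G) * y = ((c ^ Fintype.card F : torus ι g₀) : G) := by
      rw [← hE.mem_torus_iff hg₀ hc]
      constructor
      · intro h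
        rw [← hy₀]
        calc y⁻¹ * (c : G) * y
            = y₀⁻¹ * ((y * y₀⁻¹)⁻¹ * (c : G) * (y * y₀⁻¹)) * y₀ := by group
          _ = _ := by rw [h]
      · intro h
        calc (y * y₀⁻¹)⁻¹ * (c : G) * (y * y₀⁻¹) = y₀ * (y⁻¹ * (c : G) * y) * y₀⁻¹ := by group
          _ = (c : G) := by rw [h, ← hy₀]; group
    by_cases h1 : y ∈ torus ι g₀
    · rw [hiff1.2 h1, extendByZero_coe, if_pos h1, if_neg, add_zero]
      intro h2
      exact hne (Subtype.ext ((hiff2.1 h2).symm.trans (hiff1.2 h1)))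
    · rw [if_neg h1, zero_add]
      split_ifs with h2
      · rw [hiff2.1 h2, extendByZero_coe, map_pow, Units.val_pow_eq_pow_val]
      · refine extendByZero_of_notMem _ _ fun hm => ?_
        rcases hcases ⟨_, hm⟩ (hE.trace_conj _ _) (hE.det_conj _ _) with e | e
        · exact h1 (hiff1.1 (congrArg Subtype.val e))
        · exact h2 (hiff2.2 (congrArg Subtype.val e))
  have hcount : ∀ z : ℂ, ∑ y : G, (if y ∈ torus ι g₀ then z else 0) =
      (Nat.card (torus ι g₀) : ℂ) * z := fun z => by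
    rw [← Finset.sum_filter, Finset.sum_const, nsmul_eq_mul, Nat.card_eq_fintype_card,
      Fintype.card_subtype]
  have hsum : ∑ y : G, Cfsg.extendByZero (torus ι g₀) (fun d => (θ d : ℂ)) (y⁻¹ * (c : G) * y) =
      (Nat.card (torus ι g₀) : ℂ) * ((θ c : ℂ) + (θ c : ℂ) ^ Fintype.card F) := by
    rw [Finset.sum_congr rfl fun y _ => hy y, Finset.sum_add_distrib, mul_add, hcount,
      ← Equiv.sum_comp (Equiv.mulRight y₀)]
    simp only [Equiv.coe_mulRight, mul_inv_cancel_right, hcount]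
  simp only [Emb.cusp, Pi.sub_apply, Cfsg.indFun, hA, hsum, mul_zero, zero_sub]
  rw [inv_mul_cancel_left₀ (Nat.cast_ne_zero.2 Nat.card_pos.ne')]

omit [Fintype (diags D)] in
/-- Elements with two distinct eigenvalues in `F`. -/
theorem Emb.cusp_split {g : G} {a d : F} (had : a ≠ d) (ht : (hE.M g).trace = a + d)
    (hd : (hE.M g).det = a * d) : hE.cusp ψ θ g = 0 := by
  classical
  have key : ∀ (y : G) (b : F), (hE.M (y⁻¹ * g * y)).trace = b + b →
      (hE.M (y⁻¹ * g * y)).det = b * b → False := fun y b e1 e2 => by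
    rw [hE.trace_conj, ht] at e1
    rw [hE.det_conj, hd] at e2
    exact had (sub_eq_zero.1 (mul_self_eq_zero.1 (show (a - d) * (a - d) = 0 by
      linear_combination (a + d + (b + b)) * e1 - 4 * e2)))
  have hA : ∑ y : G, Cfsg.extendByZero (zu ι) (hE.lam ψ θ) (y⁻¹ * g * y) = 0 :=
    Finset.sum_eq_zero fun y _ => extendByZero_of_notMem _ _ fun hy =>
      key y (hE.M (y⁻¹ * g * y) 0 0) (by rw [Matrix.trace_fin_two, (hE.mem_zu.1 hy).2])
        (by rw [det_upper (hE.mem_zu.1 hy).1, (hE.mem_zu.1 hy).2])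
  have hB : ∑ y : G, Cfsg.extendByZero (torus ι g₀) (fun c => (θ c : ℂ)) (y⁻¹ * g * y) = 0 := by
    refine Finset.sum_eq_zero fun y _ => extendByZero_of_notMem _ _ fun hy => ?_
    rcases hE.torus_cases hg₀ ⟨_, hy⟩ with ⟨z, hz⟩ | h
    · have hz' : hE.M (y⁻¹ * g * y) = ((z : Fˣ) : F) • (1 : Matrix (Fin 2) (Fin 2) F) := by
        rw [show y⁻¹ * g * y = (hE.scalarC g₀ z : G) from congrArg Subtype.val hz, hE.scalarC_spec]
      refine key y ((z : Fˣ) : F) ?_ ?_ <;> rw [hz'] <;> simp [pow_two, mul_two]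
    · have h' := h.charpoly_ne a
      rw [hE.trace_conj, hE.det_conj, ht, hd] at h'
      exact h' (by ring)
  simp only [Emb.cusp, Pi.sub_apply, Cfsg.indFun, hA, hB, mul_zero, sub_zero]

end Values

end CfsgLib.SL2Char
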