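import Cfsg.Agent.Lib.Known.SL2Char.Cuspidal

/-!
# Inner products of cuspidal characters
-/

namespace CfsgLib.SL2Char

open Matrix CfsgLib.Char
open scoped ComplexConjugate

variable {F : Type*} [Field F] {G : Type*} [Group G] {ι : G →* G2 F} {D : Subgroup Fˣ}
  (hE : Emb ι D) {g₀ : G2 F} [Fintype F] [DecidableEq F] [Fintype G]
  (hg₀ : Elliptic (g₀ : Matrix (Fin 2) (Fin 2) F)) [Fintype (Orbits D)] [Fintype (diags D)]

include hE

omit [DecidableEq F] [Fintype G] [Fintype (Orbits D)] [Fintype (diags D)] in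
theorem Emb.scalarC_central (a : zs D) (y : G) :
    y * (hE.scalarC g₀ a : G) = (hE.scalarC g₀ a : G) * y := by
  refine hE.M_injective ?_
  rw [map_mul, map_mul, hE.scalarC_spec, smul_mul_assoc, one_mul, mul_smul_comm, mul_one]

omit [DecidableEq F] [Fintype G] [Fintype (Orbits D)] [Fintype (diags D)] in
/-- An element of `Z U` with vanishing unipotent coordinate is scalar. -/
theorem Emb.eq_scalarC_of_zuT (g : zu ι) (ht : hE.zuT g = 0) :
    (g : G) = (hE.scalarC g₀ (hE.zuA g) : G) := by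
  obtain ⟨x1, x2⟩ := hE.mem_zu.1 g.2
  have h01 : hE.M (g : G) 0 1 = 0 := by
    rw [Emb.zuT, div_eq_zero_iff] at ht
    exact ht.resolve_right (hE.zu_diag_ne_zero g)
  refine hE.M_injective ?_
  rw [hE.scalarC_spec, hE.zuA_apply]
  ext i j
  fin_cases i <;> fin_cases j
  · simp
  · simpa using h01
  · simpa using x1
  · simpa using x2.symm

omit [DecidableEq F] [Fintype G] [Fintype (Orbits D)] [Fintype (diags D)] in
/-- The `q`-th power fixes the scalars. -/
theorem Emb.scalarC_pow (a : zs D) :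
    (hE.scalarC g₀ a) ^ Fintype.card F = hE.scalarC g₀ a := by
  rw [← map_pow]
  congr 1
  exact Subtype.ext (Units.ext (by simp [FiniteField.pow_card]))

include hg₀

omit [Fintype (Orbits D)] [Fintype (diags D)] in
/-- The `q²`-th power is trivial on the torus. -/
theorem Emb.hom_pow_pow (θ : torus ι g₀ →* ℂˣ) : (θ ^ Fintype.card F) ^ Fintype.card F = θ := by
  ext c
  simp only [MonoidHom.pow_apply, ← pow_mul]
  congr 1
  have hc : (c : torus ι g₀) ^ (Fintype.card F ^ 2 - 1) = 1 := by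
    have h1 : (⟨ι (c : G), c.2⟩ : Subgroup.centralizer ({g₀} : Set (G2 F))) ^
        (Fintype.card F ^ 2 - 1) = 1 := by
      rw [← card_centralizer hg₀]; exact pow_card_eq_one'
    refine Subtype.ext (hE.inj ?_)
    have h2 := congrArg Subtype.val h1
    simp only [Subgroup.coe_pow, Subgroup.coe_one] at h2
    rw [Subgroup.coe_pow, map_pow, h2, Subgroup.coe_one, map_one]
  have e : Fintype.card F * Fintype.card F = Fintype.card F ^ 2 - 1 + 1 := by
    rw [← sq, Nat.sub_add_cancel (Nat.one_le_pow _ _ Fintype.card_pos)]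
  rw [← map_pow, e, pow_add, hc, one_mul, pow_one]

variable {ψ : AddChar F ℂ} (hψ : ψ ≠ 1) (θ : torus ι g₀ →* ℂˣ)

omit hg₀ in
/-- The inner product with the character induced from `Z U`. -/
theorem Emb.classInner_lam [Fintype (zu ι)] [Fintype (zs D)] (hψ : ψ ≠ 1) {X : G → ℂ} (f₀ f₁ : zs D → ℂ)
    (h0 : ∀ a, X (hE.scalarC g₀ a : G) = f₀ a)
    (h1 : ∀ g : zu ι, hE.zuT g ≠ 0 → X (g : G) = f₁ (hE.zuA g)) :
    Cfsg.classInner (hE.lam ψ θ) (fun g : zu ι => X (g : G)) =
      (Nat.card (Orbits D) : ℂ) / ((Nat.card (zs D) : ℂ) * Fintype.card F) *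
        ∑ a : zs D, (θ (hE.scalarC g₀ a) : ℂ) * conj (f₀ a - f₁ a) := by
  let e := Equiv.ofBijective _ hE.zuEquiv_bijective
  have key : ∀ g : zu ι, hE.lam ψ θ g * conj (X (g : G)) =
      (θ (hE.scalarC g₀ (hE.zuA g)) : ℂ) * (orbitSum D ψ (hE.zuT g) * conj (f₁ (hE.zuA g)) +
        if hE.zuT g = 0 then (Nat.card (Orbits D) : ℂ) * conj (f₀ (hE.zuA g) - f₁ (hE.zuA g)) else 0) := by
    intro g
    by_cases ht : hE.zuT g = 0
    · rw [if_pos ht, Emb.lam, ht, orbitSum_zero, hE.eq_scalarC_of_zuT g ht, h0, map_sub]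
      ring
    · rw [if_neg ht, Emb.lam, h1 g ht]
      ring
  rw [Cfsg.classInner, Finset.sum_congr rfl fun g _ => key g,
    Fintype.sum_equiv e (fun g : zu ι => (θ (hE.scalarC g₀ (hE.zuA g)) : ℂ) *
      (orbitSum D ψ (hE.zuT g) * conj (f₁ (hE.zuA g)) +
        if hE.zuT g = 0 then (Nat.card (Orbits D) : ℂ) * conj (f₀ (hE.zuA g) - f₁ (hE.zuA g)) else 0))
      (fun z : zs D × F => (θ (hE.scalarC g₀ z.1) : ℂ) *
      (orbitSum D ψ z.2 * conj (f₁ z.1) +
        if z.2 = 0 then (Nat.card (Orbits D) : ℂ) * conj (f₀ z.1 - f₁ z.1) else 0)) (fun g => rfl),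
    Fintype.sum_prod_type, hE.card_zu, Nat.cast_mul, Finset.mul_sum, Finset.mul_sum]
  refine Finset.sum_congr rfl fun a _ => ?_
  dsimp only
  rw [← Finset.mul_sum, Finset.sum_add_distrib, ← Finset.sum_mul, sum_orbitSum hψ, zero_mul, zero_add,
    Finset.sum_ite_eq' Finset.univ (0 : F), if_pos (Finset.mem_univ _)]
  ring

include hψ

open scoped _root_.Classical in
/-- Inner products of two cuspidal characters. -/
theorem Emb.classInner_cusp (θ' : torus ι g₀ →* ℂˣ) :
    Cfsg.classInner (hE.cusp ψ θ) (hE.cusp ψ θ') =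
      (if θ = θ' then 1 else 0) + (if θ = θ' ^ Fintype.card F then 1 else 0) := by
  classical
  have := Fintype.ofFinite (zu ι)
  have := Fintype.ofFinite (zs D)
  have := Fintype.ofFinite (torus ι g₀)
  have hX := IsGen.isClassFunction (hE.isGen_cusp ψ θ')
  rw [Emb.cusp, classInner_sub_left, frobenius_reciprocity _ _ hX, frobenius_reciprocity _ _ hX,
    hE.classInner_lam θ hψ (fun a => ((Fintype.card F : ℂ) - 1) * (θ' (hE.scalarC g₀ a) : ℂ))
      (fun a => -(θ' (hE.scalarC g₀ a) : ℂ)) (hE.cusp_scalar hg₀ ψ θ') (hE.cusp_unipotent hg₀ θ' hψ)]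
  -- the sum over the torus
  have hinj : Function.Injective (hE.scalarC g₀) := fun a b h => by
    have e := congrArg (fun c : torus ι g₀ => hE.M (c : G) 0 0) h
    simp only [hE.scalarC_spec] at e
    exact Subtype.ext (Units.ext (by simpa using e))
  set S : ℂ := ∑ a : zs D, (θ (hE.scalarC g₀ a) : ℂ) * conj (θ' (hE.scalarC g₀ a) : ℂ) with hS
  have hC : ∑ c : torus ι g₀, (θ c : ℂ) * conj (hE.cusp ψ θ' (c : G)) =
      ((Fintype.card F : ℂ) + 1) * S -
        (∑ c : torus ι g₀, (θ c : ℂ) * conj (θ' c : ℂ) +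
          ∑ c : torus ι g₀, (θ c : ℂ) * conj ((θ' ^ Fintype.card F) c : ℂ)) := by
    have hval : ∀ c : torus ι g₀, (θ c : ℂ) * conj (hE.cusp ψ θ' (c : G)) =
        (if c ∈ Finset.univ.image (hE.scalarC g₀) then
          ((Fintype.card F : ℂ) + 1) * ((θ c : ℂ) * conj (θ' c : ℂ)) else 0) -
          ((θ c : ℂ) * conj (θ' c : ℂ) + (θ c : ℂ) * conj ((θ' ^ Fintype.card F) c : ℂ)) := by
      intro c
      rcases hE.torus_cases hg₀ c with ⟨a, rfl⟩ | hc
      · rw [if_pos (Finset.mem_image_of_mem _ (Finset.mem_univ a)), hE.cusp_scalar hg₀,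
          MonoidHom.pow_apply, ← map_pow, hE.scalarC_pow, map_mul, map_sub, map_natCast, map_one]
        ring
      · rw [if_neg, hE.cusp_elliptic hg₀ ψ θ' hc, MonoidHom.pow_apply, Units.val_pow_eq_pow_val,
          map_neg, map_add]
        · ring
        · intro hmem
          obtain ⟨a, -, rfl⟩ := Finset.mem_image.1 hmem
          exact hE.not_elliptic_scalarC hg₀ a hc
    rw [Finset.sum_congr rfl fun c _ => hval c, Finset.sum_sub_distrib, Finset.sum_add_distrib,
      ← Finset.sum_filter, Finset.filter_univ_mem, Finset.sum_image hinj.injOn, hS, Finset.mul_sum]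
  have hA : ∑ a : zs D, (θ (hE.scalarC g₀ a) : ℂ) *
      conj (((Fintype.card F : ℂ) - 1) * (θ' (hE.scalarC g₀ a) : ℂ) - -(θ' (hE.scalarC g₀ a) : ℂ)) =
      (Fintype.card F : ℂ) * S := by
    rw [hS, Finset.mul_sum]
    refine Finset.sum_congr rfl fun a _ => ?_
    rw [map_sub, map_mul, map_sub, map_neg, map_natCast, map_one]
    ring
  rw [hA, Cfsg.classInner, hC, sum_hom_mul_conj, sum_hom_mul_conj, hE.card_torus hg₀,
    Nat.cast_mul, Nat.cast_add, Nat.cast_one, ← card_orbits_mul D, Nat.cast_mul]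
  have hq : (Fintype.card F : ℂ) ≠ 0 := Nat.cast_ne_zero.2 Fintype.card_ne_zero
  have hq1 : (Fintype.card F : ℂ) + 1 ≠ 0 := Nat.cast_add_one_ne_zero _
  have hD : (Nat.card D : ℂ) ≠ 0 := Nat.cast_ne_zero.2 Nat.card_pos.ne'
  have hk : (Nat.card (Orbits D) : ℂ) ≠ 0 := Nat.cast_ne_zero.2 Nat.card_pos.ne'
  split_ifs <;> field_simp <;> ring

/-- Against a class function that does not see the unipotent coordinate only the torus counts. -/
theorem Emb.classInner_cusp_of_const [Fintype (torus ι g₀)] {X : G → ℂ}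
    (hX : Cfsg.IsClassFunction G X)
    (h : ∀ g : zu ι, X (g : G) = X (hE.scalarC g₀ (hE.zuA g) : G)) :
    Cfsg.classInner (hE.cusp ψ θ) X =
      -Cfsg.classInner (fun c : torus ι g₀ => (θ c : ℂ)) (fun c => X (c : G)) := by
  have := Fintype.ofFinite (zu ι)
  have := Fintype.ofFinite (zs D)
  rw [Emb.cusp, classInner_sub_left, frobenius_reciprocity _ _ hX, frobenius_reciprocity _ _ hX,
    hE.classInner_lam θ hψ (fun a => X (hE.scalarC g₀ a : G)) (fun a => X (hE.scalarC g₀ a : G))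
      (fun a => rfl) (fun g _ => h g)]
  simp

/-- The cuspidal characters are orthogonal to everything induced from the diagonal of the Borel
subgroup. -/
theorem Emb.classInner_upper_cusp {H : Subgroup G} [Fintype H]
    (hH : ∀ g, g ∈ H ↔ hE.M g 1 0 = 0) (φ : F → F → ℂ) :
    Cfsg.classInner (Cfsg.indFun H fun b : H => φ (hE.M (b : G) 0 0) (hE.M (b : G) 1 1))
      (hE.cusp ψ θ) = 0 := by
  classical
  rw [frobenius_reciprocity _ _ (IsGen.isClassFunction (hE.isGen_cusp ψ θ)), Cfsg.classInner]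
  refine mul_eq_zero_of_right _ ?_
  let e : H ≃ diags D × F :=
    (Equiv.subtypeEquivRight hH).trans (Equiv.ofBijective _ hE.upperEquiv_bijective)
  have he : ∀ z : diags D × F, hE.M (e.symm z : G) 0 0 = (z.1.1.1 : F) ∧
      hE.M (e.symm z : G) 1 1 = (z.1.1.2 : F) ∧ hE.M (e.symm z : G) 0 1 = z.2 := fun z => by
    have h := e.apply_symm_apply z
    exact ⟨congrArg (fun w : diags D × F => ((w.1.1.1 : Fˣ) : F)) h,
      congrArg (fun w : diags D × F => ((w.1.1.2 : Fˣ) : F)) h, congrArg Prod.snd h⟩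
  rw [← e.symm.sum_comp, Fintype.sum_prod_type]
  refine Finset.sum_eq_zero fun p _ => ?_
  simp only [(he (p, _)).1, (he (p, _)).2.1, ← Finset.mul_sum]
  refine mul_eq_zero_of_right _ ?_
  rw [← map_sum]
  refine (map_eq_zero _).2 ?_
  have hup : ∀ u : F, hE.M (e.symm (p, u) : G) 1 0 = 0 := fun u => (hH _).1 (SetLike.coe_mem _)
  by_cases had : (p.1.1 : F) = (p.1.2 : F)
  · have hz : ∀ u : F, (e.symm (p, u) : G) ∈ zu ι := fun u => hE.mem_zu.2 ⟨hup u, by
      rw [(he (p, u)).1, (he (p, u)).2.1, had]⟩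
    have hA : ∀ u : F, hE.zuA ⟨_, hz u⟩ = hE.zuA ⟨_, hz 0⟩ := fun u => Subtype.ext (Units.ext (by
      rw [hE.zuA_apply, hE.zuA_apply, (he (p, u)).1, (he (p, 0)).1]))
    have hT : ∀ u : F, hE.zuT ⟨_, hz u⟩ = u / (p.1.1 : F) := fun u => by
      rw [Emb.zuT, (he (p, u)).1, (he (p, u)).2.2]
    have h0 : hE.zuT ⟨_, hz 0⟩ = 0 := by rw [hT, zero_div]
    rw [← Finset.add_sum_erase _ _ (Finset.mem_univ (0 : F)),
      show (e.symm (p, (0 : F)) : G) = (hE.scalarC g₀ (hE.zuA ⟨_, hz 0⟩) : G) from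
        hE.eq_scalarC_of_zuT ⟨_, hz 0⟩ h0, hE.cusp_scalar hg₀,
      Finset.sum_congr rfl fun u hu => (hE.cusp_unipotent hg₀ θ hψ ⟨_, hz u⟩ (by
        rw [hT]; exact div_ne_zero (Finset.ne_of_mem_erase hu) p.1.1.ne_zero)).trans (by rw [hA u]),
      Finset.sum_const, Finset.card_erase_of_mem (Finset.mem_univ _), Finset.card_univ, nsmul_eq_mul,
      Nat.cast_sub Fintype.card_pos, Nat.cast_one]
    ring
  · refine Finset.sum_eq_zero fun u _ => hE.cusp_split hg₀ ψ θ had ?_ ?_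
    · rw [Matrix.trace_fin_two, (he (p, u)).1, (he (p, u)).2.1]
    · rw [det_upper (hup u), (he (p, u)).1, (he (p, u)).2.1]

open scoped _root_.Classical in
/-- A cuspidal character in general position is irreducible. -/
theorem Emb.isIrr_cusp (hθ : θ ≠ θ ^ Fintype.card F) :
    Cfsg.IsIrrCharacter G (hE.cusp ψ θ) := by
  refine IsGen.isIrr_of_norm_one (hE.isGen_cusp ψ θ) ?_ ?_
  · rw [hE.classInner_cusp hg₀ hψ θ θ, if_pos rfl, if_neg hθ, add_zero]
  · rw [hE.cusp_one hg₀]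
    have : (1 : ℝ) < Fintype.card F := by exact_mod_cast Fintype.one_lt_card
    simpa using this

omit hψ in
/-- The central character of a cuspidal character. -/
theorem Emb.cusp_mul_scalar (a : zs D) (g : G) :
    hE.cusp ψ θ ((hE.scalarC g₀ a : G) * g) =
      (θ (hE.scalarC g₀ a) : ℂ) * hE.cusp ψ θ g := by
  classical
  set z : G := (hE.scalarC g₀ a : G) with hz
  have hconj : ∀ y : G, y⁻¹ * (z * g) * y = z * (y⁻¹ * g * y) := fun y => by
    rw [← mul_assoc, hE.scalarC_central, mul_assoc, mul_assoc, mul_assoc]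
  have hzu : z ∈ zu ι := hE.mem_zu.2 (by rw [hz, hE.scalarC_spec]; simp)
  have key : ∀ (H : Subgroup G) (f : H → ℂ) (hzH : z ∈ H),
      (∀ h : H, f (⟨z, hzH⟩ * h) = (θ (hE.scalarC g₀ a) : ℂ) * f h) →
      Cfsg.indFun H f (z * g) = (θ (hE.scalarC g₀ a) : ℂ) * Cfsg.indFun H f g := by
    intro H f hzH hf
    simp only [Cfsg.indFun, hconj, Finset.mul_sum]
    refine Finset.sum_congr rfl fun y _ => ?_
    by_cases h : y⁻¹ * g * y ∈ H
    · rw [extendByZero_of_mem _ _ h, extendByZero_of_mem _ _ (H.mul_mem hzH h)]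
      have hf' := hf ⟨_, h⟩
      rw [show (⟨z, hzH⟩ * ⟨_, h⟩ : H) = ⟨z * (y⁻¹ * g * y), H.mul_mem hzH h⟩ from rfl] at hf'
      rw [hf']
      ring
    · rw [extendByZero_of_notMem _ _ h, extendByZero_of_notMem _ _ fun h' => h (by
        simpa using H.mul_mem (H.inv_mem hzH) h')]
      ring
  have hA : hE.zuA ⟨z, hzu⟩ = a := Subtype.ext (Units.ext (by
    rw [hE.zuA_apply]; simp only [hz, hE.scalarC_spec]; simp))
  have hT : hE.zuT ⟨z, hzu⟩ = 0 := by
    rw [Emb.zuT]; simp only [hz, hE.scalarC_spec]; simp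
  simp only [Emb.cusp, Pi.sub_apply]
  rw [key (zu ι) _ hzu fun h => ?_, key (torus ι g₀) _ (hE.scalarC g₀ a).2 fun h => ?_, mul_sub]
  · show _ = (θ (hE.scalarC g₀ a) : ℂ) * (θ h : ℂ)
    rw [← Units.val_mul, ← map_mul]
  · rw [Emb.lam, Emb.lam, map_mul, hA, map_mul, map_mul, hE.zuT_mul, hT, zero_add, Units.val_mul,
      mul_assoc]

end CfsgLib.SL2Char
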