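import Cfsg.Agent.Lib.Known.SL2Char.Borel
import Cfsg.Agent.Lib.Char.Virtual

/-!
# The principal series
-/

namespace CfsgLib.SL2Char

open Matrix CfsgLib.Char
open scoped ComplexConjugate

/-- A function of norm zero vanishes. -/
theorem eq_zero_of_classInner_self {G : Type*} [Group G] [Fintype G] {f : G → ℂ}
    (h : Cfsg.classInner f f = 0) : f = 0 := by
  rw [Cfsg.classInner, mul_eq_zero] at h
  have h' := h.resolve_left (inv_ne_zero (Nat.cast_ne_zero.2 Nat.card_pos.ne'))
  simp only [Complex.mul_conj'] at h'
  have h'' : ∑ g, ‖f g‖ ^ 2 = 0 := by exact_mod_cast h'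
  funext g
  simpa using (Finset.sum_eq_zero_iff_of_nonneg fun _ _ => by positivity).1 h'' g (Finset.mem_univ g)

theorem eq_of_classInner_eq_self {G : Type*} [Group G] [Fintype G] {f g : G → ℂ} {c : ℂ}
    (hf : Cfsg.classInner f f = c) (hg : Cfsg.classInner g g = c) (hfg : Cfsg.classInner f g = c) :
    f = g := by
  refine sub_eq_zero.1 (eq_zero_of_classInner_self ?_)
  have hgf : Cfsg.classInner g f = conj c := by rw [← hfg, classInner_conj_symm]
  have hc : conj c = c := by rw [← hf, classInner_conj_symm]
  rw [classInner_sub_left, classInner_sub_right, classInner_sub_right, hf, hg, hfg, hgf, hc]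
  ring

variable {F : Type*} [Field F]

theorem isCharacter_borelGL (α β : MulChar F ℂ) :
    Cfsg.IsCharacter (Cfsg.upperTriangularGL 2 F) fun b =>
      α (MGL (b : Matrix.GeneralLinearGroup (Fin 2) F) 0 0) *
        β (MGL (b : Matrix.GeneralLinearGroup (Fin 2) F) 1 1) := by
  let l : Cfsg.upperTriangularGL 2 F →* ℂˣ :=
    { toFun := fun b => α.toUnitHom (borelGL b).1.1 * β.toUnitHom (borelGL b).1.2
      map_one' := by
        rw [show (borelGL (1 : Cfsg.upperTriangularGL 2 F)).1 = 1 from
          Prod.ext (Units.ext (by simp [borelGL])) (Units.ext (by simp [borelGL]))]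
        simp
      map_mul' := fun x y => by
        rw [show (borelGL (x * y)).1 = (borelGL x).1 * (borelGL y).1 from
          Prod.ext (Units.ext ?_) (Units.ext ?_)]
        · simp [mul_mul_mul_comm]
        · have := (mem_upperGL _).1 y.2
          simp at this
          simp [borelGL, Matrix.mul_apply, Fin.sum_univ_two, this]
        · have := (mem_upperGL _).1 x.2
          simp at this
          simp [borelGL, Matrix.mul_apply, Fin.sum_univ_two, this] }
  have h := IsIrr.isCharacter (isIrrCharacter_linear l)
  convert h using 1
  funext b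
  simp [l, borelGL]

theorem isCharacter_borelSL (α : MulChar F ℂ) :
    Cfsg.IsCharacter ((Cfsg.upperTriangularGL 2 F).comap Matrix.SpecialLinearGroup.toGL) fun b =>
      α (MSL (b : Matrix.SpecialLinearGroup (Fin 2) F) 0 0) := by
  let l : (Cfsg.upperTriangularGL 2 F).comap Matrix.SpecialLinearGroup.toGL →* ℂˣ :=
    { toFun := fun b => α.toUnitHom (borelSL b).1
      map_one' := by
        rw [show (borelSL (1 : (Cfsg.upperTriangularGL 2 F).comap
          Matrix.SpecialLinearGroup.toGL)).1 = 1 from Units.ext (by simp [borelSL])]
        simp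
      map_mul' := fun x y => by
        rw [show (borelSL (x * y)).1 = (borelSL x).1 * (borelSL y).1 from Units.ext ?_]
        · simp
        · have := (mem_upperSL _).1 y.2
          simp at this
          simp [borelSL, Matrix.mul_apply, Fin.sum_univ_two, this] }
  have h := IsIrr.isCharacter (isIrrCharacter_linear l)
  convert h using 1
  funext b
  simp [l, borelSL]

end CfsgLib.SL2Char
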