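import Cfsg.Agent.Lib.Known.SL2Char.Normalizers
import Cfsg.Agent.Lib.Known.SL2Char.Principal

/-!
# Groups between `SL₂` and `GL₂`

`GL₂` and `SL₂` are treated at once: a group `G` with an injective map `ι` to `GL₂` whose image
consists of the elements with determinant in `D`.
-/

namespace CfsgLib.SL2Char

open Matrix CfsgLib.Char
open scoped ComplexConjugate

variable {F : Type*} [Field F]

/-- `G` is the group of matrices with determinant in `D`. -/
structure Emb {G : Type*} [Group G] (ι : G →* G2 F) (D : Subgroup Fˣ) : Prop where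
  inj : Function.Injective ι
  mem : ∀ x : G2 F, (∃ g, ι g = x) ↔ Matrix.GeneralLinearGroup.det x ∈ D

theorem emb_GL : Emb (MonoidHom.id (G2 F)) (⊤ : Subgroup Fˣ) where
  inj := fun _ _ h => h
  mem := fun x => ⟨fun _ => Subgroup.mem_top _, fun _ => ⟨x, rfl⟩⟩

theorem emb_SL : Emb (Matrix.SpecialLinearGroup.toGL : PLocal.SLTwo.S2 F →* G2 F) ⊥ where
  inj := Matrix.SpecialLinearGroup.toGL_injective
  mem := fun x => by
    rw [Subgroup.mem_bot]
    constructor
    · rintro ⟨g, rfl⟩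
      exact Units.ext g.2
    · intro h
      exact ⟨⟨(x : Matrix (Fin 2) (Fin 2) F), congrArg Units.val h⟩, Units.ext rfl⟩

/-- The units whose square lies in `D`: the scalars of the group. -/
def zs (D : Subgroup Fˣ) : Subgroup Fˣ := D.comap (powMonoidHom 2)

theorem mem_zs {D : Subgroup Fˣ} {a : Fˣ} : a ∈ zs D ↔ a * a ∈ D := by
  rw [zs, Subgroup.mem_comap, powMonoidHom_apply, pow_two]

/-- The diagonals of the group. -/
def diags (D : Subgroup Fˣ) : Subgroup (Fˣ × Fˣ) :=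
  D.comap ((MonoidHom.id Fˣ).coprod (MonoidHom.id Fˣ))

theorem mem_diags {D : Subgroup Fˣ} {p : Fˣ × Fˣ} : p ∈ diags D ↔ p.1 * p.2 ∈ D := Iff.rfl

/-- The action of a diagonal on the root group. -/
def ratio (D : Subgroup Fˣ) : diags D →* Fˣ where
  toFun p := p.1.2 / p.1.1
  map_one' := by simp
  map_mul' p p' := mul_div_mul_comm _ _ _ _

/-- Orbits of the diagonals on the nonzero elements of the root group. -/
abbrev Orbits (D : Subgroup Fˣ) : Type _ := Fˣ ⧸ (ratio D).range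

/-- `diags D ≃ Fˣ × D`. -/
def diagsEquiv (D : Subgroup Fˣ) : diags D ≃ Fˣ × D where
  toFun p := (p.1.1, ⟨p.1.1 * p.1.2, p.2⟩)
  invFun z := ⟨(z.1, z.1⁻¹ * z.2), by rw [mem_diags, mul_inv_cancel_left]; exact z.2.2⟩
  left_inv p := Subtype.ext (Prod.ext rfl (inv_mul_cancel_left _ _))
  right_inv z := Prod.ext rfl (Subtype.ext (mul_inv_cancel_left _ _))

theorem card_fiber_orbits (D : Subgroup Fˣ) (r : Fˣ) :
    Nat.card {z : Orbits D × diags D // z.1.out * ratio D z.2 = r} = Nat.card (zs D) := by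
  obtain ⟨p₀, hp₀⟩ : (Quotient.out (QuotientGroup.mk r : Orbits D))⁻¹ * r ∈ (ratio D).range :=
    QuotientGroup.eq.1 (QuotientGroup.out_eq' (QuotientGroup.mk r : Orbits D))
  have hq : ∀ z : {z : Orbits D × diags D // z.1.out * ratio D z.2 = r},
      z.1.1 = (QuotientGroup.mk r : Orbits D) := fun z => by
    refine (QuotientGroup.out_eq' z.1.1).symm.trans (QuotientGroup.eq.2 ⟨z.1.2, ?_⟩)
    rw [eq_inv_mul_iff_mul_eq]
    exact z.2
  have hr : ∀ z : {z : Orbits D × diags D // z.1.out * ratio D z.2 = r}, ratio D z.1.2 = ratio D p₀ := fun z => by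
    have h := z.2
    rw [hq z] at h
    rw [hp₀, eq_inv_mul_iff_mul_eq]
    exact h
  refine Nat.card_congr
    { toFun := fun z => ⟨z.1.2.1.1 / p₀.1.1, ?_⟩
      invFun := fun a => ⟨(QuotientGroup.mk r, ⟨((a : Fˣ) * p₀.1.1, (a : Fˣ) * p₀.1.2), ?_⟩), ?_⟩
      left_inv := fun z => ?_
      right_inv := fun a => Subtype.ext (mul_div_cancel_right _ _) }
  · rw [mem_zs]
    have e : z.1.2.1.2 / z.1.2.1.1 = p₀.1.2 / p₀.1.1 := hr z
    have e2 : z.1.2.1.1 / p₀.1.1 = z.1.2.1.2 / p₀.1.2 := by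
      rw [div_eq_div_iff_mul_eq_mul] at e ⊢
      rw [e, mul_comm]
    have h1 := D.div_mem z.1.2.2 p₀.2
    change z.1.2.1.1 * z.1.2.1.2 / (p₀.1.1 * p₀.1.2) ∈ D at h1
    rw [← div_mul_div_comm, ← e2] at h1
    exact h1
  · rw [mem_diags, mul_mul_mul_comm]
    exact D.mul_mem (mem_zs.1 a.2) p₀.2
  · show Quotient.out (QuotientGroup.mk r : Orbits D) * ((a : Fˣ) * p₀.1.2 / ((a : Fˣ) * p₀.1.1)) = r
    rw [mul_div_mul_left_eq_div]
    exact mul_eq_of_eq_inv_mul hp₀
  · refine Subtype.ext (Prod.ext (hq z).symm (Subtype.ext (Prod.ext (div_mul_cancel _ _) ?_)))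
    show z.1.2.1.1 / p₀.1.1 * p₀.1.2 = z.1.2.1.2
    have e : z.1.2.1.2 / z.1.2.1.1 = p₀.1.2 / p₀.1.1 := hr z
    rw [div_mul_eq_mul_div, div_eq_iff_eq_mul]
    rw [div_eq_div_iff_mul_eq_mul] at e
    rw [e, mul_comm]

section Sums

variable [Fintype F] [DecidableEq F] (D : Subgroup Fˣ) [Fintype (Orbits D)] [Fintype (diags D)]

theorem sum_orbits (f : Fˣ → ℂ) :
    ∑ q : Orbits D, ∑ p : diags D, f (q.out * ratio D p) = (Nat.card (zs D) : ℂ) * ∑ r : Fˣ, f r := by
  classical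
  rw [← Fintype.sum_prod_type' (fun (q : Orbits D) (p : diags D) => f (q.out * ratio D p)),
    ← Fintype.sum_fiberwise (fun z : Orbits D × diags D => z.1.out * ratio D z.2), Finset.mul_sum]
  refine Finset.sum_congr rfl fun r _ => ?_
  rw [Finset.sum_congr rfl (fun z _ => congrArg f z.2), Finset.sum_const, Finset.card_univ,
    ← Nat.card_eq_fintype_card, card_fiber_orbits, nsmul_eq_mul]

omit [DecidableEq F] in
/-- The number of orbits times the order of `D` is the number of scalars. -/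
theorem card_orbits_mul : Nat.card (Orbits D) * Nat.card D = Nat.card (zs D) := by
  classical
  have h := sum_orbits D fun _ => 1
  simp only [Finset.sum_const, Finset.card_univ, nsmul_eq_mul, mul_one,
    ← Nat.card_eq_fintype_card] at h
  have h' : Nat.card (Orbits D) * Nat.card (diags D) = Nat.card (zs D) * Nat.card Fˣ := by
    exact_mod_cast h
  rw [Nat.card_congr (diagsEquiv D), Nat.card_prod, mul_comm (Nat.card Fˣ), ← mul_assoc] at h'
  exact Nat.eq_of_mul_eq_mul_right Nat.card_pos h'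

end Sums

/-- Linear characters are orthogonal. -/
theorem sum_hom_mul_conj {C : Type*} [Group C] [Fintype C] (a b : C →* ℂˣ) [Decidable (a = b)] :
    ∑ c : C, (a c : ℂ) * conj (b c : ℂ) = if a = b then (Nat.card C : ℂ) else 0 := by
  classical
  have h := classInner_irr (⟨_, isIrrCharacter_linear a⟩ : Cfsg.IrrCharacter C) ⟨_, isIrrCharacter_linear b⟩
  have hiff : (⟨_, isIrrCharacter_linear a⟩ : Cfsg.IrrCharacter C) = ⟨_, isIrrCharacter_linear b⟩ ↔ a = b :=
    ⟨fun e => MonoidHom.ext fun c => Units.ext (congrFun (congrArg Subtype.val e) c),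
      fun e => by subst e; rfl⟩
  rw [Cfsg.classInner, inv_mul_eq_iff_eq_mul₀ (Nat.cast_ne_zero.2 Nat.card_pos.ne'),
    if_congr hiff rfl rfl, mul_ite, mul_one, mul_zero] at h
  exact h

variable {G : Type*} [Group G] {ι : G →* G2 F} {D : Subgroup Fˣ}

/-- The matrix of an element. -/
def Emb.M (_hE : Emb ι D) : G →* Matrix (Fin 2) (Fin 2) F := (Units.coeHom _).comp ι

variable (hE : Emb ι D)
include hE

@[simp] theorem Emb.M_apply (g : G) : hE.M g = (ι g : Matrix (Fin 2) (Fin 2) F) := rfl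

theorem Emb.M_injective : Function.Injective hE.M := fun _ _ h => hE.inj (Units.ext h)

theorem Emb.det_mem (g : G) : Matrix.GeneralLinearGroup.det (ι g) ∈ D := (hE.mem _).1 ⟨g, rfl⟩

theorem Emb.det_ne_zero (g : G) : (hE.M g).det ≠ 0 :=
  ((Matrix.isUnit_iff_isUnit_det _).1 (ι g).isUnit).ne_zero

theorem Emb.exists_eq {A : Matrix (Fin 2) (Fin 2) F} (d : Fˣ) (hA : A.det = d) (hd : d ∈ D) :
    ∃ g : G, hE.M g = A := by
  have hd0 : A.det ≠ 0 := by rw [hA]; exact d.ne_zero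
  obtain ⟨g, hg⟩ := (hE.mem (Matrix.GeneralLinearGroup.mkOfDetNeZero A hd0)).2
    (by convert hd using 1; exact Units.ext hA)
  exact ⟨g, congrArg Units.val hg⟩

theorem Emb.trace_conj (x y : G) : (hE.M (y⁻¹ * x * y)).trace = (hE.M x).trace := by
  simp only [Emb.M_apply, map_mul, map_inv, Units.val_mul]
  exact Matrix.trace_units_conj' (ι y) _

theorem Emb.det_conj (x y : G) : (hE.M (y⁻¹ * x * y)).det = (hE.M x).det := by
  rw [map_mul, map_mul, Matrix.det_mul, Matrix.det_mul, mul_right_comm, ← Matrix.det_mul, ← map_mul,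
    inv_mul_cancel, map_one, Matrix.det_one, one_mul]

omit hE in
/-- The subgroup of upper triangular matrices with equal diagonal entries. -/
def zuGL : Subgroup (G2 F) where
  carrier := {x | (x : Matrix (Fin 2) (Fin 2) F) 1 0 = 0 ∧
    (x : Matrix (Fin 2) (Fin 2) F) 0 0 = (x : Matrix (Fin 2) (Fin 2) F) 1 1}
  mul_mem' := fun {a b} ha hb => by
    obtain ⟨a1, a2⟩ := ha
    obtain ⟨b1, b2⟩ := hb
    constructor <;> simp [Matrix.mul_apply, Fin.sum_univ_two, a1, a2, b1, b2]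
  one_mem' := by simp
  inv_mem' := fun {a} ha => by
    obtain ⟨a1, a2⟩ := ha
    have h : (↑a⁻¹ : Matrix (Fin 2) (Fin 2) F) * (a : Matrix (Fin 2) (Fin 2) F) = 1 := Units.inv_mul a
    have ha0 : (a : Matrix (Fin 2) (Fin 2) F) 0 0 ≠ 0 := fun h0 => by
      have := congrFun (congrFun h 0) 0
      simp [Matrix.mul_apply, Fin.sum_univ_two, a1, h0] at this
    generalize hB : (↑a⁻¹ : Matrix (Fin 2) (Fin 2) F) = B at h
    change (↑a⁻¹ : Matrix (Fin 2) (Fin 2) F) 1 0 = 0 ∧
      (↑a⁻¹ : Matrix (Fin 2) (Fin 2) F) 0 0 = (↑a⁻¹ : Matrix (Fin 2) (Fin 2) F) 1 1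
    rw [hB]
    have e10 := congrFun (congrFun h 1) 0
    have e00 := congrFun (congrFun h 0) 0
    have e11 := congrFun (congrFun h 1) 1
    simp [Matrix.mul_apply, Fin.sum_univ_two, a1] at e10 e00 e11
    have i10 : B 1 0 = 0 := e10.resolve_right ha0
    refine ⟨i10, ?_⟩
    rw [i10, zero_mul, zero_add, ← a2] at e11
    exact mul_right_cancel₀ ha0 (e00.trans e11.symm)

omit hE in
/-- `Z U` in `G`. -/
abbrev zu (ι : G →* G2 F) : Subgroup G := zuGL.comap ι

theorem Emb.mem_zu {g : G} : g ∈ zu ι ↔ hE.M g 1 0 = 0 ∧ hE.M g 0 0 = hE.M g 1 1 := Iff.rfl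

theorem Emb.zu_diag_ne_zero (g : zu ι) : hE.M (g : G) 0 0 ≠ 0 := fun h => hE.det_ne_zero g (by
  rw [det_upper (hE.mem_zu.1 g.2).1, h, zero_mul])

/-- The scalar part of an element of `Z U`. -/
def Emb.zuA : zu ι →* zs D where
  toFun g := ⟨Units.mk0 _ (hE.zu_diag_ne_zero g), by
    rw [mem_zs]
    convert hE.det_mem (g : G) using 1
    refine Units.ext ?_
    show _ = (hE.M (g : G)).det
    rw [det_upper (hE.mem_zu.1 g.2).1, ← (hE.mem_zu.1 g.2).2]
    rfl⟩
  map_one' := Subtype.ext (Units.ext (by simp))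
  map_mul' x y := Subtype.ext (Units.ext (by
    have := (hE.mem_zu.1 y.2).1
    simp only [Emb.M_apply] at this
    simp [Matrix.mul_apply, Fin.sum_univ_two, this]))

theorem Emb.zuA_apply (g : zu ι) : ((hE.zuA g : Fˣ) : F) = hE.M (g : G) 0 0 := rfl

/-- The unipotent part of an element of `Z U`, an additive coordinate. -/
def Emb.zuT (g : zu ι) : F := hE.M (g : G) 0 1 / hE.M (g : G) 0 0

theorem Emb.zuT_mul (x y : zu ι) : hE.zuT (x * y) = hE.zuT x + hE.zuT y := by
  have hx := hE.zu_diag_ne_zero x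
  have hy := hE.zu_diag_ne_zero y
  obtain ⟨-, x2⟩ := hE.mem_zu.1 x.2
  obtain ⟨y1, y2⟩ := hE.mem_zu.1 y.2
  simp only [Emb.zuT, Emb.M_apply, Subgroup.coe_mul, map_mul, Units.val_mul, Matrix.mul_apply,
    Fin.sum_univ_two] at *
  rw [y1, mul_zero, add_zero, ← y2]
  field_simp
  ring

theorem Emb.exists_scalar (a : zs D) : ∃ g : G, hE.M g = ((a : Fˣ) : F) • (1 : Matrix (Fin 2) (Fin 2) F) :=
  hE.exists_eq ((a : Fˣ) * (a : Fˣ)) (by simp [pow_two]) (mem_zs.1 a.2)

theorem Emb.zuEquiv_bijective : Function.Bijective fun g : zu ι => (hE.zuA g, hE.zuT g) := by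
  constructor
  · intro x y h
    obtain ⟨x1, x2⟩ := hE.mem_zu.1 x.2
    obtain ⟨y1, y2⟩ := hE.mem_zu.1 y.2
    have h0 : hE.M (x : G) 0 0 = hE.M (y : G) 0 0 :=
      congrArg (fun z : zs D × F => ((z.1 : Fˣ) : F)) h
    have h1 : hE.zuT x = hE.zuT y := congrArg Prod.snd h
    simp only [Emb.zuT, h0] at h1
    have h01 := (div_left_inj' (hE.zu_diag_ne_zero y)).1 h1
    refine Subtype.ext (hE.M_injective ?_)
    ext i j
    fin_cases i <;> fin_cases j
    · exact h0
    · exact h01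
    · exact x1.trans y1.symm
    · exact x2.symm.trans (h0.trans y2)
  · rintro ⟨a, t⟩
    obtain ⟨g, hg⟩ := hE.exists_eq (A := !![((a : Fˣ) : F), ((a : Fˣ) : F) * t; 0, ((a : Fˣ) : F)])
      ((a : Fˣ) * (a : Fˣ)) (by simp [Matrix.det_fin_two_of]) (mem_zs.1 a.2)
    refine ⟨⟨g, hE.mem_zu.2 ⟨by rw [hg]; rfl, by rw [hg]; rfl⟩⟩, ?_⟩
    refine Prod.ext (Subtype.ext (Units.ext ?_)) ?_
    · show hE.M g 0 0 = _
      rw [hg]; rfl
    · show hE.M g 0 1 / hE.M g 0 0 = t
      rw [hg]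
      show ((a : Fˣ) : F) * t / ((a : Fˣ) : F) = t
      rw [mul_div_cancel_left₀ _ (a : Fˣ).ne_zero]

theorem Emb.diag_mem {g : G} (hg : hE.M g 1 0 = 0) : ∃ h0 : hE.M g 0 0 ≠ 0, ∃ h1 : hE.M g 1 1 ≠ 0,
    ((Units.mk0 _ h0, Units.mk0 _ h1) : Fˣ × Fˣ) ∈ diags D := by
  have hd := hE.det_ne_zero g
  rw [det_upper hg] at hd
  refine ⟨left_ne_zero_of_mul hd, right_ne_zero_of_mul hd, ?_⟩
  rw [mem_diags]
  convert hE.det_mem g using 1
  exact Units.ext (det_upper hg).symm

theorem Emb.upperEquiv_bijective :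
    Function.Bijective fun g : {g : G // hE.M g 1 0 = 0} =>
      ((⟨(Units.mk0 _ (hE.diag_mem g.2).choose, Units.mk0 _ (hE.diag_mem g.2).choose_spec.choose),
        (hE.diag_mem g.2).choose_spec.choose_spec⟩ : diags D), hE.M g.1 0 1) := by
  constructor
  · intro x y h
    have h00 := congrArg (fun z : diags D × F => ((z.1.1.1 : Fˣ) : F)) h
    have h11 := congrArg (fun z : diags D × F => ((z.1.1.2 : Fˣ) : F)) h
    have h01 := congrArg Prod.snd h
    refine Subtype.ext (hE.M_injective ?_)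
    ext i j
    fin_cases i <;> fin_cases j
    · exact h00
    · exact h01
    · exact x.2.trans y.2.symm
    · exact h11
  · rintro ⟨⟨⟨a, d⟩, hp⟩, u⟩
    obtain ⟨g, hg⟩ := hE.exists_eq (A := !![(a : F), u; 0, (d : F)]) (a * d)
      (by simp [Matrix.det_fin_two_of]) hp
    refine ⟨⟨g, by rw [hg]; rfl⟩, Prod.ext (Subtype.ext (Prod.ext (Units.ext ?_) (Units.ext ?_))) ?_⟩
    · show hE.M g 0 0 = _
      rw [hg]; rfl
    · show hE.M g 1 1 = _
      rw [hg]; rfl
    · show hE.M g 0 1 = _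
      rw [hg]; rfl

theorem Emb.card_eq [Fintype F] : Nat.card G = Fintype.card F * (Fintype.card F ^ 2 - 1) * Nat.card D := by
  classical
  let δ : G →* D := (Matrix.GeneralLinearGroup.det.comp ι).codRestrict D hE.det_mem
  have hsurj : Function.Surjective δ := fun d => by
    obtain ⟨g, hg⟩ := hE.exists_eq (A := !![((d : Fˣ) : F), 0; 0, 1]) (d : Fˣ)
      (by simp [Matrix.det_fin_two_of]) d.2
    refine ⟨g, Subtype.ext (Units.ext ?_)⟩
    show (hE.M g).det = _
    rw [hg]; simp [Matrix.det_fin_two_of]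
  have h := δ.ker.index_mul_card
  rw [Subgroup.index_ker, MonoidHom.range_eq_top.2 hsurj, Subgroup.card_top] at h
  have hker : Nat.card δ.ker = Fintype.card F * (Fintype.card F ^ 2 - 1) := by
    rw [← CfsgLib.Classical.Two.card_SL_two (F := F)]
    refine (Nat.card_congr (Equiv.ofBijective
      (fun x : δ.ker => (⟨hE.M (x : G), congrArg (fun z : D => ((z : Fˣ) : F))
        (MonoidHom.mem_ker.1 x.2)⟩ : PLocal.SLTwo.S2 F)) ⟨fun x y h => ?_, fun s => ?_⟩))
    · exact Subtype.ext (hE.M_injective (congrArg Subtype.val h))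
    · obtain ⟨g, hg⟩ := hE.exists_eq (A := (s : Matrix (Fin 2) (Fin 2) F)) 1 s.2 (one_mem D)
      refine ⟨⟨g, MonoidHom.mem_ker.2 (Subtype.ext (Units.ext ?_))⟩, Subtype.ext hg⟩
      show (hE.M g).det = _
      rw [hg]; exact s.2
  rw [← h, hker, mul_comm]

/-- Elliptic elements with equal trace and determinant are conjugate in `G`. -/
theorem Emb.exists_conj [Fintype F] {x z : G} (hx : Elliptic (hE.M x)) (ht : (hE.M z).trace = (hE.M x).trace)
    (hd : (hE.M z).det = (hE.M x).det) : ∃ y : G, y⁻¹ * x * y = z := by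
  obtain ⟨u, hu⟩ := exists_conj_GL (g := ι x) (h := ι z) hx ht hd
  obtain ⟨c, hc, hcd⟩ := det_centralizer_surjective (g := ι x) hx (Matrix.GeneralLinearGroup.det u)⁻¹
  obtain ⟨w, hw⟩ := (hE.mem (u * c)).2 (by
    rw [map_mul, show Matrix.GeneralLinearGroup.det c = (Matrix.GeneralLinearGroup.det u)⁻¹ from
      Units.ext hcd, mul_inv_cancel]
    exact one_mem D)
  refine ⟨w⁻¹, hE.inj ?_⟩
  rw [inv_inv, map_mul, map_mul, map_inv, hw, _root_.mul_inv_rev, ← hu]
  have h1 : c * ι x = ι x * c := Subgroup.mem_centralizer_singleton_iff.1 hc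
  calc u * c * ι x * (c⁻¹ * u⁻¹) = u * (c * ι x * c⁻¹) * u⁻¹ := by group
    _ = u * ι x * u⁻¹ := by rw [h1, mul_inv_cancel_right]

end CfsgLib.SL2Char
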