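import Mathlib

/-!
# Elliptic elements of `GL₂` over a finite field

`A` is elliptic when it has no eigenvector.  Its centralizer consists of the `a • 1 + b • A` and is
embedded in the algebraic closure by an eigenvalue; hence it is cyclic of order `q² - 1`, and the
determinant on it is the `(q + 1)`-st power.
-/

namespace CfsgLib.SL2Char

open Matrix

variable {F : Type*} [Field F]

/-- No eigenvector in `F²`. -/
def Elliptic (A : Matrix (Fin 2) (Fin 2) F) : Prop :=
  ∀ (c : F) (v : Fin 2 → F), v ≠ 0 → A.mulVec v ≠ c • v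

variable {A : Matrix (Fin 2) (Fin 2) F}

theorem Elliptic.lower_ne_zero (hA : Elliptic A) : A 1 0 ≠ 0 := fun h =>
  hA (A 0 0) ![1, 0] (fun e => by simpa using congrFun e 0) (by
    ext i; fin_cases i <;> simp [Matrix.mulVec, dotProduct, Fin.sum_univ_two, h])

theorem Elliptic.upper_ne_zero (hA : Elliptic A) : A 0 1 ≠ 0 := fun h =>
  hA (A 1 1) ![0, 1] (fun e => by simpa using congrFun e 1) (by
    ext i; fin_cases i <;> simp [Matrix.mulVec, dotProduct, Fin.sum_univ_two, h])

/-- The characteristic polynomial of an elliptic matrix has no root. -/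
theorem Elliptic.charpoly_ne (hA : Elliptic A) (c : F) :
    c * c - A.trace * c + A.det ≠ 0 := fun h =>
  hA c ![A 0 1, c - A 0 0] (fun e => hA.upper_ne_zero (by simpa using congrFun e 0)) (by
    rw [Matrix.trace_fin_two, Matrix.det_fin_two] at h
    ext i; fin_cases i <;> simp [Matrix.mulVec, dotProduct, Fin.sum_univ_two]
    · ring
    · linear_combination -h)

theorem elliptic_iff : Elliptic A ↔ ∀ c : F, c * c - A.trace * c + A.det ≠ 0 := by
  refine ⟨Elliptic.charpoly_ne, fun h c v hv hAv => h c ?_⟩
  rw [Matrix.trace_fin_two, Matrix.det_fin_two]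
  have e0 := congrFun hAv 0
  have e1 := congrFun hAv 1
  simp [Matrix.mulVec, dotProduct, Fin.sum_univ_two] at e0 e1
  have f0 : (c * c - (A 0 0 + A 1 1) * c + (A 0 0 * A 1 1 - A 0 1 * A 1 0)) * v 0 = 0 := by
    linear_combination (A 1 1 - c) * e0 - A 0 1 * e1
  have f1 : (c * c - (A 0 0 + A 1 1) * c + (A 0 0 * A 1 1 - A 0 1 * A 1 0)) * v 1 = 0 := by
    linear_combination (A 0 0 - c) * e1 - A 1 0 * e0
  by_contra hne
  exact hv (funext fun i => by
    fin_cases i
    · exact (mul_eq_zero.1 f0).resolve_left hne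
    · exact (mul_eq_zero.1 f1).resolve_left hne)

theorem Elliptic.of_trace_det (hA : Elliptic A) {B : Matrix (Fin 2) (Fin 2) F}
    (ht : B.trace = A.trace) (hd : B.det = A.det) : Elliptic B :=
  elliptic_iff.2 fun c => by rw [ht, hd]; exact hA.charpoly_ne c

theorem det_affine (A : Matrix (Fin 2) (Fin 2) F) (a b : F) :
    (a • 1 + b • A).det = a * a + a * b * A.trace + b * b * A.det := by
  simp [Matrix.det_fin_two, Matrix.trace_fin_two]
  ring

theorem Elliptic.affine (hA : Elliptic A) {a b : F} (hb : b ≠ 0) : Elliptic (a • 1 + b • A) := by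
  intro c v hv h
  refine hA ((c - a) / b) v hv ?_
  funext i
  have e := congrFun h i
  fin_cases i <;>
    simp [Matrix.add_mulVec, Matrix.smul_mulVec, Matrix.mulVec, dotProduct, Fin.sum_univ_two] at e ⊢ <;>
    field_simp <;> linear_combination e

theorem Elliptic.det_affine_ne_zero (hA : Elliptic A) {a b : F} (h : ¬ (a = 0 ∧ b = 0)) :
    (a • 1 + b • A).det ≠ 0 := by
  by_cases hb : b = 0
  · subst hb
    simp only [zero_smul, add_zero, Matrix.det_smul, Matrix.det_one, mul_one, Fintype.card_fin]
    exact pow_ne_zero 2 fun ha => h ⟨ha, rfl⟩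
  · have hd := (hA.affine (a := a) hb).charpoly_ne 0
    simpa using hd

/-- The coordinates of a matrix commuting with an elliptic one. -/
theorem Elliptic.exists_affine (hA : Elliptic A) {X : Matrix (Fin 2) (Fin 2) F}
    (h : X * A = A * X) : ∃ a b : F, X = a • 1 + b • A := by
  have hb := hA.upper_ne_zero
  have h00 := congrFun (congrFun h 0) 0
  have h01 := congrFun (congrFun h 0) 1
  simp [Matrix.mul_apply, Fin.sum_univ_two] at h00 h01
  refine ⟨X 0 0 - X 0 1 / A 0 1 * A 0 0, X 0 1 / A 0 1, ?_⟩
  ext i j
  fin_cases i <;> fin_cases j <;> simp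
  · field_simp
  · field_simp; linear_combination -h00
  · field_simp; linear_combination -h01

theorem commute_affine (a b a' b' : F) (A : Matrix (Fin 2) (Fin 2) F) :
    Commute (a • 1 + b • A) (a' • 1 + b' • A) :=
  (((Commute.one_left _).smul_left a).add_left
    ((((Commute.one_right A).smul_right a').add_right ((Commute.refl A).smul_right b')).smul_left b))

/-- The scalar by which an affine combination of `A` acts on the eigenvector for the eigenvalue `l`. -/
def eigenValue {L : Type*} [Field L] (ι : F →+* L) (A : Matrix (Fin 2) (Fin 2) F) (l : L)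
    (X : Matrix (Fin 2) (Fin 2) F) : L :=
  ι (X 0 0) + ι (X 0 1) * (l - ι (A 0 0)) / ι (A 0 1)

theorem eigenValue_affine {L : Type*} [Field L] (ι : F →+* L) (hA : Elliptic A) (l : L) (a b : F) :
    eigenValue ι A l (a • 1 + b • A) = ι a + ι b * l := by
  have hb : ι (A 0 1) ≠ 0 := (map_ne_zero ι).2 hA.upper_ne_zero
  simp [eigenValue]
  field_simp
  ring

theorem eigenValue_mul {L : Type*} [Field L] (ι : F →+* L) (hA : Elliptic A) {l : L}
    (hl : l * l - ι A.trace * l + ι A.det = 0) (a b a' b' : F) :
    eigenValue ι A l ((a • 1 + b • A) * (a' • 1 + b' • A)) =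
      eigenValue ι A l (a • 1 + b • A) * eigenValue ι A l (a' • 1 + b' • A) := by
  have hCH : A * A = A.trace • A - A.det • 1 := by
    ext i j
    fin_cases i <;> fin_cases j <;>
      simp [Matrix.mul_apply, Fin.sum_univ_two, Matrix.trace_fin_two, Matrix.det_fin_two] <;> ring
  have e : (a • 1 + b • A) * (a' • 1 + b' • A) =
      (a * a' - b * b' * A.det) • 1 + (a * b' + b * a' + b * b' * A.trace) • A := by
    simp only [add_mul, mul_add, smul_mul_assoc, mul_smul_comm, smul_smul, one_mul, mul_one, hCH,
      smul_sub]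
    module
  rw [e, eigenValue_affine ι hA, eigenValue_affine ι hA, eigenValue_affine ι hA]
  simp only [map_add, map_sub, map_mul]
  linear_combination (-(ι b * ι b')) * hl

section Centralizer

variable {g : Matrix.GeneralLinearGroup (Fin 2) F}

theorem mem_centralizer_iff_affine (hg : Elliptic (g : Matrix (Fin 2) (Fin 2) F))
    (x : Matrix.GeneralLinearGroup (Fin 2) F) :
    x ∈ Subgroup.centralizer ({g} : Set (Matrix.GeneralLinearGroup (Fin 2) F)) ↔
      ∃ a b : F, (x : Matrix (Fin 2) (Fin 2) F) = a • 1 + b • (g : Matrix (Fin 2) (Fin 2) F) := by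
  rw [Subgroup.mem_centralizer_singleton_iff]
  constructor
  · intro h
    exact hg.exists_affine (congrArg Units.val h)
  · rintro ⟨a, b, h⟩
    refine Units.ext ?_
    have h2 := (commute_affine a b 0 1 (g : Matrix (Fin 2) (Fin 2) F)).eq
    rw [zero_smul, zero_add, one_smul, ← h] at h2
    exact h2

/-- Coordinates on the centralizer of an elliptic element. -/
noncomputable def centralizerEquiv (hg : Elliptic (g : Matrix (Fin 2) (Fin 2) F)) :
    {v : F × F // v ≠ 0} ≃
      Subgroup.centralizer ({g} : Set (Matrix.GeneralLinearGroup (Fin 2) F)) :=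
  Equiv.ofBijective (fun v => ⟨Matrix.GeneralLinearGroup.mkOfDetNeZero
      (v.1.1 • 1 + v.1.2 • (g : Matrix (Fin 2) (Fin 2) F))
      (hg.det_affine_ne_zero fun h => v.2 (Prod.ext h.1 h.2)),
      (mem_centralizer_iff_affine hg _).2 ⟨_, _, rfl⟩⟩) ⟨fun v w h => by
    have e := congrArg (fun x : Subgroup.centralizer ({g} : Set (Matrix.GeneralLinearGroup (Fin 2) F)) =>
      ((x : Matrix.GeneralLinearGroup (Fin 2) F) : Matrix (Fin 2) (Fin 2) F)) h
    change v.1.1 • 1 + v.1.2 • (g : Matrix (Fin 2) (Fin 2) F) =
      w.1.1 • 1 + w.1.2 • (g : Matrix (Fin 2) (Fin 2) F) at e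
    have e01 := congrFun (congrFun e 0) 1
    have e00 := congrFun (congrFun e 0) 0
    simp [hg.upper_ne_zero] at e01 e00
    refine Subtype.ext (Prod.ext ?_ e01)
    rw [e01] at e00
    exact add_right_cancel e00, fun x => by
    obtain ⟨a, b, hab⟩ := (mem_centralizer_iff_affine hg _).1 x.2
    refine ⟨⟨(a, b), fun h => ?_⟩, Subtype.ext (Units.ext hab.symm)⟩
    have hd := ((Matrix.isUnit_iff_isUnit_det _).1
      (x : Matrix.GeneralLinearGroup (Fin 2) F).isUnit).ne_zero
    rw [hab, Prod.mk_eq_zero.1 h |>.1, Prod.mk_eq_zero.1 h |>.2] at hd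
    simp at hd⟩

theorem card_centralizer [Fintype F] (hg : Elliptic (g : Matrix (Fin 2) (Fin 2) F)) :
    Nat.card (Subgroup.centralizer ({g} : Set (Matrix.GeneralLinearGroup (Fin 2) F))) =
      Fintype.card F ^ 2 - 1 := by
  classical
  rw [← Nat.card_congr (centralizerEquiv hg), Nat.card_eq_fintype_card, Fintype.card_subtype_compl,
    Fintype.card_subtype_eq, Fintype.card_prod, sq]

variable [Fintype F] (hg : Elliptic (g : Matrix (Fin 2) (Fin 2) F))
include hg

/-- The centralizer of an elliptic element embeds into the algebraic closure, the determinant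
becoming the `(q + 1)`-st power. -/
theorem exists_embedding :
    ∃ μ : Subgroup.centralizer ({g} : Set (Matrix.GeneralLinearGroup (Fin 2) F)) →* AlgebraicClosure F,
      Function.Injective μ ∧ ∀ x : Subgroup.centralizer ({g} : Set (Matrix.GeneralLinearGroup (Fin 2) F)),
        algebraMap F (AlgebraicClosure F)
          ((x : Matrix.GeneralLinearGroup (Fin 2) F) : Matrix (Fin 2) (Fin 2) F).det =
            μ x ^ (Fintype.card F + 1) ∧
        algebraMap F (AlgebraicClosure F)
          ((x : Matrix.GeneralLinearGroup (Fin 2) F) : Matrix (Fin 2) (Fin 2) F).trace =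
            μ x + μ x ^ Fintype.card F := by
  classical
  set A := (g : Matrix (Fin 2) (Fin 2) F) with hA
  set ι := algebraMap F (AlgebraicClosure F)
  obtain ⟨l, hl⟩ : ∃ l : AlgebraicClosure F, l * l - ι A.trace * l + ι A.det = 0 := by
    obtain ⟨l, hl⟩ := IsAlgClosed.exists_root (Polynomial.C 1 * Polynomial.X ^ 2 +
      Polynomial.C (-ι A.trace) * Polynomial.X + Polynomial.C (ι A.det))
      (by rw [Polynomial.degree_quadratic one_ne_zero]; decide)
    exact ⟨l, by simpa [Polynomial.IsRoot, sq, sub_eq_add_neg] using hl⟩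
  have hlF : ∀ c : F, ι c ≠ l := fun c hc => hg.charpoly_ne c (ι.injective (by
    simp only [map_add, map_sub, map_mul, map_zero, hc]
    exact hl))
  have hFr : ∀ x : AlgebraicClosure F,
      FiniteField.frobeniusAlgHom F (AlgebraicClosure F) x = x ^ Fintype.card F := fun x => rfl
  have hlq : l ^ Fintype.card F + l = ι A.trace := by
    have h1 := congrArg (FiniteField.frobeniusAlgHom F (AlgebraicClosure F)) hl
    simp only [map_add, map_sub, map_mul, map_zero, AlgHom.commutes, ι] at h1
    rw [hFr] at h1
    have h2 : (l ^ Fintype.card F - l) * (l ^ Fintype.card F + l - ι A.trace) = 0 := by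
      linear_combination h1 - hl
    refine sub_eq_zero.1 ((mul_eq_zero.1 h2).resolve_left fun h3 => ?_)
    have h4 : Polynomial.aeval l (Polynomial.X ^ Fintype.card F - Polynomial.X : Polynomial F) = 0 := by
      simpa using h3
    have hsplit : (Polynomial.X ^ Fintype.card F - Polynomial.X : Polynomial F) =
        ∏ a : F, (Polynomial.X - Polynomial.C a) := by
      have hq : 1 < Fintype.card F := Fintype.one_lt_card
      rw [← Polynomial.prod_multiset_X_sub_C_of_monic_of_roots_card_eq
        (p := (Polynomial.X ^ Fintype.card F - Polynomial.X : Polynomial F))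
        (Polynomial.monic_X_pow_sub (by rw [Polynomial.degree_X]; exact_mod_cast hq))
        (by rw [FiniteField.roots_X_pow_card_sub_X,
              FiniteField.X_pow_card_sub_X_natDegree_eq F hq]; rfl),
        FiniteField.roots_X_pow_card_sub_X]
      rfl
    rw [hsplit, map_prod, Finset.prod_eq_zero_iff] at h4
    obtain ⟨a, -, ha⟩ := h4
    exact hlF a (sub_eq_zero.1 (by simpa using ha)).symm
  have haff : ∀ x : Subgroup.centralizer ({g} : Set (Matrix.GeneralLinearGroup (Fin 2) F)),
      ∃ a b : F, ((x : Matrix.GeneralLinearGroup (Fin 2) F) : Matrix (Fin 2) (Fin 2) F) = a • 1 + b • A :=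
    fun x => (mem_centralizer_iff_affine hg _).1 x.2
  let μ : Subgroup.centralizer ({g} : Set (Matrix.GeneralLinearGroup (Fin 2) F)) →* AlgebraicClosure F :=
    { toFun := fun x => eigenValue ι A l ((x : Matrix.GeneralLinearGroup (Fin 2) F) : Matrix (Fin 2) (Fin 2) F)
      map_one' := by
        simp [eigenValue]
      map_mul' := fun x y => by
        obtain ⟨a, b, hx⟩ := haff x
        obtain ⟨a', b', hy⟩ := haff y
        simp only [Subgroup.coe_mul, Units.val_mul, hx, hy]
        exact eigenValue_mul ι hg hl a b a' b' }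
  refine ⟨μ, (injective_iff_map_eq_one μ).2 fun x hx => ?_, fun x => ?_⟩
  · obtain ⟨a, b, hab⟩ := haff x
    change eigenValue ι A l _ = 1 at hx
    rw [hab, eigenValue_affine ι hg] at hx
    have hb : b = 0 := by
      by_contra hb
      refine hlF ((1 - a) / b) ?_
      rw [map_div₀, map_sub, map_one, div_eq_iff ((map_ne_zero ι).2 hb)]
      linear_combination -hx
    subst hb
    rw [map_zero, zero_mul, add_zero, ← map_one ι] at hx
    refine Subtype.ext (Units.ext ?_)
    rw [hab, ι.injective hx]
    simp
  · obtain ⟨a, b, hab⟩ := haff x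
    change _ = eigenValue ι A l _ ^ _ ∧ _ = eigenValue ι A l _ + eigenValue ι A l _ ^ _
    rw [hab, eigenValue_affine ι hg]
    have hp : (ι a + ι b * l) ^ Fintype.card F = ι a + ι b * (ι A.trace - l) := by
      rw [← hFr]
      simp only [map_add, map_mul, AlgHom.commutes, ι]
      rw [hFr, eq_sub_of_add_eq hlq]
    rw [pow_succ, hp, det_affine]
    refine ⟨?_, ?_⟩
    · simp only [map_add, map_mul]
      linear_combination (ι b * ι b) * hl
    · simp [Matrix.trace_fin_two, A, map_ofNat]
      ring

theorem isCyclic_centralizer :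
    IsCyclic (Subgroup.centralizer ({g} : Set (Matrix.GeneralLinearGroup (Fin 2) F))) := by
  obtain ⟨μ, hμ, -⟩ := exists_embedding hg
  have : Finite (Matrix.GeneralLinearGroup (Fin 2) F) := inferInstance
  exact isCyclic_of_subgroup_isDomain μ hμ

end Centralizer

end CfsgLib.SL2Char
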