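import Cfsg.Agent.Lib.Known.SL2Char.TableSL
import Cfsg.Agent.Lib.Char.DegreeCenter
import Cfsg.Agent.Lib.Char.Exceptional.Virtual

/-!
# The half principal and half cuspidal characters of `SL₂`

For odd `q` the two series contain one member of norm two each; their constituents complete the
character table.
-/

namespace CfsgLib.SL2Char

open Matrix CfsgLib.Char CfsgLib.PLocal.SLTwo
open scoped ComplexConjugate

/-- A quadratic character of a cyclic group at the involution. -/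
theorem quad_hom_involution {C : Type*} [Group C] [Finite C] [IsCyclic C] {f : C →* ℂˣ}
    (h2 : ∀ c, f c * f c = 1) (h1 : f ≠ 1) {z : C} (hz : orderOf z = 2) :
    (f z : ℂ) = (-1) ^ (Nat.card C / 2) := by
  classical
  obtain ⟨g, hg⟩ := IsCyclic.exists_generator (α := C)
  have hgn : orderOf g = Nat.card C := orderOf_eq_card_of_forall_mem_zpowers hg
  have hfg : (f g : ℂ) = -1 := by
    refine (mul_self_eq_one_iff.1 (show (f g : ℂ) * f g = 1 by
      rw [← Units.val_mul, h2, Units.val_one])).resolve_left fun e => h1 ?_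
    ext c
    obtain ⟨k, rfl⟩ := Subgroup.mem_zpowers_iff.1 (hg c)
    rw [map_zpow, show f g = 1 from Units.ext (by simpa using e), _root_.one_zpow]
    rfl
  obtain ⟨i, hi⟩ := (isOfFinOrder_of_finite g).mem_powers_iff_mem_zpowers.2 (hg z)
  change g ^ i = z at hi
  have hi' : g ^ (i % Nat.card C) = z := by rw [← hgn, pow_mod_orderOf, hi]
  have hlt : i % Nat.card C < Nat.card C := Nat.mod_lt _ Nat.card_pos
  have h0 : i % Nat.card C ≠ 0 := fun e => by
    rw [e, pow_zero] at hi'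
    rw [← hi', orderOf_one] at hz
    norm_num at hz
  have hsq : g ^ (2 * (i % Nat.card C)) = 1 := by
    rw [mul_comm, pow_mul, hi', ← hz, pow_orderOf_eq_one]
  obtain ⟨k, hk⟩ := orderOf_dvd_of_pow_eq_one hsq
  rw [hgn] at hk
  have hk1 : k = 1 := by
    rcases Nat.lt_or_ge k 2 with h | h
    · interval_cases k <;> omega
    · have : Nat.card C * 2 ≤ Nat.card C * k := Nat.mul_le_mul_left _ h
      omega
  rw [hk1, mul_one] at hk
  rw [← hi', map_pow, Units.val_pow_eq_pow_val, hfg]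
  congr 1
  omega

/-- A generalized character of norm two. -/
theorem split_norm_two {G : Type*} [Group G] [Fintype G] {θ : G → ℂ}
    (h : Cfsg.IsGeneralizedCharacter G θ) (h2 : Cfsg.classInner θ θ = 2) :
    ∃ (a b : G → ℂ) (s t : ℂ), Cfsg.IsIrrCharacter G a ∧ Cfsg.IsIrrCharacter G b ∧ a ≠ b ∧
      (s = 1 ∨ s = -1) ∧ (t = 1 ∨ t = -1) ∧ θ = s • a + t • b := by
  obtain ⟨χ, n, hχ, hn, -, hr, ho⟩ := Exceptional.IsGen.exists_split h (k := 2) (by simpa using h2) two_ne_zero
  set ρ := θ - (n : ℂ) • χ with hρ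
  have hg : Cfsg.IsGeneralizedCharacter G ρ :=
    Exceptional.IsGen.sub h (Exceptional.IsGen.intCast_smul n (Exceptional.IsGen.of_irr hχ))
  obtain ⟨r, hr'⟩ := Exceptional.IsGen.classInner_self_eq hg
  rw [hr] at hr'
  have e : (2 : ℤ) - n * n = r := by exact_mod_cast hr'
  have hn1 : n * n = 1 := by
    have h1 : 0 < n * n := mul_self_pos.2 hn
    rcases eq_or_ne n.natAbs 1 with h | h
    · rw [← Int.natAbs_mul_self, h]; norm_num
    · exfalso
      have : 4 ≤ n.natAbs * n.natAbs := by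
        have : 2 ≤ n.natAbs := by omega
        exact Nat.mul_le_mul this this
      rw [← Int.natAbs_mul_self] at e
      omega
  obtain ⟨b, t, ht, hb, hbe⟩ :=
    Exceptional.IsGen.norm_one hg (by rw [hr, ← Int.cast_mul, hn1]; norm_num)
  refine ⟨χ, b, n, t, hχ, hb, ?_, ?_, ht, by rw [← hbe, hρ]; abel⟩
  · rintro rfl
    rw [hbe, classInner_smul_left, Exceptional.classInner_self_of_irr hb, mul_one] at ho
    rcases ht with h | h <;> norm_num [h] at ho
  · rcases mul_self_eq_one_iff.1 hn1 with rfl | rfl <;> simp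

variable {F : Type*} [Field F] [Fintype F] [DecidableEq F] [Fintype (S2 F)]

omit [DecidableEq F] in
/-- The central sign of a constituent. -/
theorem central_sign {X a : S2 F → ℂ} {c : ℂ} (hc : c = 1 ∨ c = -1) (hX : ∀ g, X (-g) = c * X g)
    (ha : Cfsg.IsIrrCharacter (S2 F) a) (hne : Cfsg.classInner X a ≠ 0) : ∀ g, a (-g) = c * a g := by
  obtain ⟨n, ρ, hρ, rfl⟩ := ha
  obtain ⟨w, hw⟩ := CfsgLib.CharIntegral.exists_scalar_of_mem_center ρ (z := (-1 : S2 F))
    (Subgroup.mem_center_iff.2 fun y => commute_neg_one y)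
  have hneg : ∀ g, ρ.character (-g) = w * ρ.character g := fun g => by
    rw [← CfsgLib.CharIntegral.character_smul_of_scalar ρ hw, neg_one_mul_eq]
  have h : Cfsg.classInner X ρ.character = c * conj w * Cfsg.classInner X ρ.character := by
    unfold Cfsg.classInner
    rw [Finset.mul_sum, Finset.mul_sum,
      ← Equiv.sum_comp (Equiv.neg (S2 F))]
    refine Finset.sum_congr rfl fun g _ => ?_
    simp only [Equiv.neg_apply, hX, hneg, map_mul]
    ring
  have h1 : c * conj w = 1 := mul_right_cancel₀ hne (h.symm.trans (one_mul _).symm)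
  have hw' : w = c := by
    rcases hc with rfl | rfl
    · simpa using congrArg conj h1
    · simp only [neg_mul, one_mul, neg_eq_iff_eq_neg] at h1
      simpa using congrArg conj h1
  intro g
  rw [hneg, hw']

omit [DecidableEq F] [Fintype (S2 F)] in
theorem sum_re_sq_le {S : Finset (S2 F → ℂ)} (hS : ∀ f ∈ S, Cfsg.IsIrrCharacter (S2 F) f) :
    ∑ f ∈ S, (f 1).re ^ 2 ≤ (Nat.card (S2 F) : ℝ) := by
  classical
  have := Fintype.ofFinite (Cfsg.IrrCharacter (S2 F))
  let A : Finset (S2 F → ℂ) := Finset.univ.image fun ψ : Cfsg.IrrCharacter (S2 F) => (ψ : S2 F → ℂ)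
  have hsub : S ⊆ A := fun f hf => Finset.mem_image.2 ⟨⟨f, hS f hf⟩, Finset.mem_univ _, rfl⟩
  refine le_trans (Finset.sum_le_sum_of_subset_of_nonneg hsub fun f _ _ => sq_nonneg _) (le_of_eq ?_)
  have h := congrArg Complex.re (sum_sq_degree (G := S2 F))
  rw [Complex.re_sum, Complex.natCast_re] at h
  rw [Finset.sum_image Subtype.val_injective.injOn, ← h]
  refine Finset.sum_congr rfl fun ψ _ => ?_
  obtain ⟨n, -, e⟩ := IsIrr.exists_degree ψ.2
  simp [e, pow_two]

section Cusp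

variable {g₀ : G2 F} (hg₀ : Elliptic (g₀ : Matrix (Fin 2) (Fin 2) F)) {ψ : AddChar F ℂ} (hψ : ψ ≠ 1)
  [Fintype (Orbits (⊥ : Subgroup Fˣ))]

include hg₀

omit [Fintype (S2 F)] [Fintype (Orbits (⊥ : Subgroup Fˣ))] [DecidableEq F] in
theorem quad_theta {θ : torus (Matrix.SpecialLinearGroup.toGL : S2 F →* G2 F) g₀ →* ℂˣ}
    (hθ : θ = θ ^ Fintype.card F) (c : torus (Matrix.SpecialLinearGroup.toGL : S2 F →* G2 F) g₀) :
    θ c * θ c = 1 := by
  have h1 : θ c ^ (Fintype.card F + 1) = 1 := by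
    rw [← card_torusSL hg₀, ← map_pow, pow_card_eq_one', map_one]
  have h2 : θ c = θ c ^ Fintype.card F := DFunLike.congr_fun hθ c
  rw [pow_succ, ← h2] at h1
  exact h1

omit [Fintype (S2 F)] [Fintype (Orbits (⊥ : Subgroup Fˣ))] [DecidableEq F] in
theorem exists_theta0 (hodd : Odd (Fintype.card F)) :
    ∃ θ : torus (Matrix.SpecialLinearGroup.toGL : S2 F →* G2 F) g₀ →* ℂˣ,
      θ ≠ 1 ∧ θ = θ ^ Fintype.card F := by
  have := isCyclic_torusSL hg₀
  have h := card_hom_pow_eq (torus (Matrix.SpecialLinearGroup.toGL : S2 F →* G2 F) g₀)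
    (Fintype.card_pos (α := F))
  rw [card_torusSL hg₀, gcd_succ_pred, eps_odd hodd] at h
  have : Finite {θ : torus (Matrix.SpecialLinearGroup.toGL : S2 F →* G2 F) g₀ →* ℂˣ //
      θ = θ ^ Fintype.card F} := Nat.finite_of_card_ne_zero (by omega)
  by_contra hcon
  push Not at hcon
  have : Subsingleton {θ : torus (Matrix.SpecialLinearGroup.toGL : S2 F →* G2 F) g₀ →* ℂˣ //
      θ = θ ^ Fintype.card F} := ⟨fun x y => by
    have hx : x.1 = 1 := by_contra fun e => hcon x.1 e x.2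
    have hy : y.1 = 1 := by_contra fun e => hcon y.1 e y.2
    exact Subtype.ext (hx.trans hy.symm)⟩
  have := Finite.card_le_one_iff_subsingleton.2 this
  omega

omit [Fintype (Orbits (⊥ : Subgroup Fˣ))] in
/-- The central signs of the two exceptional members are opposite. -/
theorem sign_opposite (hodd : Odd (Fintype.card F)) {α : MulChar F ℂ} (hα2 : α ^ 2 = 1) (hα1 : α ≠ 1)
    {θ : torus (Matrix.SpecialLinearGroup.toGL : S2 F →* G2 F) g₀ →* ℂˣ} (hθ1 : θ ≠ 1)
    (hθ : θ = θ ^ Fintype.card F) :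
    (α (-1) = 1 ∨ α (-1) = -1) ∧
      ∀ a : zs (⊥ : Subgroup Fˣ), (a : Fˣ) = -1 →
        (θ (emb_SL.scalarC g₀ a) : ℂ) = -α (-1) := by
  have h2 : (2 : F) ≠ 0 := Ring.two_ne_zero fun h => by
    have := FiniteField.even_card_iff_char_two.1 h
    rw [Nat.odd_iff] at hodd
    omega
  have hneg : (-1 : F) ≠ 1 := fun e => h2 (by linear_combination -e)
  have := isCyclic_torusSL hg₀
  have hα : (α (-1) : ℂ) = (-1) ^ ((Fintype.card F - 1) / 2) := by
    have hz : orderOf (-1 : Fˣ) = 2 :=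
      orderOf_eq_prime (by simp) fun e => hneg (congrArg Units.val e)
    have h := quad_hom_involution (f := α.toUnitHom) (fun c => Units.ext (by
        rw [Units.val_mul, MulChar.coe_toUnitHom, ← MulChar.mul_apply, ← pow_two, hα2,
          MulChar.one_apply_coe, Units.val_one]))
      (fun e => hα1 (MulChar.ext fun a => by
        rw [MulChar.one_apply_coe, ← MulChar.coe_toUnitHom, e]; rfl)) hz
    rw [Nat.card_units, Nat.card_eq_fintype_card] at h
    simpa using h
  refine ⟨by rw [hα]; exact neg_one_pow_eq_or ℂ _, fun a ha => ?_⟩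
  have hz : orderOf (emb_SL.scalarC g₀ a) = 2 := by
    refine orderOf_eq_prime ?_ fun e => hneg ?_
    · rw [← map_pow, show a ^ 2 = 1 from Subtype.ext (by simp [ha]), map_one]
    · have e' := congrArg (fun x : torus (Matrix.SpecialLinearGroup.toGL : S2 F →* G2 F) g₀ =>
        emb_SL.M (x : S2 F) 0 0) e
      simp only [emb_SL.scalarC_spec, Subgroup.coe_one, map_one] at e'
      simpa [ha] using e'
  have h := quad_hom_involution (fun c => quad_theta hg₀ hθ c) hθ1 hz
  rw [card_torusSL hg₀] at h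
  rw [h, hα]
  obtain ⟨m, hm⟩ := hodd
  rw [hm, Nat.add_sub_cancel, show 2 * m + 1 + 1 = 2 * (m + 1) by ring,
    Nat.mul_div_cancel_left _ two_pos, Nat.mul_div_cancel_left _ two_pos, pow_succ]
  ring

include hψ

open scoped _root_.Classical in
/-- The four half characters and the completeness of the table. -/
theorem halvesSL (hodd : Odd (Fintype.card F)) {α : MulChar F ℂ} (hα2 : α ^ 2 = 1) (hα1 : α ≠ 1)
    {θ : torus (Matrix.SpecialLinearGroup.toGL : S2 F →* G2 F) g₀ →* ℂˣ} (hθ1 : θ ≠ 1)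
    (hθ : θ = θ ^ Fintype.card F) :
    ∃ a b c d : S2 F → ℂ, a ≠ b ∧ c ≠ d ∧ prSL α = a + b ∧ cuspSL ψ θ = c + d ∧
      (∀ f ∈ ({a, b, c, d} : Finset _), Cfsg.IsIrrCharacter (S2 F) f) ∧
      a 1 = (((Fintype.card F + 1) / 2 : ℕ) : ℂ) ∧ b 1 = (((Fintype.card F + 1) / 2 : ℕ) : ℂ) ∧
      c 1 = (((Fintype.card F - 1) / 2 : ℕ) : ℂ) ∧ d 1 = (((Fintype.card F - 1) / 2 : ℕ) : ℂ) ∧
      (∀ g, a (-g) = α (-1) * a g) ∧ (∀ g, b (-g) = α (-1) * b g) ∧
      (∀ g, c (-g) = -α (-1) * c g) ∧ (∀ g, d (-g) = -α (-1) * d g) ∧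
      ({a, b, c, d} : Finset _).card = 4 ∧
      (∀ P C : Finset (S2 F → ℂ), (∀ f, f ∈ P ↔ ∃ α : MulChar F ℂ, α ≠ α⁻¹ ∧ f = prSL α) →
        (∀ f, f ∈ C ↔ ∃ θ, θ ≠ θ ^ Fintype.card F ∧ f = cuspSL (g₀ := g₀) ψ θ) →
        Disjoint ({(1 : S2 F → ℂ), stSL} ∪ P ∪ C) {a, b, c, d} ∧
        ∀ f, Cfsg.IsIrrCharacter (S2 F) f ↔
          f ∈ {(1 : S2 F → ℂ), stSL} ∪ P ∪ C ∪ {a, b, c, d}) := by
  have := Fintype.ofFinite (diags (⊥ : Subgroup Fˣ))
  have hq : 1 < Fintype.card F := Fintype.one_lt_card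
  have hαinv : α = α⁻¹ := eq_inv_of_mul_eq_one_left (by rw [← pow_two, hα2])
  obtain ⟨hsgn, hopp⟩ := sign_opposite hg₀ hodd hα2 hα1 hθ1 hθ
  -- the principal pair
  have hA2 : Cfsg.classInner (prSL α) (prSL α) = 2 := by
    rw [prSL_inner, if_pos rfl, if_pos hαinv]; norm_num
  obtain ⟨a, b, s₁, t₁, ha, hb, hab, hs₁, ht₁, hA⟩ :=
    split_norm_two (IsGen.of_isCharacter (isCharacter_prSL α)) hA2
  have irr1 := fun (x : S2 F → ℂ) (hx : Cfsg.IsIrrCharacter (S2 F) x) =>
    Exceptional.classInner_self_of_irr hx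
  have hA_a : Cfsg.classInner (prSL α) a = s₁ := by
    rw [hA, classInner_add_left, classInner_smul_left, classInner_smul_left, irr1 a ha,
      Exceptional.classInner_eq_zero_of_irr hb ha hab.symm]; ring
  have hA_b : Cfsg.classInner (prSL α) b = t₁ := by
    rw [hA, classInner_add_left, classInner_smul_left, classInner_smul_left, irr1 b hb,
      Exceptional.classInner_eq_zero_of_irr ha hb hab]; ring
  have hs1 : s₁ = 1 := by
    obtain ⟨n, hn⟩ := IsChar.classInner_eq_natCast (isCharacter_prSL α) (IsIrr.isCharacter ha)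
    rw [hA_a] at hn
    refine hs₁.resolve_right fun e => ?_
    rw [e] at hn
    have := congrArg Complex.re hn
    simp at this
    linarith [n.cast_nonneg (α := ℝ)]
  have ht1 : t₁ = 1 := by
    obtain ⟨n, hn⟩ := IsChar.classInner_eq_natCast (isCharacter_prSL α) (IsIrr.isCharacter hb)
    rw [hA_b] at hn
    refine ht₁.resolve_right fun e => ?_
    rw [e] at hn
    have := congrArg Complex.re hn
    simp at this
    linarith [n.cast_nonneg (α := ℝ)]
  subst hs1 ht1
  rw [one_smul, one_smul] at hA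
  -- the cuspidal pair
  have hB2 : Cfsg.classInner (cuspSL ψ θ) (cuspSL ψ θ) = 2 := by
    rw [emb_SL.classInner_cusp hg₀ hψ, if_pos rfl, if_pos hθ]; norm_num
  obtain ⟨c, d, s₂, t₂, hc, hd, hcd, hs₂, ht₂, hB⟩ := split_norm_two (emb_SL.isGen_cusp ψ θ) hB2
  change cuspSL ψ θ = _ at hB
  have hB_c : Cfsg.classInner (cuspSL ψ θ) c = s₂ := by
    rw [hB, classInner_add_left, classInner_smul_left, classInner_smul_left, irr1 c hc,
      Exceptional.classInner_eq_zero_of_irr hd hc hcd.symm]; ring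
  have hB_d : Cfsg.classInner (cuspSL ψ θ) d = t₂ := by
    rw [hB, classInner_add_left, classInner_smul_left, classInner_smul_left, irr1 d hd,
      Exceptional.classInner_eq_zero_of_irr hc hd hcd]; ring
  have hs0 : ∀ {s : ℂ}, s = 1 ∨ s = -1 → s ≠ 0 := fun hs => by rcases hs with rfl | rfl <;> norm_num
  have hAne : ∀ f, f = a ∨ f = b → Cfsg.classInner (prSL α) f ≠ 0 := by
    rintro f (rfl | rfl)
    · rw [hA_a]; exact one_ne_zero
    · rw [hA_b]; exact one_ne_zero
  have hBne : ∀ f, f = c ∨ f = d → Cfsg.classInner (cuspSL ψ θ) f ≠ 0 := by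
    rintro f (rfl | rfl)
    · rw [hB_c]; exact hs0 hs₂
    · rw [hB_d]; exact hs0 ht₂
  have hirr : ∀ f, f = a ∨ f = b ∨ f = c ∨ f = d → Cfsg.IsIrrCharacter (S2 F) f := by
    rintro f (rfl | rfl | rfl | rfl) <;> assumption
  have hPneg : ∀ f, f = a ∨ f = b → ∀ g, f (-g) = α (-1) * f g := fun f hf =>
    central_sign hsgn (prSL_neg α) (hirr f (hf.imp_right Or.inl)) (hAne f hf)
  have hB_neg : ∀ g, cuspSL ψ θ (-g) = -α (-1) * cuspSL ψ θ g := fun g => by
    have hm1 : (-1 : Fˣ) ∈ zs (⊥ : Subgroup Fˣ) := mem_zs_bot.2 (Or.inr rfl)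
    rw [← hopp ⟨-1, hm1⟩ rfl, ← neg_one_mul_eq]
    have e : (emb_SL.scalarC g₀ ⟨-1, hm1⟩ : S2 F) = -1 := emb_SL.M_injective (by
      rw [emb_SL.scalarC_spec]
      ext i j; fin_cases i <;> fin_cases j <;> simp)
    rw [← e]
    exact emb_SL.cusp_mul_scalar hg₀ θ _ g
  have hCneg : ∀ f, f = c ∨ f = d → ∀ g, f (-g) = -α (-1) * f g := fun f hf =>
    central_sign (hsgn.symm.imp (fun e => by rw [e]; norm_num) (fun e => by rw [e])) hB_neg
      (hirr f (Or.inr (Or.inr hf))) (hBne f hf)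
  have hcross : ∀ f f', f = a ∨ f = b → f' = c ∨ f' = d → f ≠ f' := by
    intro f f' hf hf' e
    subst e
    have h1 := hPneg f hf 1
    rw [hCneg f hf' 1] at h1
    have hne := IsIrr.apply_one_ne_zero (hirr f (hf.imp_right Or.inl))
    have : -α (-1) = α (-1) := mul_right_cancel₀ hne h1
    exact hs0 hsgn (by linear_combination -(1 / 2 : ℂ) * this)
  have hH : ({a, b, c, d} : Finset (S2 F → ℂ)).card = 4 := by
    rw [Finset.card_insert_of_notMem, Finset.card_insert_of_notMem, Finset.card_pair hcd]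
    · simp only [Finset.mem_insert, Finset.mem_singleton, not_or]
      exact ⟨hcross b c (Or.inr rfl) (Or.inl rfl), hcross b d (Or.inr rfl) (Or.inr rfl)⟩
    · simp only [Finset.mem_insert, Finset.mem_singleton, not_or]
      exact ⟨hab, hcross a c (Or.inl rfl) (Or.inl rfl), hcross a d (Or.inl rfl) (Or.inr rfl)⟩
  -- orthogonality to the regular part
  obtain ⟨P₀, C₀, iP, iC, vP, vC, cP, cC, d1, d2, d3⟩ := mainSL hg₀ hψ
  have horth : ∀ f ∈ {(1 : S2 F → ℂ), stSL} ∪ P₀ ∪ C₀,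
      Cfsg.classInner (prSL α) f = 0 ∧ Cfsg.classInner (cuspSL ψ θ) f = 0 := by
    intro f hf
    have hA1 : Cfsg.classInner (prSL α) (1 : S2 F → ℂ) = 0 := by
      rw [classInner_prSL_one, if_neg hα1]
    have hAT : Cfsg.classInner (prSL α) (prSL 1) = 0 := by
      rw [prSL_inner, inv_one, if_neg hα1, add_zero]
    have hBP : ∀ β, Cfsg.classInner (cuspSL ψ θ) (prSL β) = 0 := fun β => by
      have := Fintype.ofFinite ((Cfsg.upperTriangularGL 2 F).comap
        (Matrix.SpecialLinearGroup.toGL : S2 F →* G2 F))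
      rw [← classInner_conj_symm]
      exact (map_eq_zero _).2 (emb_SL.classInner_upper_cusp hg₀ hψ θ mem_upperSL fun x _ => β x)
    have hB1 : Cfsg.classInner (cuspSL ψ θ) (1 : S2 F → ℂ) = 0 := by
      have := Fintype.ofFinite (torus (Matrix.SpecialLinearGroup.toGL : S2 F →* G2 F) g₀)
      rw [cuspSL, emb_SL.classInner_cusp_of_const hg₀ hψ θ
        (IsIrr.isClassFunction isIrrCharacter_one : Cfsg.IsClassFunction (S2 F) (1 : S2 F → ℂ))
        (fun g => rfl), neg_eq_zero]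
      have e := sum_hom_mul_conj θ 1
      rw [if_neg hθ1] at e
      simp only [MonoidHom.one_apply, Units.val_one] at e
      simp only [Cfsg.classInner, Pi.one_apply, e, mul_zero]
    simp only [Finset.mem_union, Finset.mem_insert, Finset.mem_singleton] at hf
    rcases hf with ((rfl | rfl) | h) | h
    · exact ⟨hA1, hB1⟩
    · constructor
      · rw [stSL, classInner_sub_right, hAT, hA1, sub_zero]
      · rw [stSL, classInner_sub_right, hBP, hB1, sub_zero]
    · obtain ⟨β, hβ, rfl⟩ := (iP f).1 h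
      refine ⟨?_, hBP β⟩
      have n1 : α ≠ β := fun e => hβ (e ▸ hαinv)
      have n2 : α ≠ β⁻¹ := fun e => n1 (by rw [← inv_inv β, ← e, ← hαinv])
      rw [prSL_inner, if_neg n1, if_neg n2, add_zero]
    · obtain ⟨θ', hθ', rfl⟩ := (iC f).1 h
      constructor
      · have := Fintype.ofFinite ((Cfsg.upperTriangularGL 2 F).comap
          (Matrix.SpecialLinearGroup.toGL : S2 F →* G2 F))
        exact emb_SL.classInner_upper_cusp hg₀ hψ θ' mem_upperSL fun x _ => α x
      · have n1 : θ ≠ θ' := fun e => hθ' (e ▸ hθ)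
        have n2 : θ ≠ θ' ^ Fintype.card F := fun e => hθ' (by
          have e2 := emb_SL.hom_pow_pow hg₀ θ'
          rw [← e, ← hθ] at e2
          rw [← e, e2])
        rw [emb_SL.classInner_cusp hg₀ hψ, if_neg n1, if_neg n2, add_zero]
  have hdisj : Disjoint ({(1 : S2 F → ℂ), stSL} ∪ P₀ ∪ C₀) {a, b, c, d} := by
    refine Finset.disjoint_left.2 fun f hf hf' => ?_
    simp only [Finset.mem_insert, Finset.mem_singleton] at hf'
    rcases hf' with e | e | e | e
    · exact hAne f (Or.inl e) (horth f hf).1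
    · exact hAne f (Or.inr e) (horth f hf).1
    · exact hBne f (Or.inl e) (horth f hf).2
    · exact hBne f (Or.inr e) (horth f hf).2
  have hmain : ∀ f ∈ {(1 : S2 F → ℂ), stSL} ∪ P₀ ∪ C₀, Cfsg.IsIrrCharacter (S2 F) f := by
    intro f hf
    simp only [Finset.mem_union, Finset.mem_insert, Finset.mem_singleton] at hf
    rcases hf with ((rfl | rfl) | h) | h
    exacts [isIrrCharacter_one, isIrr_stSL, (vP f h).1, (vC f h).1]
  have hallirr : ∀ f ∈ {(1 : S2 F → ℂ), stSL} ∪ P₀ ∪ C₀ ∪ {a, b, c, d},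
      Cfsg.IsIrrCharacter (S2 F) f := by
    intro f hf
    rcases Finset.mem_union.1 hf with h | h
    · exact hmain f h
    · exact hirr f (by simpa using h)
  -- the degrees
  obtain ⟨na, -, ea⟩ := IsIrr.exists_degree ha
  obtain ⟨nb, -, eb⟩ := IsIrr.exists_degree hb
  obtain ⟨nc, hnc, ec⟩ := IsIrr.exists_degree hc
  obtain ⟨nd, hnd, ed⟩ := IsIrr.exists_degree hd
  have e1 : (na : ℂ) + nb = (Fintype.card F : ℂ) + 1 := by
    rw [← ea, ← eb, ← prSL_one α, hA]; rfl
  have e2 : s₂ * nc + t₂ * nd = (Fintype.card F : ℂ) - 1 := by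
    rw [← ec, ← ed, ← emb_SL.cusp_one hg₀ ψ θ]
    change _ = cuspSL ψ θ 1
    rw [hB]; rfl
  have hmsum := sum_sq_main hg₀ vP vC cP cC d1 d2 d3
  rw [eps_odd hodd] at hmsum
  have hsum4 : ∑ f ∈ ({a, b, c, d} : Finset (S2 F → ℂ)), f 1 ^ 2 =
      ((na ^ 2 + nb ^ 2 + nc ^ 2 + nd ^ 2 : ℕ) : ℂ) := by
    rw [Finset.sum_insert, Finset.sum_insert, Finset.sum_pair hcd, ea, eb, ec, ed]
    · push_cast; ring
    · simp only [Finset.mem_insert, Finset.mem_singleton, not_or]
      exact ⟨hcross b c (Or.inr rfl) (Or.inl rfl), hcross b d (Or.inr rfl) (Or.inr rfl)⟩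
    · simp only [Finset.mem_insert, Finset.mem_singleton, not_or]
      exact ⟨hab, hcross a c (Or.inl rfl) (Or.inl rfl), hcross a d (Or.inl rfl) (Or.inr rfl)⟩
  have hbound : (na : ℝ) ^ 2 + nb ^ 2 + nc ^ 2 + nd ^ 2 ≤ (Fintype.card F : ℝ) ^ 2 + 1 := by
    have hle := sum_re_sq_le hallirr
    have hre : ∀ f, Cfsg.IsIrrCharacter (S2 F) f → (f 1).re ^ 2 = (f 1 ^ 2).re := fun f hf => by
      obtain ⟨n, -, e⟩ := IsIrr.exists_degree hf
      rw [e, Complex.natCast_re, ← Nat.cast_pow, ← Nat.cast_pow, Complex.natCast_re]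
    rw [Finset.sum_congr rfl fun f hf => hre f (hallirr f hf), ← Complex.re_sum,
      Finset.sum_union hdisj, hmsum, hsum4] at hle
    simp [pow_two] at hle
    linarith
  have r1 : (na : ℝ) + nb = (Fintype.card F : ℝ) + 1 := by
    simpa using congrArg Complex.re e1
  have hq' : (1 : ℝ) < Fintype.card F := by exact_mod_cast hq
  have hs : ∀ {s : ℂ}, s = 1 ∨ s = -1 → (s.re = 1 ∨ s.re = -1) ∧ s = (s.re : ℂ) := by
    rintro s (rfl | rfl) <;> simp
  obtain ⟨hs2, hs2'⟩ := hs hs₂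
  obtain ⟨ht2, ht2'⟩ := hs ht₂
  have r2 : s₂.re * nc + t₂.re * nd = (Fintype.card F : ℝ) - 1 := by
    rw [hs2', ht2'] at e2
    simpa using congrArg Complex.re e2
  have hs2sq : s₂.re ^ 2 = 1 := by rcases hs2 with h | h <;> rw [h] <;> norm_num
  have ht2sq : t₂.re ^ 2 = 1 := by rcases ht2 with h | h <;> rw [h] <;> norm_num
  have z1 : ((na : ℝ) - nb) ^ 2 + (s₂.re * nc - t₂.re * nd) ^ 2 ≤ 0 := by nlinarith
  have z2 : (na : ℝ) = nb := by nlinarith [sq_nonneg ((na : ℝ) - nb), sq_nonneg (s₂.re * nc - t₂.re * nd)]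
  have z3 : s₂.re * nc = t₂.re * nd := by
    nlinarith [sq_nonneg ((na : ℝ) - nb), sq_nonneg (s₂.re * nc - t₂.re * nd)]
  have hnc' : (0 : ℝ) < nc := by exact_mod_cast hnc
  have hnd' : (0 : ℝ) < nd := by exact_mod_cast hnd
  have hs2p : s₂ = 1 := hs₂.resolve_right fun e => by
    rw [e] at r2 z3
    simp at r2 z3
    linarith
  have ht2p : t₂ = 1 := ht₂.resolve_right fun e => by
    rw [e] at r2 z3
    simp at r2 z3
    linarith
  subst hs2p ht2p
  rw [one_smul, one_smul] at hB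
  simp only [Complex.one_re, one_mul] at r2 z3
  have hna : 2 * na = Fintype.card F + 1 := by
    have : 2 * (na : ℝ) = (Fintype.card F : ℝ) + 1 := by linarith
    exact_mod_cast this
  have hncn : 2 * nc + 1 = Fintype.card F := by
    have : 2 * (nc : ℝ) + 1 = (Fintype.card F : ℝ) := by linarith
    exact_mod_cast this
  have hnb : nb = na := by exact_mod_cast z2.symm
  have hndn : nd = nc := by exact_mod_cast z3.symm
  refine ⟨a, b, c, d, hab, hcd, hA, hB, fun f hf => hirr f (by simpa using hf), ?_, ?_, ?_, ?_,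
    hPneg a (Or.inl rfl), hPneg b (Or.inr rfl), hCneg c (Or.inl rfl), hCneg d (Or.inr rfl), hH,
    fun P C hP hC => ?_⟩
  · rw [ea]; congr 1; omega
  · rw [eb]; congr 1; omega
  · rw [ec]; congr 1; omega
  · rw [ed]; congr 1; omega
  have hPe : P = P₀ := Finset.ext fun f => (hP f).trans (iP f).symm
  have hCe : C = C₀ := Finset.ext fun f => (hC f).trans (iC f).symm
  subst hPe hCe
  refine ⟨hdisj, fun f => ⟨fun hf => irr_exhaust _ hallirr ?_ hf, hallirr f⟩⟩
  rw [Finset.sum_union hdisj, hmsum, hsum4, hnb, hndn]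
  push_cast
  have c1 : 2 * (na : ℂ) = (Fintype.card F : ℂ) + 1 := by exact_mod_cast hna
  have c2 : 2 * (nc : ℂ) + 1 = (Fintype.card F : ℂ) := by exact_mod_cast hncn
  linear_combination (2 * (na : ℂ) + ((Fintype.card F : ℂ) + 1)) / 2 * c1 +
    (2 * (nc : ℂ) + (Fintype.card F : ℂ) - 1) / 2 * c2

end Cusp

end CfsgLib.SL2Char
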