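import Cfsg.Agent.Lib.Known.SL2Char.Normalizers
import Cfsg.Agent.Lib.Char.Complete

/-!
# Unipotent classes of `SL₂`
-/

namespace CfsgLib.SL2Char

open Matrix CfsgLib.PLocal.SLTwo

variable {F : Type*} [Field F]

theorem exists_conj_U_ne {g : S2 F} (hg : g ≠ 1) (ht : tr g = 2) :
    ∃ (h : S2 F) (b : F), b ≠ 0 ∧ h * g * h⁻¹ = U b := by
  obtain ⟨h, b, hb⟩ := exists_conj_U ht
  refine ⟨h, b, fun e => hg ?_, hb⟩
  rw [e, U_zero] at hb
  exact conj_eq_one_iff.1 hb

theorem commute_U_iff {b : F} (hb : b ≠ 0) (x : S2 F) :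
    x * U b = U b * x ↔ x.1 1 0 = 0 ∧ x.1 1 1 = x.1 0 0 := by
  rw [commute_iff]
  simp only [U00, U01, U10, U11]
  constructor
  · rintro ⟨h1, h2, -⟩
    exact ⟨(mul_eq_zero.1 (show b * x.1 1 0 = 0 by linear_combination (-1 : F) * h1)).resolve_left hb,
      sub_eq_zero.1 ((mul_eq_zero.1 (show b * (x.1 1 1 - x.1 0 0) = 0 by
        linear_combination (-1 : F) * h2)).resolve_left hb)⟩
  · rintro ⟨h1, h2⟩
    refine ⟨?_, ?_, ?_⟩ <;> simp only [h1, h2] <;> ring

theorem card_centralizer_U [Finite F] {b : F} (hb : b ≠ 0) :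
    Nat.card (Subgroup.centralizer ({U b} : Set (S2 F))) =
      Nat.card {a : F // a * a = 1} * Nat.card F := by
  rw [← Nat.card_prod]
  refine Nat.card_congr
    { toFun := fun x => (⟨x.1.1 0 0, ?_⟩, x.1.1 0 1)
      invFun := fun z => ⟨⟨!![z.1.1, z.2; 0, z.1.1], by simp [Matrix.det_fin_two_of, z.1.2]⟩, ?_⟩
      left_inv := fun x => ?_
      right_inv := fun z => rfl }
  · obtain ⟨h1, h2⟩ := (commute_U_iff hb _).1 (Subgroup.mem_centralizer_singleton_iff.1 x.2)
    have := det2 x.1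
    rw [h1, h2, mul_zero, sub_zero] at this
    exact this
  · exact Subgroup.mem_centralizer_singleton_iff.2 ((commute_U_iff hb _).2 ⟨rfl, rfl⟩)
  · obtain ⟨h1, h2⟩ := (commute_U_iff hb _).1 (Subgroup.mem_centralizer_singleton_iff.1 x.2)
    exact Subtype.ext (ext2 rfl rfl h1.symm h2.symm)

theorem card_sqrt_one_odd (h2 : (2 : F) ≠ 0) : Nat.card {a : F // a * a = 1} = 2 := by
  have hs : {a : F | a * a = 1} = {1, -1} := Set.ext fun a => by
    simp [mul_self_eq_one_iff]
  rw [show Nat.card {a : F // a * a = 1} = Set.ncard {a : F | a * a = 1} from rfl, hs,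
    Set.ncard_pair]
  exact fun h => h2 (by linear_combination h)

theorem card_sqrt_one_even [CharP F 2] : Nat.card {a : F // a * a = 1} = 1 := by
  have hs : {a : F | a * a = 1} = {1} := Set.ext fun a => by
    simp [mul_self_eq_one_iff, CharTwo.neg_eq]
  rw [show Nat.card {a : F // a * a = 1} = Set.ncard {a : F | a * a = 1} from rfl, hs,
    Set.ncard_singleton]

/-- Conjugacy of two nontrivial unitriangular elements. -/
theorem isConj_U_iff {b c : F} (hb : b ≠ 0) :
    IsConj (U b : S2 F) (U c) ↔ ∃ a : F, a ≠ 0 ∧ c = a * a * b := by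
  rw [isConj_iff]
  constructor
  · rintro ⟨x, hx⟩
    have e : x * U b = U c * x := mul_inv_eq_iff_eq_mul.1 hx
    have e00 := congrArg (fun y : S2 F => y.1 0 0) e
    have e01 := congrArg (fun y : S2 F => y.1 0 1) e
    have e11 := congrArg (fun y : S2 F => y.1 1 1) e
    simp [m00, m01, m11] at e00 e01 e11
    have h10 : x.1 1 0 = 0 := e11.resolve_right hb
    have hd := det2 x
    rw [h10, mul_zero, sub_zero] at hd
    refine ⟨x.1 0 0, left_ne_zero_of_mul_eq_one hd, ?_⟩
    linear_combination (-c) * hd - x.1 0 0 * e01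
  · rintro ⟨a, ha, hc⟩
    refine ⟨diagS (Units.mk0 a ha), ?_⟩
    refine ext2 ?_ ?_ ?_ ?_ <;>
      simp [m00, m01, m10, m11, i00, i01, i10, i11, hc, ha] <;> ring

theorem card_carrier_mul [Finite F] (g : S2 F) :
    Nat.card (ConjClasses.mk g).carrier * Nat.card (Subgroup.centralizer ({g} : Set (S2 F))) =
      Nat.card (S2 F) := by
  rw [CfsgLib.Char.card_carrier_eq_index g, Subgroup.index_mul_card]

end CfsgLib.SL2Char
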