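import Cfsg.Agent.Lib.Known.SL2Char.Halves
import Cfsg.Agent.Lib.Known.SL2Char.Unipotent

/-!
# The half characters on unipotent elements

The restriction of a half character to the root group contains the nontrivial additive characters of
exactly one square class; its values there are Gauss sums.
-/

namespace CfsgLib.SL2Char

open Matrix CfsgLib.Char CfsgLib.PLocal.SLTwo
open scoped ComplexConjugate

variable (F : Type*) [Field F]

/-- The root group as a homomorphism. -/
def homU : Multiplicative F →* S2 F where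
  toFun t := U t.toAdd
  map_one' := U_zero
  map_mul' s t := (U_mul _ _).symm

variable [Fintype F] [DecidableEq F]

/-- The complex quadratic character. -/
noncomputable def qcC : MulChar F ℂ := (quadraticChar F).ringHomComp (Int.castRingHom ℂ)

variable {F}

theorem qcC_sq_one (a : F) (ha : a ≠ 0) : qcC F a = if IsSquare a then 1 else -1 := by
  rw [qcC, MulChar.ringHomComp_apply]
  split_ifs with h
  · rw [(quadraticChar_one_iff_isSquare ha).2 h]; simp
  · rw [quadraticChar_neg_one_iff_not_isSquare.2 h]; simp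

theorem qcC_isQuadratic : (qcC F).IsQuadratic :=
  MulChar.IsQuadratic.comp (quadraticChar_isQuadratic F) _

theorem qcC_ne_one (hF : ringChar F ≠ 2) : qcC F ≠ 1 :=
  (MulChar.ringHomComp_ne_one_iff Int.cast_injective).2 (quadraticChar_ne_one hF)

theorem qcC_sq : qcC F ^ 2 = 1 := qcC_isQuadratic.sq_eq_one

theorem qcC_neg_one (hodd : Odd (Fintype.card F)) (hF : ringChar F ≠ 2) :
    qcC F (-1) = (-1) ^ ((Fintype.card F - 1) / 2) := by
  have hneg : (-1 : F) ≠ 1 := Ring.neg_one_ne_one_of_char_ne_two hF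
  have hz : orderOf (-1 : Fˣ) = 2 := orderOf_eq_prime (by simp) fun e => hneg (congrArg Units.val e)
  have h := quad_hom_involution (f := (qcC F).toUnitHom) (fun c => Units.ext (by
      rw [Units.val_mul, MulChar.coe_toUnitHom, ← MulChar.mul_apply, ← pow_two, qcC_sq,
        MulChar.one_apply_coe, Units.val_one]))
    (fun e => qcC_ne_one hF (MulChar.ext fun a => by
      rw [MulChar.one_apply_coe, ← MulChar.coe_toUnitHom, e]; rfl)) hz
  rw [Nat.card_units, Nat.card_eq_fintype_card] at h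
  simpa using h

theorem gauss_sq (hF : ringChar F ≠ 2) {ψ : AddChar F ℂ} (hψ : ψ ≠ 1) :
    gaussSum (qcC F) ψ ^ 2 = qcC F (-1) * (Fintype.card F : ℂ) :=
  gaussSum_sq (qcC_ne_one hF) qcC_isQuadratic (AddChar.IsPrimitive.of_ne_one hψ)

theorem gauss_ne_zero (hF : ringChar F ≠ 2) {ψ : AddChar F ℂ} (hψ : ψ ≠ 1) :
    gaussSum (qcC F) ψ ≠ 0 := by
  intro h
  have e := gauss_sq hF hψ
  rw [h, zero_pow two_ne_zero] at e
  rcases mul_eq_zero.1 e.symm with e | e
  · rw [qcC_sq_one _ (neg_ne_zero.2 one_ne_zero)] at e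
    split_ifs at e <;> norm_num at e
  · exact Nat.cast_ne_zero.2 Fintype.card_ne_zero e

variable [Fintype (S2 F)]

/-- The multiplicity of an additive character in the restriction to the root group. -/
noncomputable def multU (ψ : AddChar F ℂ) (χ : S2 F → ℂ) (s : F) : ℂ :=
  (Fintype.card F : ℂ)⁻¹ * ∑ t : F, χ (U t) * conj (ψ (s * t))

theorem multU_nat {χ : S2 F → ℂ} (hχ : Cfsg.IsCharacter (S2 F) χ) (ψ : AddChar F ℂ) (s : F) :
    ∃ m : ℕ, multU ψ χ s = m := by
  have hne : ∀ t : F, ψ t ≠ 0 := fun t h0 => by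
    have := ψ.map_add_eq_mul t (-t)
    rw [add_neg_cancel, AddChar.map_zero_eq_one, h0, zero_mul] at this
    exact one_ne_zero this
  let l : Multiplicative F →* ℂˣ :=
    { toFun := fun t => Units.mk0 _ (hne (s * t.toAdd))
      map_one' := Units.ext (by simp)
      map_mul' := fun x y => Units.ext (by simp [mul_add, AddChar.map_add_eq_mul]) }
  obtain ⟨m, hm⟩ := IsChar.classInner_eq_natCast (IsChar.comp (homU F) hχ)
    (IsIrr.isCharacter (isIrrCharacter_linear l))
  refine ⟨m, ?_⟩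
  rw [← hm, multU, Cfsg.classInner, Nat.card_eq_fintype_card, Fintype.card_multiplicative]
  congr 1
  exact Fintype.sum_equiv Multiplicative.ofAdd _ _ fun t => rfl

theorem multU_inversion {ψ : AddChar F ℂ} (hψ : ψ ≠ 1) (χ : S2 F → ℂ) (t : F) :
    χ (U t) = ∑ s : F, multU ψ χ s * ψ (s * t) := by
  have key : ∀ r : F, ∑ s : F, conj (ψ (s * r)) * ψ (s * t) =
      if t = r then (Fintype.card F : ℂ) else 0 := fun r => by
    have e : ∀ s, conj (ψ (s * r)) * ψ (s * t) = ψ (s * (t - r)) := fun s => by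
      rw [← AddChar.map_neg_eq_conj, ← AddChar.map_add_eq_mul]
      congr 1; ring
    simp only [e, AddChar.sum_mulShift _ (AddChar.IsPrimitive.of_ne_one hψ), sub_eq_zero]
    push_cast
    rfl
  simp only [multU, Finset.mul_sum, Finset.sum_mul]
  rw [Finset.sum_comm]
  simp only [mul_assoc, ← Finset.mul_sum, key, mul_ite, mul_zero, Finset.sum_ite_eq, Finset.mem_univ,
    if_true]
  field_simp

theorem multU_mul_sq {χ : S2 F → ℂ} (hχ : Cfsg.IsClassFunction (S2 F) χ) (ψ : AddChar F ℂ) {a : F}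
    (ha : a ≠ 0) (s : F) : multU ψ χ (s * (a * a)) = multU ψ χ s := by
  unfold multU
  congr 1
  refine Fintype.sum_equiv (Equiv.mulLeft₀ (a * a) (mul_ne_zero ha ha)) _ _ fun t => ?_
  rw [Equiv.mulLeft₀_apply]
  obtain ⟨h, hh⟩ := isConj_iff.1 ((isConj_U_iff_or_zero ha t))
  rw [← hh, hχ, mul_assoc]
where
  isConj_U_iff_or_zero {a : F} (ha : a ≠ 0) (t : F) : IsConj (U t : S2 F) (U (a * a * t)) := by
    by_cases ht : t = 0
    · rw [ht, mul_zero]
    · exact (isConj_U_iff ht).2 ⟨a, ha, rfl⟩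

theorem U_neg_three_norm {χ : S2 F → ℂ} (hχ : Cfsg.IsIrrCharacter (S2 F) χ) {σ : ℂ}
    (hσ : σ = 1 ∨ σ = -1) (hneg : ∀ g, χ (-g) = σ * χ g) (h3 : Fintype.card F = 3)
    (hF : ringChar F ≠ 2) (h : ∀ t, χ (U t) = 2) : False := by
  classical
  have hneg1 : (-1 : F) ≠ 1 := Ring.neg_one_ne_one_of_char_ne_two hF
  have hLo : χ (Lo 1) = 2 := by
    have e : (weylS : S2 F) * Lo 1 * weylS⁻¹ = U (-1) := by
      refine ext2 ?_ ?_ ?_ ?_ <;> simp [m00, m01, m10, m11, i00, i01, i10, i11]
    rw [← IsIrr.isClassFunction hχ (Lo 1) weylS, e, h]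
  let S : Finset (S2 F) := Finset.univ.image U ∪ Finset.univ.image (fun t => -U t) ∪ {Lo 1}
  have hd1 : Disjoint (Finset.univ.image (U : F → S2 F)) (Finset.univ.image fun t => -U t) := by
    refine Finset.disjoint_left.2 fun g hg hg' => ?_
    obtain ⟨s, -, rfl⟩ := Finset.mem_image.1 hg
    obtain ⟨t, -, e⟩ := Finset.mem_image.1 hg'
    exact hneg1 (by simpa using congrArg (fun y : S2 F => y.1 0 0) e)
  have hd2 : Disjoint (Finset.univ.image (U : F → S2 F) ∪ Finset.univ.image fun t => -U t) {Lo 1} := by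
    refine Finset.disjoint_singleton_right.2 fun hg => ?_
    simp only [Finset.mem_union, Finset.mem_image, Finset.mem_univ, true_and] at hg
    rcases hg with ⟨t, e⟩ | ⟨t, e⟩ <;>
      simpa using congrArg (fun y : S2 F => y.1 1 0) e
  have hcard : S.card = 7 := by
    rw [Finset.card_union_of_disjoint hd2, Finset.card_union_of_disjoint hd1,
      Finset.card_image_of_injective _ U_injective,
      Finset.card_image_of_injective _ fun s t e => U_injective (neg_injective e), Finset.card_univ,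
      h3, Finset.card_singleton]
  have hval : ∀ g ∈ S, Complex.normSq (χ g) = 4 := fun g hg => by
    simp only [S, Finset.mem_union, Finset.mem_image, Finset.mem_univ, true_and,
      Finset.mem_singleton] at hg
    rcases hg with (⟨t, rfl⟩ | ⟨t, rfl⟩) | rfl
    · rw [h]; norm_num
    · rw [hneg, h]; rcases hσ with rfl | rfl <;> norm_num
    · rw [hLo]; norm_num
  have hnorm := Exceptional.classInner_self_of_irr hχ
  rw [Cfsg.classInner, inv_mul_eq_iff_eq_mul₀ (Nat.cast_ne_zero.2 Nat.card_pos.ne'), mul_one] at hnorm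
  simp only [Complex.mul_conj] at hnorm
  have h24 : Nat.card (S2 F) = 24 := by rw [CfsgLib.Classical.Two.card_SL_two, h3]; norm_num
  rw [h24, ← Complex.ofReal_sum] at hnorm
  have hnorm' : ∑ g, Complex.normSq (χ g) = 24 := by exact_mod_cast hnorm
  have hle := Finset.sum_le_sum_of_subset_of_nonneg (Finset.subset_univ S)
    (f := fun g => Complex.normSq (χ g)) fun g _ _ => Complex.normSq_nonneg _
  rw [Finset.sum_congr rfl hval, Finset.sum_const, hcard, hnorm'] at hle
  norm_num at hle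

/-- The values of a half character on the root group. -/
theorem unipotent_values (hodd : Odd (Fintype.card F)) {ψ : AddChar F ℂ} (hψ : ψ ≠ 1)
    {χ χ' X : S2 F → ℂ} (hχ : Cfsg.IsIrrCharacter (S2 F) χ) (hχ' : Cfsg.IsIrrCharacter (S2 F) χ')
    (hsum : X = χ + χ') {w : ℤ} (hw : w = 1 ∨ w = -1) (hX0 : X 1 = (Fintype.card F : ℂ) + w)
    (hXu : ∀ t, t ≠ 0 → X (U t) = w) (hdeg : χ 1 = χ' 1) {σ : ℂ} (hσ : σ = 1 ∨ σ = -1)
    (hneg : ∀ g, χ (-g) = σ * χ g) (hneg' : ∀ g, χ' (-g) = σ * χ' g) :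
    ∃ ε : ℂ, (ε = 1 ∨ ε = -1) ∧
      ∀ t, t ≠ 0 → 2 * χ (U t) = w + ε * qcC F t * gaussSum (qcC F) ψ := by
  classical
  have h2 : ringChar F ≠ 2 := fun h => by
    have := FiniteField.even_card_iff_char_two.1 h
    rw [Nat.odd_iff] at hodd
    omega
  have hprim := AddChar.IsPrimitive.of_ne_one hψ
  have hq : (Fintype.card F : ℂ) ≠ 0 := Nat.cast_ne_zero.2 Fintype.card_ne_zero
  have hXmult : ∀ s, multU ψ X s = if s = 0 then 1 + (w : ℂ) else 1 := by
    intro s
    have hpt : ∀ t, X (U t) * conj (ψ (s * t)) =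
        (w : ℂ) * ψ (t * (-s)) + (if t = 0 then (Fintype.card F : ℂ) else 0) := fun t => by
      rw [← AddChar.map_neg_eq_conj, show -(s * t) = t * (-s) by ring]
      by_cases ht : t = 0
      · rw [ht, if_pos rfl, U_zero, hX0, zero_mul, AddChar.map_zero_eq_one]; ring
      · rw [if_neg ht, hXu t ht]; ring
    rw [multU, Finset.sum_congr rfl fun t _ => hpt t, Finset.sum_add_distrib, ← Finset.mul_sum,
      AddChar.sum_mulShift _ hprim, Finset.sum_ite_eq', if_pos (Finset.mem_univ _)]
    simp only [neg_eq_zero]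
    split_ifs <;> push_cast <;> field_simp <;> ring
  choose m hm using fun s => multU_nat (IsIrr.isCharacter hχ) ψ s
  choose m' hm' using fun s => multU_nat (IsIrr.isCharacter hχ') ψ s
  have hmm : ∀ s, (m s : ℂ) + m' s = if s = 0 then 1 + (w : ℂ) else 1 := fun s => by
    rw [← hm, ← hm', ← hXmult, hsum]
    simp only [multU, Pi.add_apply, add_mul, Finset.sum_add_distrib, mul_add]
  obtain ⟨ν, hν⟩ := FiniteField.exists_nonsquare h2
  have hν0 : ν ≠ 0 := fun e => hν (e ▸ IsSquare.zero)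
  -- constancy on square classes
  have hclass : ∀ (φ : S2 F → ℂ) (n : F → ℕ), Cfsg.IsClassFunction (S2 F) φ →
      (∀ s, multU ψ φ s = n s) → ∀ s, s ≠ 0 → n s = if IsSquare s then n 1 else n ν := by
    intro φ n hφ hn s hs
    split_ifs with hsq
    · obtain ⟨a, rfl⟩ := hsq
      have e := multU_mul_sq hφ ψ (left_ne_zero_of_mul hs) 1
      rw [one_mul, hn, hn] at e
      exact_mod_cast e
    · have hsν : IsSquare (ν * s) := by
        rw [FiniteField.isSquare_iff h2 (mul_ne_zero hν0 hs), mul_pow,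
          (FiniteField.pow_dichotomy h2 hν0).resolve_left fun e =>
            hν ((FiniteField.isSquare_iff h2 hν0).2 e),
          (FiniteField.pow_dichotomy h2 hs).resolve_left fun e =>
            hsq ((FiniteField.isSquare_iff h2 hs).2 e), neg_one_mul, neg_neg]
      obtain ⟨a, ha⟩ := hsν
      have ha0 : a ≠ 0 := fun e => mul_ne_zero hν0 hs (by rw [ha, e, mul_zero])
      have e := multU_mul_sq hφ ψ (div_ne_zero ha0 hν0) ν
      rw [show ν * (a / ν * (a / ν)) = s by field_simp; linear_combination -ha, hn, hn] at e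
      exact_mod_cast e
  have hc := hclass χ m (IsIrr.isClassFunction hχ) hm
  have hc' := hclass χ' m' (IsIrr.isClassFunction hχ') hm'
  have h1 : m 1 + m' 1 = 1 := by exact_mod_cast (hmm 1).trans (if_neg one_ne_zero)
  have hnu : m ν + m' ν = 1 := by exact_mod_cast (hmm ν).trans (if_neg hν0)
  have h0 : (m 0 : ℤ) + m' 0 = 1 + w := by exact_mod_cast (hmm 0).trans (if_pos rfl)
  have hd : 2 * χ 1 = (Fintype.card F : ℂ) + w := by
    rw [← hX0, hsum, Pi.add_apply, ← hdeg]; ring
  -- the root group cannot be in the kernel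
  have hker : ∀ (φ : S2 F → ℂ) (n : F → ℕ), Cfsg.IsIrrCharacter (S2 F) φ →
      (∀ g, φ (-g) = σ * φ g) → (∀ s, multU ψ φ s = n s) →
      2 * φ 1 = (Fintype.card F : ℂ) + w → (n 0 : ℤ) ≤ 1 + w → ¬ (∀ s, s ≠ 0 → n s = 0) := by
    intro φ n hφ hφn hn hφd hn0 hzero
    have hconst : ∀ t, φ (U t) = (n 0 : ℂ) := fun t => by
      rw [multU_inversion hψ φ t, Finset.sum_eq_single (0 : F) (fun s _ hs => by
        rw [hn, hzero s hs, Nat.cast_zero, zero_mul]) (by simp), hn, zero_mul,
        AddChar.map_zero_eq_one, mul_one]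
    have e := hconst 0
    rw [U_zero] at e
    rw [e] at hφd
    have hnq : 2 * (n 0 : ℤ) = (Fintype.card F : ℤ) + w := by exact_mod_cast hφd
    have hq1 : 1 < Fintype.card F := Fintype.one_lt_card
    obtain ⟨j, hj⟩ := hodd
    rcases hw with rfl | rfl
    · refine U_neg_three_norm hφ hσ hφn (by omega) h2 fun t => ?_
      rw [hconst, show n 0 = 2 by omega]
      norm_num
    · omega
  have hd' : 2 * χ' 1 = (Fintype.card F : ℂ) + w := by rw [← hdeg]; exact hd
  have k1 : ¬ (m 1 = 0 ∧ m ν = 0) := fun h => hker χ m hχ hneg hm hd (by omega) fun s hs => by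
    rw [hc s hs]; split_ifs <;> simp [h.1, h.2]
  have k2 : ¬ (m' 1 = 0 ∧ m' ν = 0) := fun h => hker χ' m' hχ' hneg' hm' hd' (by omega) fun s hs => by
    rw [hc' s hs]; split_ifs <;> simp [h.1, h.2]
  have hone : m 1 + m ν = 1 := by omega
  set ε : ℂ := (m 1 : ℂ) - (m ν : ℂ) with hε
  have hεs : ε = 1 ∨ ε = -1 := by
    rcases Nat.add_eq_one_iff.1 hone with ⟨e1, e2⟩ | ⟨e1, e2⟩ <;> rw [hε, e1, e2] <;> norm_num
  refine ⟨ε, hεs, ?_⟩
  have hone' : (m 1 : ℂ) + (m ν : ℂ) = 1 := by exact_mod_cast hone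
  have hms : ∀ s, 2 * (m s : ℂ) = 1 + ε * qcC F s + if s = 0 then 2 * (m 0 : ℂ) - 1 else 0 := fun s => by
    by_cases hs : s = 0
    · subst hs; rw [MulChar.map_zero, if_pos rfl]; ring
    · rw [if_neg hs, hc s hs, qcC_sq_one s hs, hε]
      split_ifs
      · linear_combination hone'
      · linear_combination hone'
  have hval : ∀ t, 2 * χ (U t) = (if t = 0 then (Fintype.card F : ℂ) else 0) +
      ε * ∑ s, qcC F s * ψ (s * t) + (2 * (m 0 : ℂ) - 1) := fun t => by
    rw [multU_inversion hψ χ t, Finset.mul_sum]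
    have e : ∀ s, 2 * (multU ψ χ s * ψ (s * t)) = ψ (s * t) + ε * (qcC F s * ψ (s * t)) +
        (if s = 0 then 2 * (m 0 : ℂ) - 1 else 0) * ψ (s * t) := fun s => by
      rw [hm, ← mul_assoc, hms]; ring
    rw [Finset.sum_congr rfl fun s _ => e s, Finset.sum_add_distrib, Finset.sum_add_distrib,
      AddChar.sum_mulShift _ hprim, ← Finset.mul_sum]
    simp only [ite_mul, zero_mul, Finset.sum_ite_eq', Finset.mem_univ, if_true, zero_mul,
      AddChar.map_zero_eq_one, mul_one]
    push_cast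
    ring
  have hm0 : 2 * (m 0 : ℂ) - 1 = w := by
    have e := hval 0
    have hsum0 : ∑ s, qcC F s = 0 := MulChar.sum_eq_zero_of_ne_one (qcC_ne_one h2)
    simp only [mul_zero, AddChar.map_zero_eq_one, mul_one, hsum0, if_pos, add_zero, U_zero] at e
    linear_combination hd - e
  intro t ht
  rw [hval t, if_neg ht, hm0, zero_add]
  have hgs : ∑ s, qcC F s * ψ (s * t) = qcC F t * gaussSum (qcC F) ψ := by
    have e := gaussSum_mulShift (qcC F) ψ (Units.mk0 t ht)
    rw [← e, ← mul_assoc, show qcC F t * qcC F (Units.mk0 t ht : Fˣ) = 1 by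
      rw [Units.val_mk0, qcC_sq_one t ht]; split_ifs <;> norm_num, one_mul]
    simp only [gaussSum, AddChar.mulShift_apply, Units.val_mk0, mul_comm t]
  rw [hgs]
  ring

end CfsgLib.SL2Char
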