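import Cfsg.Agent.Lib.Known.SL2Char.TableSLOdd
import Cfsg.Agent.Lib.Known.SL2Char.Normalizers
import Cfsg.Agent.Lib.Known.SL2Char.PSLDegrees
import Cfsg.Agent.Lib.CharDegree.SectionAction
import Cfsg.Agent.Lib.CharDegree.Basic
import Cfsg.Agent.Lib.Char.Extension
import Cfsg.Agent.Lib.Blocks.Union
import Cfsg.Agent.Lib.Classical.SL2Sylow
import Cfsg.Agent.S2430
import Cfsg.Agent.S2431
import Cfsg.Agent.S2437

/-!
# Characters of degree prime to `ℓ` of `SL₂` and of its Sylow normalisers
-/

set_option autoImplicit false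

namespace CfsgLib.McKaySLTwo

open Cfsg CfsgLib.SL2Char CfsgLib.PLocal.SLTwo
open scoped commutatorElement

section Generic

variable {N : Type*} [Group N] [Finite N]

/-- With an abelian normal subgroup of index prime to `ℓ` all degrees are prime to `ℓ`. -/
theorem card_degree_eq_conjClasses (A : Subgroup N) [A.Normal]
    (hA : ∀ a ∈ A, ∀ b ∈ A, a * b = b * a) {ℓ : ℕ} (h : ¬ ℓ ∣ A.index) :
    Nat.card {ψ : IrrCharacter N // ¬ ℓ ∣ charDegree (ψ : N → ℂ)} = Nat.card (ConjClasses N) := by
  rw [Nat.card_congr (Equiv.subtypeUnivEquiv fun ψ : IrrCharacter N => fun hd =>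
    h (hd.trans (CfsgLib.TwoDegrees.degree_dvd_index ψ A hA))), CfsgLib.Char.card_irrCharacter]

/-- The odd degree characters of a 2-group are linear. -/
theorem card_odd_degree_two_group (hN : IsPGroup 2 N) :
    Nat.card {ψ : IrrCharacter N // ¬ 2 ∣ charDegree (ψ : N → ℂ)} = (commutator N).index := by
  rw [← CfsgLib.CharDegree.card_linear]
  refine Nat.card_congr (Equiv.subtypeEquivRight fun ψ => ⟨fun h => ?_, fun h => by omega⟩)
  obtain ⟨j, hj⟩ := IsPGroup.iff_card.1 hN
  obtain ⟨i, -, hi⟩ := (Nat.dvd_prime_pow Nat.prime_two).1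
    (hj ▸ CfsgLib.CharDegree.charDegree_dvd_card ψ)
  rcases Nat.eq_zero_or_pos i with h0 | h0
  · rw [hi, h0, pow_zero]
  · exact absurd (hi ▸ dvd_pow_self 2 h0.ne') h

/-- An irreducible character of odd degree is trivial on a central commutator of order two. -/
theorem apply_eq_of_odd {ψ : IrrCharacter N} {z : N} (hz : ∀ g, g * z = z * g) (hz2 : z * z = 1)
    (hzc : z ∈ commutator N) (hodd : ¬ 2 ∣ charDegree (ψ : N → ℂ)) :
    (ψ : N → ℂ) z = (ψ : N → ℂ) 1 := by
  obtain ⟨n, ρ, hρ, hψ, hn⟩ := CfsgLib.CharDegree.exists_rep ψ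
  obtain ⟨c, hc⟩ := CfsgLib.CharIntegral.exists_scalar_of_commute ρ (ρ z) fun x => by
    rw [← map_mul, ← map_mul, hz]
  have hn0 : n ≠ 0 := fun h => hodd (by rw [← hn, h]; exact dvd_zero 2)
  have hzz : ρ z * ρ z = 1 := by rw [← map_mul, hz2, map_one]
  have hc2 : c * c = 1 := by
    have := congrArg (LinearMap.trace ℂ (Fin n → ℂ)) hzz
    rw [hc] at this
    simp [smul_mul_assoc, mul_smul_comm, smul_smul, Module.End.mul_eq_comp] at this
    exact mul_right_cancel₀ (Nat.cast_ne_zero.2 hn0) (this.trans (one_mul _).symm)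
  have hdet : CfsgLib.CharExt.detHom ρ z = 1 := by
    rw [← MonoidHom.mem_ker]
    exact (Abelianization.commutator_subset_ker _) hzc
  have hcn : c ^ n = 1 := by
    have h := congrArg (fun u : ℂˣ => (u : ℂ)) hdet
    simp only [CfsgLib.CharExt.detHom_apply, hc, LinearMap.det_smul, Module.finrank_fin_fun,
      LinearMap.det_id, mul_one, Units.val_one] at h
    exact h
  have hc1 : c = 1 := by
    obtain ⟨k, hk⟩ : Odd n := Nat.not_even_iff_odd.1 fun h => hodd (hn ▸ h.two_dvd)
    rw [hk, pow_succ, pow_mul, pow_two, hc2, one_pow, one_mul] at hcn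
    exact hcn
  rw [← hψ]
  show LinearMap.trace ℂ (Fin n → ℂ) (ρ z) = LinearMap.trace ℂ (Fin n → ℂ) (ρ 1)
  rw [hc, hc1, one_smul, map_one]
  rfl

omit [Finite N] in
theorem card_degree_congr {G : Type*} [Group G] (e : N ≃* G) :
    Nat.card (ConjClasses N) = Nat.card (ConjClasses G) :=
  Nat.card_congr
    { toFun := ConjClasses.map e.toMonoidHom
      invFun := ConjClasses.map e.symm.toMonoidHom
      left_inv := fun C => Quotient.inductionOn C fun g =>
        congrArg ConjClasses.mk (e.symm_apply_apply g)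
      right_inv := fun C => Quotient.inductionOn C fun g =>
        congrArg ConjClasses.mk (e.apply_symm_apply g) }

end Generic

variable {F : Type*} [Field F] [Fintype F]

theorem two_ne_zero_of_odd (hodd : Odd (Fintype.card F)) : (2 : F) ≠ 0 :=
  Ring.two_ne_zero fun h => by
    have := FiniteField.even_card_iff_char_two.1 h
    rw [Nat.odd_iff] at hodd
    omega

/-- The normaliser of a Sylow subgroup in the defining characteristic. -/
theorem local_defining (hodd : Odd (Fintype.card F)) (ℓ : ℕ) [Fact ℓ.Prime] [CharP F ℓ]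
    (S : Sylow ℓ (S2 F)) :
    Nat.card {ψ : IrrCharacter (Subgroup.normalizer ((S : Subgroup (S2 F)) : Set (S2 F))) //
        ¬ ℓ ∣ charDegree (ψ : Subgroup.normalizer ((S : Subgroup (S2 F)) : Set (S2 F)) → ℂ)} =
      Fintype.card F + 3 := by
  classical
  let Uu : Subgroup (S2 F) :=
    { carrier := {g | g.1 1 0 = 0 ∧ g.1 0 0 = 1 ∧ g.1 1 1 = 1}
      one_mem' := by simp
      mul_mem' := fun {a b} ha hb => by
        obtain ⟨a1, a2, a3⟩ := ha
        obtain ⟨b1, b2, b3⟩ := hb
        refine ⟨?_, ?_, ?_⟩ <;> simp [m00, m10, m11, a1, a2, a3, b1, b2, b3]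
      inv_mem' := fun {a} ha => by
        obtain ⟨a1, a2, a3⟩ := ha
        refine ⟨?_, ?_, ?_⟩ <;> simp [i00, i10, i11, a1, a2, a3] }
  have hmem : ∀ g, g ∈ Uu ↔ g.1 1 0 = 0 ∧ g.1 0 0 = 1 ∧ g.1 1 1 = 1 := fun g => Iff.rfl
  have hU : ∀ g ∈ Uu, g = U (g.1 0 1) := fun g hg => by
    obtain ⟨a1, a2, a3⟩ := (hmem g).1 hg
    exact ext2 (a2.trans (by simp [U])) (by simp [U]) (a1.trans (by simp [U])) (a3.trans (by simp [U]))
  have hUmem : ∀ t : F, U t ∈ Uu := fun t => (hmem _).2 (by simp [U])
  have hcard : Nat.card Uu = Fintype.card F := by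
    rw [← Nat.card_eq_fintype_card]
    exact (Nat.card_congr (Equiv.ofBijective (fun t : F => (⟨U t, hUmem t⟩ : Uu))
      ⟨fun a b h => by simpa [U] using congrArg (fun g : Uu => (g : S2 F).1 0 1) h,
        fun g => ⟨g.1.1 0 1, Subtype.ext (hU _ g.2).symm⟩⟩)).symm
  obtain ⟨k, -, hk⟩ := FiniteField.card F ℓ
  obtain ⟨T, hT⟩ := (IsPGroup.of_card (n := (k : ℕ)) (hcard.trans hk)).exists_le_sylow
  have hTU : (T : Subgroup (S2 F)) = Uu := (Subgroup.eq_of_le_of_card_ge hT (by
    rw [hcard, CfsgLib.Classical.Two.card_sylow_SL_two])).symm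
  obtain ⟨x, hx⟩ := MulAction.exists_smul_eq (S2 F) T S
  let e : S2 F ≃* S2 F := MulAut.conj x
  have hSU : (S : Subgroup (S2 F)) = Uu.map e.toMonoidHom := by
    rw [← hx, Sylow.coe_subgroup_smul, ← hTU]
    rfl
  set N := Subgroup.normalizer ((S : Subgroup (S2 F)) : Set (S2 F)) with hN
  set B : Subgroup (S2 F) := (Cfsg.upperTriangularGL 2 F).comap Matrix.SpecialLinearGroup.toGL with hB
  have hNB : N = B.map e.toMonoidHom := by
    have hUB : Subgroup.normalizer (Uu : Set (S2 F)) = B := by
      ext g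
      rw [hB, mem_upperSL]
      constructor
      · intro hg
        have h := ((hmem _).1 ((Subgroup.mem_normalizer_iff.1 hg (U 1)).1 (hUmem 1))).1
        have e : (g * U 1 * g⁻¹).1 1 0 = -(g.1 1 0 * g.1 1 0) := by
          rw [m10, m10, m11, i00, i10]
          simp [U]
          ring
        rw [e, neg_eq_zero, mul_self_eq_zero] at h
        exact h
      · intro hg
        have key : ∀ y : S2 F, y.1 1 0 = 0 → ∀ z ∈ Uu, y * z * y⁻¹ ∈ Uu := fun y hy z hz => by
          obtain ⟨z1, z2, z3⟩ := (hmem z).1 hz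
          have hd := det2 y
          rw [hy, mul_zero, sub_zero] at hd
          refine (hmem _).2 ⟨?_, ?_, ?_⟩
          · rw [m10, m10, m11, i00, i10, hy, z1, z2, z3]; ring
          · rw [m00, m00, m01, i00, i10, hy, z1, z2, z3]; linear_combination hd
          · rw [m11, m10, m11, i01, i11, hy, z1, z2, z3]; linear_combination hd
        refine Subgroup.mem_normalizer_iff.2 fun z => ⟨fun hz => key g hg z hz, fun hz => ?_⟩
        have := key g⁻¹ (by rw [MSL_apply] at hg; simp [i10, hg]) _ hz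
        simpa [mul_assoc] using this
    rw [← hUB, hN, hSU, ← Subgroup.map_equiv_normalizer_eq]
  have hk' : Nat.card (ConjClasses N) = Fintype.card F + 3 := by
    rw [← card_degree_congr ((B.equivMapOfInjective e.toMonoidHom e.injective).trans
      (MulEquiv.subgroupCongr hNB.symm))]
    exact Cfsg.Agent.S2437.result hodd
  rw [← hk']
  refine card_degree_eq_conjClasses ((S : Subgroup (S2 F)).subgroupOf N) (fun a ha b hb => ?_) ?_
  · have hab : ∀ g h : S2 F, g ∈ (S : Subgroup (S2 F)) → h ∈ (S : Subgroup (S2 F)) → g * h = h * g := by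
      intro g h hg hh
      rw [hSU] at hg hh
      obtain ⟨g', hg', rfl⟩ := Subgroup.mem_map.1 hg
      obtain ⟨h', hh', rfl⟩ := Subgroup.mem_map.1 hh
      rw [← map_mul, ← map_mul, hU g' hg', hU h' hh', U_mul, U_mul, add_comm]
    exact Subtype.ext (hab _ _ ha hb)
  · exact fun h => S.not_dvd_index (h.trans (Subgroup.relIndex_dvd_index_of_le Subgroup.le_normalizer))

/-- The normaliser of a Sylow subgroup of odd order in a torus. -/
theorem local_torus (hodd : Odd (Fintype.card F)) (ℓ : ℕ) [Fact ℓ.Prime] (hℓ : ℓ ≠ 2)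
    (S : Sylow ℓ (S2 F)) (m : ℕ) (hdvd : ℓ ∣ m)
    (x w : S2 F) (hx : NonScalar x) (hd : tr x ^ 2 ≠ 4) (hw : w * x * w⁻¹ = x⁻¹)
    (hm : Nat.card (Subgroup.centralizer ({x} : Set (S2 F))) = m)
    (hP : ∀ P : Sylow ℓ (S2 F),
      Nat.card (Subgroup.centralizer ((P : Subgroup (S2 F)) : Set (S2 F))) = m ∧
      Nat.card (Subgroup.normalizer ((P : Subgroup (S2 F)) : Set (S2 F))) = 2 * m) :
    2 * Nat.card {ψ : IrrCharacter (Subgroup.normalizer ((S : Subgroup (S2 F)) : Set (S2 F))) //
        ¬ ℓ ∣ charDegree (ψ : Subgroup.normalizer ((S : Subgroup (S2 F)) : Set (S2 F)) → ℂ)} = m + 6 := by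
  classical
  have h2 := two_ne_zero_of_odd hodd
  obtain ⟨⟨t, htT⟩, ht⟩ := exists_prime_orderOf_dvd_card' ℓ (hm.symm ▸ hdvd :
    ℓ ∣ Nat.card (Subgroup.centralizer ({x} : Set (S2 F))))
  rw [Subgroup.orderOf_mk] at ht
  obtain ⟨P, hPt⟩ := (IsPGroup.of_card (n := 1) (G := Subgroup.zpowers t)
    (by rw [Nat.card_zpowers, ht, pow_one])).exists_le_sylow (G := S2 F) (p := ℓ)
  set T := Subgroup.centralizer ({x} : Set (S2 F)) with hTdef
  have hts : NonScalar t := by
    refine nonScalar_of_ne (fun e => ?_) (fun e => ?_)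
    · rw [e, orderOf_one] at ht
      exact (Fact.out : ℓ.Prime).ne_one ht.symm
    · rw [e] at ht
      exact hℓ ((Nat.prime_dvd_prime_iff_eq Fact.out Nat.prime_two).1
        (ht ▸ orderOf_dvd_of_pow_eq_one CfsgLib.PLocal.SLTwo.neg_one_sq))
  have hCt : Subgroup.centralizer ({t} : Set (S2 F)) = T :=
    centralizer_eq_of_commute hx hts (Subgroup.mem_centralizer_singleton_iff.1 htT).symm
  have hCP : Subgroup.centralizer ((P : Subgroup (S2 F)) : Set (S2 F)) = T :=
    Subgroup.eq_of_le_of_card_ge (hCt ▸ Subgroup.centralizer_le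
      (Set.singleton_subset_iff.2 (hPt (Subgroup.mem_zpowers t)))) (by rw [hm, (hP P).1])
  have hNP : Subgroup.normalizer ((P : Subgroup (S2 F)) : Set (S2 F)) =
      Subgroup.normalizer (T : Set (S2 F)) := by
    refine Subgroup.eq_of_le_of_card_ge (fun n hn => ?_) (by
      rw [hTdef, card_normalizer h2 hx hd hw, hm, (hP P).2])
    refine CfsgLib.SL2Char.mem_normalizer_of_conj_mem fun y hy => ?_
    rw [← hCP, Subgroup.mem_centralizer_iff] at hy ⊢
    intro u hu
    have hu' : n⁻¹ * u * n ∈ (P : Subgroup (S2 F)) := by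
      refine (Subgroup.mem_normalizer_iff.1 hn _).2 ?_
      rwa [show n * (n⁻¹ * u * n) * n⁻¹ = u by group]
    calc u * (n * y * n⁻¹) = n * ((n⁻¹ * u * n) * y) * n⁻¹ := by group
      _ = n * (y * (n⁻¹ * u * n)) * n⁻¹ := by rw [hy _ hu']
      _ = n * y * n⁻¹ * u := by group
  obtain ⟨g, hg⟩ := MulAction.exists_smul_eq (S2 F) P S
  have hNS : Subgroup.normalizer ((S : Subgroup (S2 F)) : Set (S2 F)) =
      (Subgroup.normalizer (T : Set (S2 F))).map (MulAut.conj g).toMonoidHom := by
    rw [← hNP, ← hg, Sylow.coe_subgroup_smul, Subgroup.map_equiv_normalizer_eq]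
    rfl
  set N := Subgroup.normalizer (T : Set (S2 F))
  let e : N ≃* Subgroup.normalizer ((S : Subgroup (S2 F)) : Set (S2 F)) :=
    (N.equivMapOfInjective (MulAut.conj g).toMonoidHom (MulAut.conj g).injective).trans
      (MulEquiv.subgroupCongr hNS.symm)
  set A := ((T.subgroupOf N).map e.toMonoidHom) with hA
  have hTn : (T.subgroupOf N).Normal := Subgroup.normal_in_normalizer
  have hAn : A.Normal := hTn.map _ e.surjective
  have hidx : A.index = 2 := by
    rw [hA, Subgroup.index_map_of_bijective e.bijective]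
    have h := (T.subgroupOf N).index_mul_card
    rw [card_normalizer h2 hx hd hw,
      Nat.card_congr (Subgroup.subgroupOfEquivOfLe Subgroup.le_normalizer).toEquiv] at h
    exact Nat.eq_of_mul_eq_mul_right Nat.card_pos h
  rw [card_degree_eq_conjClasses A (fun a ha b hb => ?_)
    (by rw [hidx]; exact fun h => hℓ ((Nat.prime_dvd_prime_iff_eq Fact.out Nat.prime_two).1 h)),
    ← card_degree_congr e, card_conjClasses_normalizer h2 hx hd hw, hm]
  obtain ⟨a', ha', rfl⟩ := Subgroup.mem_map.1 ha
  obtain ⟨b', hb', rfl⟩ := Subgroup.mem_map.1 hb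
  rw [← map_mul, ← map_mul]
  refine congrArg _ (Subtype.ext ?_)
  exact commute_of_commute hx (Subgroup.mem_centralizer_singleton_iff.1 ha').symm
    (Subgroup.mem_centralizer_singleton_iff.1 hb').symm

/-- The normaliser of a Sylow 2-subgroup has four characters of odd degree. -/
theorem local_two (hodd : Odd (Fintype.card F)) (S : Sylow 2 (S2 F)) :
    Nat.card {ψ : IrrCharacter (Subgroup.normalizer ((S : Subgroup (S2 F)) : Set (S2 F))) //
        ¬ 2 ∣ charDegree (ψ : Subgroup.normalizer ((S : Subgroup (S2 F)) : Set (S2 F)) → ℂ)} = 4 := by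
  classical
  have h2 := two_ne_zero_of_odd hodd
  obtain ⟨hC, h17, h35⟩ := Cfsg.Agent.S2431.result hodd S
  obtain ⟨t, s, htS, hsS, htn, htd, hst, h4, hcard, h8, hq4, hmem⟩ := sylow_two_data hodd S
  set N := Subgroup.normalizer ((S : Subgroup (S2 F)) : Set (S2 F)) with hN
  have hSN : (S : Subgroup (S2 F)) ≤ N := Subgroup.le_normalizer
  set A := (S : Subgroup (S2 F)).subgroupOf N with hA
  let t' : N := ⟨t, hSN htS⟩
  let s' : N := ⟨s, hSN hsS⟩
  have hcomm : t'⁻¹ * t'⁻¹ ∈ commutator N := by
    have e : ⁅s', t'⁆ = t'⁻¹ * t'⁻¹ := by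
      refine Subtype.ext ?_
      simp only [commutatorElement_def, Subgroup.coe_mul, InvMemClass.coe_inv, t', s']
      rw [hst]
    rw [← e]
    exact Subgroup.commutator_mem_commutator (Subgroup.mem_top _) (Subgroup.mem_top _)
  have hq : Fintype.card F % 8 = 1 ∨ Fintype.card F % 8 = 7 ∨
      Fintype.card F % 8 = 3 ∨ Fintype.card F % 8 = 5 := by
    rw [Nat.odd_iff] at hodd
    omega
  rcases (or_assoc.2 hq) with hq | hq
  · have hNS : N = S := h17 hq
    rw [card_odd_degree_two_group (hNS.symm ▸ S.isPGroup' : IsPGroup 2 N)]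
    set K : Subgroup N := Subgroup.zpowers (t' * t') with hK
    have hconj : ∀ y : N, y * (t' * t') * y⁻¹ ∈ K := by
      intro y
      have hyS : (y : S2 F) ∈ S := hNS.le y.2
      rcases hmem _ hyS with h | ⟨-, h, -⟩
      · have : y * (t' * t') * y⁻¹ = t' * t' := by
          obtain ⟨i, hi⟩ := h
          have hy : y = t' ^ i := Subtype.ext (by simp [t', ← hi])
          have hcm : Commute (t' ^ i) (t' * t') :=
            ((Commute.refl t').mul_right (Commute.refl t')).zpow_left i
          rw [hy, hcm.eq, mul_inv_cancel_right]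
        rw [this]; exact Subgroup.mem_zpowers _
      · have : y * (t' * t') * y⁻¹ = (t' * t')⁻¹ := by
          have e : y * t' * y⁻¹ = t'⁻¹ := Subtype.ext (by simpa [t'] using h)
          rw [mul_inv_rev, ← e]; group
        rw [this]; exact Subgroup.inv_mem _ (Subgroup.mem_zpowers _)
    have hKn : K.Normal := ⟨fun n hn g => by
      obtain ⟨i, rfl⟩ := Subgroup.mem_zpowers_iff.1 hn
      rw [show g * (t' * t') ^ i * g⁻¹ = MulAut.conj g ((t' * t') ^ i) from rfl, map_zpow]
      exact K.zpow_mem (hconj g) i⟩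
    have hKc : K ≤ commutator N := by
      rw [hK, Subgroup.zpowers_le]
      simpa [mul_inv_rev] using (commutator N).inv_mem hcomm
    have hcardK : 2 * Nat.card K = orderOf t := by
      rw [hK, Nat.card_zpowers, ← pow_two, orderOf_pow, Subgroup.orderOf_mk,
        Nat.gcd_eq_right ((dvd_mul_right 2 2).trans h4)]
      exact Nat.mul_div_cancel' ((dvd_mul_right 2 2).trans h4)
    have hidx : K.index = 4 := by
      have h := K.index_mul_card
      have hn : Nat.card N = 2 * orderOf t := by rw [← hcard, hNS]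
      rw [hn, ← hcardK] at h
      exact Nat.eq_of_mul_eq_mul_right Nat.card_pos (h.trans (by ring))
    refine le_antisymm ?_ ?_
    · exact hidx ▸ Nat.le_of_dvd (by omega) (Subgroup.index_dvd_of_le hKc)
    · rw [← hidx]
      refine Nat.le_of_dvd (Nat.pos_of_ne_zero Subgroup.index_ne_zero_of_finite)
        (Subgroup.index_dvd_of_le ?_)
      have : IsMulCommutative (N ⧸ K) :=
        IsPGroup.isMulCommutative_of_card_eq_prime_sq (p := 2)
          (by rw [← Subgroup.index_eq_card, hidx]; norm_num)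
      rw [commutator_def, Subgroup.commutator_le]
      intro a _ b _
      rw [← QuotientGroup.eq_one_iff]
      change QuotientGroup.mk' K ⁅a, b⁆ = 1
      rw [map_commutatorElement, commutatorElement_eq_one_iff_mul_comm]
      exact mul_comm' _ _
  · have ht4 : orderOf t = 4 := hq4 hq
    have hN24 : Nat.card N = 24 := by rw [hN, h35 hq, hcard, ht4]
    have hneg1 : (-1 : S2 F) * -1 = 1 := by simp
    have htt : t * t = -1 := by
      refine CfsgLib.Classical.Two.eq_neg_one_of_orderOf_two h2 ?_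
      rw [← pow_two, orderOf_pow, ht4]; rfl
    let z : N := t' * t'
    have hz : (z : S2 F) = -1 := htt
    have hzc : ∀ g : N, g * z = z * g := fun g => Subtype.ext (by
      simp only [Subgroup.coe_mul, hz]; exact commute_neg_one _)
    have hz2 : z * z = 1 := Subtype.ext (by simp only [Subgroup.coe_mul, hz, hneg1]; rfl)
    have hzC : z ∈ commutator N := by
      simpa [z, mul_inv_rev] using (commutator N).inv_mem hcomm
    set Z := Subgroup.zpowers z with hZ
    have hZn : Z.Normal := ⟨fun n hn g => by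
      obtain ⟨i, rfl⟩ := Subgroup.mem_zpowers_iff.1 hn
      have hh : Commute g (z ^ i) := Commute.zpow_right (hzc g) i
      rw [hh.eq, mul_inv_cancel_right]
      exact hn⟩
    have hzne : z ≠ 1 := fun h => by
      have h' : t * t = 1 := congrArg Subtype.val h
      have := Nat.le_of_dvd two_pos (ht4 ▸ orderOf_dvd_of_pow_eq_one (by rw [pow_two, h']))
      omega
    have hZcard : Nat.card Z = 2 := by
      rw [hZ, Nat.card_zpowers]
      exact orderOf_eq_prime (by rw [pow_two, hz2]) hzne
    have h12 : Nat.card (N ⧸ Z) = 12 := by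
      have h := Z.index_mul_card
      rw [hN24, hZcard] at h
      rw [← Subgroup.index_eq_card]
      omega
    set A' := A.map (QuotientGroup.mk' Z) with hA'
    have hAn : A.Normal := Subgroup.normal_in_normalizer
    have hAn' : A'.Normal := hAn.map _ (QuotientGroup.mk'_surjective Z)
    have hidx : A'.index = 3 := by
      have hle : Z ≤ A := by
        rw [hZ, Subgroup.zpowers_le]
        exact mul_mem (show t' ∈ A from htS) htS
      rw [hA', Subgroup.index_map_eq _ (QuotientGroup.mk'_surjective Z) (by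
        rw [QuotientGroup.ker_mk']; exact hle)]
      have h := A.index_mul_card
      rw [hN24, Nat.card_congr (Subgroup.subgroupOfEquivOfLe hSN).toEquiv, hcard, ht4] at h
      omega
    have hAab : ∀ a ∈ A', ∀ b ∈ A', a * b = b * a := by
      have hc4 : Nat.card A' = 2 ^ 2 := by
        have h := A'.index_mul_card
        rw [hidx, h12] at h
        omega
      have : IsMulCommutative A' := IsPGroup.isMulCommutative_of_card_eq_prime_sq (p := 2) hc4
      intro a ha b hb
      exact congrArg Subtype.val (mul_comm' (⟨a, ha⟩ : A') ⟨b, hb⟩)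
    have hodd' : ∀ ψ : IrrCharacter N, ¬ 2 ∣ charDegree (ψ : N → ℂ) ↔
        ∀ g ∈ Z, (ψ : N → ℂ) g = (ψ : N → ℂ) 1 := by
      intro ψ
      constructor
      · intro h g hg
        obtain ⟨i, rfl⟩ := (Subgroup.mem_zpowers_iff).1 hg
        have hi : z ^ i = 1 ∨ z ^ i = z := by
          rcases Int.even_or_odd i with ⟨j, rfl⟩ | ⟨j, rfl⟩
          · left; rw [← two_mul, zpow_mul, zpow_two, hz2, one_zpow]
          · right; rw [zpow_add, zpow_one, zpow_mul, zpow_two, hz2, one_zpow, one_mul]
        rcases hi with e | e <;> rw [e]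
        exact apply_eq_of_odd hzc hz2 hzC h
      · intro h
        obtain ⟨φ, rfl⟩ := CfsgLib.CharDegree.exists_infl Z ψ h
        rw [CfsgLib.CharDegree.charDegree_infl]
        intro hd
        have := hd.trans (CfsgLib.TwoDegrees.degree_dvd_index φ A' hAab)
        rw [hidx] at this
        norm_num at this
    rw [Nat.card_congr (Equiv.subtypeEquivRight hodd'),
      ← Nat.card_congr (CfsgLib.CharDegree.inflEquiv Z)]
    have := Fintype.ofFinite (IrrCharacter (N ⧸ Z))
    have hd13 : ∀ φ : IrrCharacter (N ⧸ Z),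
        charDegree (φ : N ⧸ Z → ℂ) = 1 ∨ charDegree (φ : N ⧸ Z → ℂ) = 3 := fun φ =>
      (Nat.dvd_prime Nat.prime_three).1 (hidx ▸ CfsgLib.TwoDegrees.degree_dvd_index φ A' hAab)
    have hsum : ∑ φ : IrrCharacter (N ⧸ Z), charDegree (φ : N ⧸ Z → ℂ) ^ 2 = 12 := by
      have h := CfsgLib.Char.sum_sq_degree (G := N ⧸ Z)
      simp only [CfsgLib.Blocks.apply_one_eq_charDegree, h12] at h
      exact_mod_cast h
    have hone := CfsgLib.CharDegree.card_linear (G := N ⧸ Z)
    rw [Nat.card_eq_fintype_card, Fintype.card_subtype] at hone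
    rw [Nat.card_eq_fintype_card, ← Finset.card_univ,
      ← Finset.card_filter_add_card_filter_not
        (fun φ : IrrCharacter (N ⧸ Z) => charDegree (φ : N ⧸ Z → ℂ) = 1)]
    rw [← Finset.sum_filter_add_sum_filter_not _
      (fun φ : IrrCharacter (N ⧸ Z) => charDegree (φ : N ⧸ Z → ℂ) = 1)] at hsum
    have hA1 : ∑ φ ∈ Finset.univ.filter (fun φ : IrrCharacter (N ⧸ Z) => charDegree (φ : N ⧸ Z → ℂ) = 1),
        charDegree (φ : N ⧸ Z → ℂ) ^ 2 = (commutator (N ⧸ Z)).index := by
      rw [← hone, Finset.card_eq_sum_ones]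
      exact Finset.sum_congr rfl fun φ hφ => by rw [(Finset.mem_filter.1 hφ).2, one_pow]
    have hA3 : ∑ φ ∈ Finset.univ.filter (fun φ : IrrCharacter (N ⧸ Z) => ¬ charDegree (φ : N ⧸ Z → ℂ) = 1),
        charDegree (φ : N ⧸ Z → ℂ) ^ 2 =
        (Finset.univ.filter fun φ : IrrCharacter (N ⧸ Z) => ¬ charDegree (φ : N ⧸ Z → ℂ) = 1).card * 9 := by
      rw [← smul_eq_mul, ← Finset.sum_const]
      exact Finset.sum_congr rfl fun φ hφ => by
        rw [(hd13 φ).resolve_left (Finset.mem_filter.1 hφ).2]; norm_num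
    rw [hA1, hA3] at hsum
    rw [hone]
    have hne : commutator (N ⧸ Z) ≠ ⊥ := by
      intro hbot
      have hab : ∀ a b : N, ⁅a, b⁆ ∈ Z := fun a b => by
        have h := Subgroup.commutator_mem_commutator (Subgroup.mem_top (QuotientGroup.mk' Z a))
          (Subgroup.mem_top (QuotientGroup.mk' Z b))
        rw [← commutator_def, hbot, Subgroup.mem_bot, ← map_commutatorElement] at h
        exact (QuotientGroup.eq_one_iff _).1 h
      obtain ⟨n, hn⟩ := exists_prime_orderOf_dvd_card' (G := N) 3 (by rw [hN24]; norm_num)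
      have hcen : ∀ u : N, Commute n u := by
        intro u
        obtain ⟨i, hi⟩ := Subgroup.mem_zpowers_iff.1 (hab n u)
        have e : n * u * n⁻¹ = z ^ i * u := by rw [hi]; simp [commutatorElement_def]
        have hcz : Commute n (z ^ i) := Commute.zpow_right (hzc n) i
        have e3 : n ^ 3 * u * (n ^ 3)⁻¹ = z ^ i * z ^ i * z ^ i * u := by
          calc n ^ 3 * u * (n ^ 3)⁻¹ = n * (n * (n * u * n⁻¹) * n⁻¹) * n⁻¹ := by
                rw [show n ^ 3 = n * n * n by rw [pow_succ, pow_two]]; group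
            _ = n * (n * z ^ i * u * n⁻¹) * n⁻¹ := by rw [e]; group
            _ = n * (z ^ i * (n * u * n⁻¹)) * n⁻¹ := by rw [hcz.eq]; group
            _ = n * (z ^ i * z ^ i) * u * n⁻¹ := by rw [e]; group
            _ = z ^ i * z ^ i * (n * u * n⁻¹) := by
                rw [(hcz.mul_right hcz).eq]; group
            _ = _ := by rw [e]; group
        rw [show n ^ 3 = 1 from hn ▸ pow_orderOf_eq_one n] at e3
        have hzi : z ^ i * z ^ i = 1 := by rw [← (Commute.refl z).mul_zpow, hz2, one_zpow]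
        rw [hzi, one_mul, one_mul, inv_one, mul_one] at e3
        rw [← e3] at e
        exact mul_inv_eq_iff_eq_mul.1 e
      have hnC : (n : S2 F) ∈ Subgroup.centralizer ((S : Subgroup (S2 F)) : Set (S2 F)) := by
        rw [Subgroup.mem_centralizer_iff]
        intro u hu
        exact (congrArg Subtype.val (hcen ⟨u, hSN hu⟩).eq).symm
      rw [hC] at hnC
      have h3 : orderOf (n : S2 F) = 3 := by rw [Subgroup.orderOf_coe, hn]
      rcases eq_one_or_neg_one_of_mem_center hnC with h | h
      · rw [h, orderOf_one] at h3; omega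
      · rw [h] at h3
        have := orderOf_dvd_of_pow_eq_one (CfsgLib.PLocal.SLTwo.neg_one_sq (K := F))
        rw [h3] at this
        norm_num at this
    have hlt : (commutator (N ⧸ Z)).index < 12 := by
      have h := (commutator (N ⧸ Z)).index_mul_card
      rw [h12] at h
      have h1 : 1 < Nat.card (commutator (N ⧸ Z)) := Subgroup.one_lt_card_iff_ne_bot _ |>.2 hne
      nlinarith [Nat.pos_of_ne_zero (Subgroup.index_ne_zero_of_finite (H := commutator (N ⧸ Z)))]
    have hdvd : (commutator (N ⧸ Z)).index ∣ 12 := h12 ▸ Subgroup.index_dvd_card _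
    omega

end CfsgLib.McKaySLTwo
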