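import Cfsg.Agent.Lib.Known.SL2Char.CuspidalInner
import Cfsg.Agent.Lib.PLocal.SLTwo.Dickson

/-!
# The principal and cuspidal series of `SL₂`
-/

namespace CfsgLib.SL2Char

open Matrix CfsgLib.Char CfsgLib.PLocal.SLTwo
open scoped ComplexConjugate

variable {F : Type*} [Field F]

/-- An element commuting with a subgroup element scales an induced function. -/
theorem indFun_central_mul {G : Type*} [Group G] [Fintype G] {H : Subgroup G} {f : H → ℂ} {z : G}
    {c : ℂ} (hz : ∀ y : G, y * z = z * y) (hzH : z ∈ H) (hf : ∀ h : H, f (⟨z, hzH⟩ * h) = c * f h)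
    (g : G) : Cfsg.indFun H f (z * g) = c * Cfsg.indFun H f g := by
  have hconj : ∀ y : G, y⁻¹ * (z * g) * y = z * (y⁻¹ * g * y) := fun y => by
    rw [← mul_assoc, hz, mul_assoc, mul_assoc, mul_assoc]
  simp only [Cfsg.indFun, hconj, Finset.mul_sum]
  refine Finset.sum_congr rfl fun y _ => ?_
  by_cases h : y⁻¹ * g * y ∈ H
  · rw [extendByZero_of_mem _ _ h, extendByZero_of_mem _ _ (H.mul_mem hzH h)]
    have hf' := hf ⟨_, h⟩
    rw [show (⟨z, hzH⟩ * ⟨_, h⟩ : H) = ⟨z * (y⁻¹ * g * y), H.mul_mem hzH h⟩ from rfl] at hf'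
    rw [hf']
    ring
  · rw [extendByZero_of_notMem _ _ h, extendByZero_of_notMem _ _ fun h' => h (by
      simpa using H.mul_mem (H.inv_mem hzH) h')]
    ring

variable [Fintype F] [DecidableEq F] [Fintype (S2 F)]

/-- The principal series. -/
noncomputable def prSL (α : MulChar F ℂ) : S2 F → ℂ :=
  Cfsg.indFun ((Cfsg.upperTriangularGL 2 F).comap Matrix.SpecialLinearGroup.toGL)
    fun b => α (MSL (b : S2 F) 0 0)

/-- The Steinberg character. -/
noncomputable def stSL : S2 F → ℂ := prSL 1 - 1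

theorem prSL_upper (α : MulChar F ℂ) {g : S2 F} (hg : g.1 1 0 = 0) :
    prSL α g = α (g.1 0 0) + if g.1 0 0 = g.1 1 1 then
      (if g.1 0 1 = 0 then (Fintype.card F : ℂ) * α (g.1 0 0) else 0) else α (g.1 1 1) :=
  indFun_apply_upper MSL mem_upperSL MSL_repSL (fun a _ => α a) hg

theorem prSL_elliptic (α : MulChar F ℂ) {g : S2 F} (hg : Elliptic g.1) : prSL α g = 0 :=
  indFun_apply_irreducible MSL mem_upperSL MSL_repSL (fun a _ => α a) hg

theorem prSL_one (α : MulChar F ℂ) : prSL α 1 = (Fintype.card F : ℂ) + 1 := by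
  rw [prSL_upper α (by simp)]
  simp [add_comm]

theorem prSL_U (α : MulChar F ℂ) {t : F} (ht : t ≠ 0) : prSL α (U t) = 1 := by
  rw [prSL_upper α (by simp)]
  simp [ht]

omit [Fintype F] [DecidableEq F] [Fintype (S2 F)] in
theorem neg_one_mul_eq (g : S2 F) : (-1 : S2 F) * g = -g := by rw [neg_mul, one_mul]

theorem prSL_neg (α : MulChar F ℂ) (g : S2 F) : prSL α (-g) = α (-1) * prSL α g := by
  rw [← neg_one_mul_eq]
  refine indFun_central_mul (fun y => commute_neg_one y) ((mem_upperSL _).2 (by simp)) (fun h => ?_) g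
  have h10 : (h : S2 F).1 1 0 = 0 := (mem_upperSL _).1 h.2
  simp only [MSL_apply, Subgroup.coe_mul, m00, h10, mul_zero, add_zero]
  rw [map_mul]
  simp

open scoped _root_.Classical in
theorem prSL_inner (α β : MulChar F ℂ) :
    Cfsg.classInner (prSL α) (prSL β) = (if α = β then 1 else 0) + (if α = β⁻¹ then 1 else 0) := by
  have := Fintype.ofFinite (G2 F)
  refine (classInner_principalSL α β).trans ?_
  congr 1 <;> exact if_congr Iff.rfl rfl rfl

theorem isCharacter_prSL (α : MulChar F ℂ) : Cfsg.IsCharacter (S2 F) (prSL α) :=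
  isCharacter_indFun _ (isCharacter_borelSL α)

open scoped _root_.Classical in
theorem classInner_prSL_one (α : MulChar F ℂ) :
    Cfsg.classInner (prSL α) (1 : S2 F → ℂ) = if α = 1 then 1 else 0 := by
  classical
  have := Fintype.ofFinite ((Cfsg.upperTriangularGL 2 F).comap
    (Matrix.SpecialLinearGroup.toGL : S2 F →* G2 F))
  rw [prSL, frobenius_reciprocity _ _ (show Cfsg.IsClassFunction (S2 F) (1 : S2 F → ℂ) from IsIrr.isClassFunction isIrrCharacter_one), Cfsg.classInner,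
    Nat.card_eq_fintype_card, Fintype.card_congr borelSL, ← borelSL.symm.sum_comp,
    Fintype.sum_prod_type, Fintype.card_prod]
  simp only [(borelSL_symm _ _).1, Pi.one_apply, map_one, mul_one, Finset.sum_const, Finset.card_univ,
    nsmul_eq_mul, ← Finset.mul_sum]
  have e : ∑ a : Fˣ, α (a : F) = if α = 1 then (Fintype.card Fˣ : ℂ) else 0 := by
    have h := sum_units_mul_conj α 1
    simp only [MulChar.one_apply_coe, map_one, mul_one] at h
    convert h using 2
  rw [e]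
  have : (Fintype.card Fˣ : ℂ) ≠ 0 := Nat.cast_ne_zero.2 Fintype.card_ne_zero
  have : (Fintype.card F : ℂ) ≠ 0 := Nat.cast_ne_zero.2 Fintype.card_ne_zero
  push_cast
  split_ifs <;> field_simp <;> ring

theorem stSL_one : stSL (1 : S2 F) = (Fintype.card F : ℂ) := by simp [stSL, prSL_one]

theorem isIrr_stSL : Cfsg.IsIrrCharacter (S2 F) (stSL : S2 F → ℂ) := by
  classical
  refine IsGen.isIrr_of_norm_one (IsGen.sub (IsGen.of_isCharacter (isCharacter_prSL 1)) IsGen.one) ?_ ?_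
  · have h1 := classInner_prSL_one (1 : MulChar F ℂ)
    have h2 : Cfsg.classInner (1 : S2 F → ℂ) (prSL 1) = 1 := by
      rw [← classInner_conj_symm, h1, if_pos rfl, map_one]
    have h3 : Cfsg.classInner (1 : S2 F → ℂ) (1 : S2 F → ℂ) = 1 :=
      classInner_irr_self (trivChar (S2 F))
    show Cfsg.classInner (prSL 1 - 1 : S2 F → ℂ) (prSL 1 - 1) = 1
    rw [classInner_sub_left, classInner_sub_right, classInner_sub_right, h1, h2, h3, prSL_inner,
      inv_one, if_pos rfl]
    ring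
  · show 0 < (stSL (1 : S2 F)).re
    rw [stSL_one, Complex.natCast_re]
    exact_mod_cast Fintype.card_pos

/-- Conjugation by `diag (1, ν)` fixes the principal series. -/
theorem prSL_scale (α : MulChar F ℂ) {ν : F} (hν : ν ≠ 0) (g : S2 F) :
    prSL α (scale ν hν g) = prSL α g := by
  have h00 : (scale ν hν g).1 0 0 = g.1 0 0 := rfl
  have h01 : (scale ν hν g).1 0 1 = g.1 0 1 * ν := rfl
  have h10 : (scale ν hν g).1 1 0 = g.1 1 0 / ν := rfl
  have h11 : (scale ν hν g).1 1 1 = g.1 1 1 := rfl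
  have key : ∀ x : S2 F, prSL α x = (if x.1 1 0 = 0 then α (x.1 0 0) else 0) +
      ∑ c : F, if x.1 1 0 * c * c + (x.1 1 1 - x.1 0 0) * c - x.1 0 1 = 0
        then α (x.1 1 0 * c + x.1 1 1) else 0 := fun x =>
    indFun_apply MSL mem_upperSL MSL_repSL (fun a _ => α a) x
  rw [key, key]
  congr 1
  · simp only [h00, h10]
    exact if_congr (by simp [hν]) rfl rfl
  · refine Fintype.sum_equiv (Equiv.mulRight₀ ν⁻¹ (inv_ne_zero hν)) _ _ fun c => ?_
    simp only [Equiv.mulRight₀_apply, h00, h01, h10, h11]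
    refine if_congr ?_ (congrArg α (by field_simp)) rfl
    constructor
    · intro h
      field_simp at h ⊢
      linear_combination h
    · intro h
      field_simp at h ⊢
      linear_combination h

/-! ### The cuspidal series -/

section Cusp

variable {g₀ : G2 F} (hg₀ : Elliptic (g₀ : Matrix (Fin 2) (Fin 2) F))
  [Fintype (Orbits (⊥ : Subgroup Fˣ))]

/-- The cuspidal characters of `SL₂`. -/
noncomputable abbrev cuspSL (ψ : AddChar F ℂ)
    (θ : torus (Matrix.SpecialLinearGroup.toGL : S2 F →* G2 F) g₀ →* ℂˣ) : S2 F → ℂ :=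
  emb_SL.cusp ψ θ

omit [Fintype F] [DecidableEq F] [Fintype (S2 F)] [Fintype (Orbits (⊥ : Subgroup Fˣ))] in
theorem mem_zs_bot {a : Fˣ} : a ∈ zs (⊥ : Subgroup Fˣ) ↔ a = 1 ∨ a = -1 := by
  rw [mem_zs, Subgroup.mem_bot, Units.ext_iff, Units.ext_iff, Units.ext_iff]
  push_cast
  exact mul_self_eq_one_iff

omit [Fintype F] [DecidableEq F] [Fintype (S2 F)] [Fintype (Orbits (⊥ : Subgroup Fˣ))] in
theorem elliptic_or_root {g : S2 F} (hd : tr g ^ 2 ≠ 4) :
    Elliptic g.1 ∨ ∃ a d : F, a ≠ d ∧ g.1.trace = a + d ∧ g.1.det = a * d := by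
  by_cases h : Elliptic g.1
  · exact Or.inl h
  · right
    rw [elliptic_iff] at h
    push Not at h
    obtain ⟨a, ha⟩ := h
    rw [g.2] at ha
    have ha0 : a ≠ 0 := fun e => by rw [e] at ha; simp at ha
    have htr : g.1.trace = a + a⁻¹ := by field_simp; linear_combination -ha
    refine ⟨a, a⁻¹, fun e => hd ?_, htr, by rw [g.2, mul_inv_cancel₀ ha0]⟩
    have e2 : a * a = 1 := by nth_rewrite 2 [e]; exact mul_inv_cancel₀ ha0
    rw [tr_eq_trace, htr, ← e]
    linear_combination 4 * e2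

omit [Fintype F] [DecidableEq F] [Fintype (S2 F)] [Fintype (Orbits (⊥ : Subgroup Fˣ))] in
/-- A nonscalar element with trace `±2` is conjugate to `±U t`. -/
theorem exists_conj_signed_U {g : S2 F} (hg : NonScalar g) (hd : tr g ^ 2 = 4) :
    ∃ (h : S2 F) (a : Fˣ) (t : F), (a = 1 ∨ a = -1) ∧ t ≠ 0 ∧ tr g = 2 * (a : F) ∧
      ((h * g * h⁻¹).1 = (a : F) • (U t).1) := by
  have h1 : (tr g - 2) * (tr g + 2) = 0 := by linear_combination hd
  rcases mul_eq_zero.1 h1 with e | e
  · obtain ⟨h, t, ht⟩ := exists_conj_U (sub_eq_zero.1 e)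
    refine ⟨h, 1, t, Or.inl rfl, fun h0 => ?_, by simp [sub_eq_zero.1 e], by rw [ht]; simp⟩
    rw [h0, U_zero] at ht
    exact not_nonScalar_one (conj_eq_one_iff.1 ht ▸ hg)
  · have hn : tr (-g) = 2 := by
      simp only [tr, neg_entry] at e ⊢
      linear_combination -e
    obtain ⟨h, t, ht⟩ := exists_conj_U hn
    refine ⟨h, -1, t, Or.inr rfl, fun h0 => ?_, by push_cast; linear_combination e, ?_⟩
    · rw [h0, U_zero] at ht
      have hg1 : g = -1 := neg_eq_iff_eq_neg.1 (conj_eq_one_iff.1 ht)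
      exact not_nonScalar_neg_one (hg1 ▸ hg)
    · rw [← ht]
      ext i j
      simp [mul_neg, neg_mul]

include hg₀

variable {ψ : AddChar F ℂ} (hψ : ψ ≠ 1) (θ : torus (Matrix.SpecialLinearGroup.toGL : S2 F →* G2 F) g₀ →* ℂˣ)

include hψ

theorem cuspSL_U {t : F} (ht : t ≠ 0) : cuspSL ψ θ (U t) = -1 := by
  classical
  have := Fintype.ofFinite (diags (⊥ : Subgroup Fˣ))
  have hu : (U t) ∈ zu (Matrix.SpecialLinearGroup.toGL : S2 F →* G2 F) := emb_SL.mem_zu.2 (by simp)
  have hA : emb_SL.zuA ⟨_, hu⟩ = 1 := Subtype.ext (Units.ext (by simp [Emb.zuA_apply]))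
  rw [cuspSL, emb_SL.cusp_unipotent hg₀ θ hψ ⟨_, hu⟩ (by simp [Emb.zuT, ht]), hA, map_one, map_one,
    Units.val_one]

/-- On nonscalar elements a cuspidal character depends only on the trace. -/
theorem cuspSL_eq_of_tr {g h : S2 F} (hg : NonScalar g) (hh : NonScalar h) (ht : tr g = tr h) :
    cuspSL ψ θ g = cuspSL ψ θ h := by
  classical
  have := Fintype.ofFinite (diags (⊥ : Subgroup Fˣ))
  have hcl := IsGen.isClassFunction (emb_SL.isGen_cusp ψ θ (g₀ := g₀))
  have hconj : ∀ y x : S2 F, cuspSL ψ θ (y * x * y⁻¹) = cuspSL ψ θ x := fun y x => hcl x y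
  by_cases hd : tr g ^ 2 = 4
  · have key : ∀ x : S2 F, NonScalar x → tr x ^ 2 = 4 → ∃ a : zs (⊥ : Subgroup Fˣ),
        tr x = 2 * ((a : Fˣ) : F) ∧
          cuspSL ψ θ x = -(θ (emb_SL.scalarC g₀ a) : ℂ) := by
      intro x hx hxd
      obtain ⟨y, a, t, ha, ht0, htr, hyx⟩ := exists_conj_signed_U hx hxd
      refine ⟨⟨a, mem_zs_bot.2 ha⟩, htr, ?_⟩
      have hm : y * x * y⁻¹ ∈ zu (Matrix.SpecialLinearGroup.toGL : S2 F →* G2 F) :=
        emb_SL.mem_zu.2 (by
          show (y * x * y⁻¹).1 1 0 = 0 ∧ (y * x * y⁻¹).1 0 0 = (y * x * y⁻¹).1 1 1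
          rw [hyx]; simp)
      have hA : emb_SL.zuA ⟨_, hm⟩ = ⟨a, mem_zs_bot.2 ha⟩ := Subtype.ext (Units.ext (by
        rw [emb_SL.zuA_apply]
        show (y * x * y⁻¹).1 0 0 = (a : F)
        rw [hyx]; simp))
      have hT : emb_SL.zuT ⟨_, hm⟩ ≠ 0 := by
        show (y * x * y⁻¹).1 0 1 / (y * x * y⁻¹).1 0 0 ≠ 0
        rw [hyx]; simp [ht0]
      rw [← hconj y x, cuspSL, emb_SL.cusp_unipotent hg₀ θ hψ ⟨_, hm⟩ hT, hA]
    obtain ⟨a, ha, ea⟩ := key g hg hd
    obtain ⟨b, hb, eb⟩ := key h hh (ht ▸ hd)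
    rw [ea, eb]
    have hab : a = b := by
      refine Subtype.ext (Units.ext ?_)
      rw [ht, hb] at ha
      rcases eq_or_ne (2 : F) 0 with h2 | h2
      · rcases mem_zs_bot.1 a.2 with e | e <;> rcases mem_zs_bot.1 b.2 with e' | e' <;>
          rw [e, e'] <;> push_cast <;> first | rfl | linear_combination h2 | linear_combination -h2
      · exact (mul_left_cancel₀ h2 ha).symm
    rw [hab]
  · rcases elliptic_or_root hd with he | ⟨a, d, had, htr, hdet⟩
    · obtain ⟨y, hy⟩ := exists_conj_SL he ht.symm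
      rw [← hy, hconj]
    · rw [cuspSL, emb_SL.cusp_split hg₀ ψ θ had htr hdet, emb_SL.cusp_split hg₀ ψ θ had
        (by show h.1.trace = _; rw [← tr_eq_trace, ← ht, tr_eq_trace, htr])
        (by show h.1.det = _; rw [h.2, ← g.2, hdet])]

theorem cuspSL_scale {ν : F} (hν : ν ≠ 0) (g : S2 F) :
    cuspSL ψ θ (scale ν hν g) = cuspSL ψ θ g := by
  by_cases hg : NonScalar g
  · refine cuspSL_eq_of_tr hg₀ hψ θ (fun h => hg ?_) hg rfl
    obtain ⟨h1, h2, h3⟩ := h
    exact ⟨(mul_eq_zero.1 (show g.1 0 1 * ν = 0 from h1)).resolve_right hν,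
      (div_eq_zero_iff.1 (show g.1 1 0 / ν = 0 from h2)).resolve_right hν, h3⟩
  · congr 1
    rcases scalar_cases hg with rfl | rfl
    · exact map_one _
    · show scaleFun ν hν (-1) = -1
      refine ext2 ?_ ?_ ?_ ?_ <;> simp

end Cusp

end CfsgLib.SL2Char
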