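import Cfsg.Agent.Lib.Known.SL2Char.SLSeries
import Cfsg.Agent.Lib.Known.SL2Char.Families

/-!
# The regular part of the character table of `SL₂`

The trivial character, the Steinberg character and the two series in general position.
-/

namespace CfsgLib.SL2Char

open Matrix CfsgLib.Char CfsgLib.PLocal.SLTwo
open scoped ComplexConjugate

variable {F : Type*} [Field F] [Fintype F] [DecidableEq F] [Fintype (S2 F)]

/-- The number of square roots of one. -/
noncomputable def eps (F : Type*) [Field F] : ℕ := Nat.card (zs (⊥ : Subgroup Fˣ))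

omit [DecidableEq F] [Fintype (S2 F)] in
theorem eps_eq_gcd : eps F = (Fintype.card F - 1).gcd 2 := by
  classical
  rw [eps, show (zs (⊥ : Subgroup Fˣ)) = (powMonoidHom 2 : Fˣ →* Fˣ).ker from rfl,
    IsCyclic.card_powMonoidHom_ker, Nat.card_units, Nat.card_eq_fintype_card]

omit [DecidableEq F] [Fintype (S2 F)] in
theorem eps_odd (h : Odd (Fintype.card F)) : eps F = 2 := by
  obtain ⟨m, hm⟩ := h
  rw [eps_eq_gcd, hm, Nat.add_sub_cancel]
  exact Nat.gcd_eq_right (dvd_mul_right 2 m)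

omit [DecidableEq F] [Fintype (S2 F)] in
theorem eps_even (h : Even (Fintype.card F)) : eps F = 1 := by
  obtain ⟨m, hm⟩ := h
  have : 0 < Fintype.card F := Fintype.card_pos
  obtain ⟨j, rfl⟩ : ∃ j, m = j + 1 := ⟨m - 1, by omega⟩
  rw [eps_eq_gcd, hm, show j + 1 + (j + 1) - 1 = 2 * j + 1 by omega, Nat.gcd_comm, Nat.gcd_rec,
    Nat.mul_add_mod]
  rfl

omit [DecidableEq F] [Fintype (S2 F)] in
theorem gcd_succ_pred : (Fintype.card F + 1).gcd (Fintype.card F - 1) = eps F := by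
  have : 0 < Fintype.card F := Fintype.card_pos
  rw [eps_eq_gcd, show Fintype.card F + 1 = 2 + (Fintype.card F - 1) by omega,
    Nat.gcd_add_self_left, Nat.gcd_comm]

omit [DecidableEq F] in
theorem card_sqrt_mulChar : Nat.card {α : MulChar F ℂ // α = α⁻¹} = eps F := by
  classical
  obtain ⟨e⟩ := MulChar.mulEquiv_units F ℂ
  refine Nat.card_congr (e.toEquiv.subtypeEquiv fun α => ?_)
  rw [mem_zs, Subgroup.mem_bot]
  show α = α⁻¹ ↔ e α * e α = 1
  rw [← map_mul, eq_inv_iff_mul_eq_one, map_eq_one_iff e e.injective]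

section Cusp

variable {g₀ : G2 F} (hg₀ : Elliptic (g₀ : Matrix (Fin 2) (Fin 2) F)) {ψ : AddChar F ℂ} (hψ : ψ ≠ 1)
  [Fintype (Orbits (⊥ : Subgroup Fˣ))]

include hg₀

omit [DecidableEq F] [Fintype (S2 F)] [Fintype (Orbits (⊥ : Subgroup Fˣ))] in
theorem isCyclic_torusSL : IsCyclic (torus (Matrix.SpecialLinearGroup.toGL : S2 F →* G2 F) g₀) := by
  have := isCyclic_centralizer hg₀
  exact isCyclic_of_injective
    ((Matrix.SpecialLinearGroup.toGL.comp (torus (Matrix.SpecialLinearGroup.toGL : S2 F →* G2 F) g₀).subtype).codRestrict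
      (Subgroup.centralizer ({g₀} : Set (G2 F))) fun x => x.2)
    fun x y h => Subtype.ext (Matrix.SpecialLinearGroup.toGL_injective (congrArg Subtype.val h))

omit [DecidableEq F] [Fintype (S2 F)] [Fintype (Orbits (⊥ : Subgroup Fˣ))] in
theorem card_torusSL :
    Nat.card (torus (Matrix.SpecialLinearGroup.toGL : S2 F →* G2 F) g₀) = Fintype.card F + 1 :=
  card_centralizer_comap hg₀

include hψ

theorem cuspSL_eq_iff {θ θ' : torus (Matrix.SpecialLinearGroup.toGL : S2 F →* G2 F) g₀ →* ℂˣ}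
    (hθ : θ ≠ θ ^ Fintype.card F) :
    cuspSL ψ θ' = cuspSL ψ θ ↔ θ' = θ ∨ θ' = θ ^ Fintype.card F := by
  classical
  have := Fintype.ofFinite (diags (⊥ : Subgroup Fˣ))
  constructor
  · intro e
    by_contra hn
    push Not at hn
    have h1 := emb_SL.classInner_cusp hg₀ hψ θ' θ
    rw [if_neg hn.1, if_neg hn.2, add_zero] at h1
    change Cfsg.classInner (cuspSL ψ θ') (cuspSL ψ θ) = 0 at h1
    rw [e] at h1
    have h2 : Cfsg.classInner (cuspSL ψ θ) (cuspSL ψ θ) = 1 :=
      classInner_irr_self (⟨_, emb_SL.isIrr_cusp hg₀ hψ θ hθ⟩ : Cfsg.IrrCharacter (S2 F))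
    exact one_ne_zero (h2.symm.trans h1)
  · rintro (rfl | rfl)
    · rfl
    · have hpp := emb_SL.hom_pow_pow hg₀ θ
      have hne : θ ^ Fintype.card F ≠ (θ ^ Fintype.card F) ^ Fintype.card F := by
        rw [hpp]; exact Ne.symm hθ
      refine eq_of_classInner_eq_self
        (classInner_irr_self (⟨_, emb_SL.isIrr_cusp hg₀ hψ _ hne⟩ : Cfsg.IrrCharacter (S2 F)))
        (classInner_irr_self (⟨_, emb_SL.isIrr_cusp hg₀ hψ θ hθ⟩ : Cfsg.IrrCharacter (S2 F))) ?_
      rw [emb_SL.classInner_cusp hg₀ hψ, if_neg (Ne.symm hθ), if_pos rfl, zero_add]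

open scoped _root_.Classical in
/-- The two series in general position. -/
theorem mainSL :
    ∃ P C : Finset (S2 F → ℂ),
      (∀ f, f ∈ P ↔ ∃ α : MulChar F ℂ, α ≠ α⁻¹ ∧ f = prSL α) ∧
      (∀ f, f ∈ C ↔ ∃ θ, θ ≠ θ ^ Fintype.card F ∧ f = cuspSL (g₀ := g₀) ψ θ) ∧
      (∀ f ∈ P, Cfsg.IsIrrCharacter (S2 F) f ∧ f 1 = (Fintype.card F : ℂ) + 1) ∧
      (∀ f ∈ C, Cfsg.IsIrrCharacter (S2 F) f ∧ f 1 = (Fintype.card F : ℂ) - 1) ∧
      2 * P.card + eps F + 1 = Fintype.card F ∧ 2 * C.card + eps F = Fintype.card F + 1 ∧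
      Disjoint ({(1 : S2 F → ℂ), stSL} ∪ P) C ∧ Disjoint {(1 : S2 F → ℂ), stSL} P ∧
      (1 : S2 F → ℂ) ≠ stSL := by
  have := Fintype.ofFinite (diags (⊥ : Subgroup Fˣ))
  have := Fintype.ofFinite (MulChar F ℂ)
  have := isCyclic_torusSL hg₀
  have hcard := card_torusSL hg₀
  have : Finite (torus (Matrix.SpecialLinearGroup.toGL : S2 F →* G2 F) g₀ →* ℂˣ) :=
    Nat.finite_of_card_ne_zero (by rw [card_hom_units]; exact Nat.card_pos.ne')
  have := Fintype.ofFinite (torus (Matrix.SpecialLinearGroup.toGL : S2 F →* G2 F) g₀ →* ℂˣ)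
  set q := Fintype.card F with hqdef
  have hq : 1 < q := Fintype.one_lt_card
  set A := Finset.univ.filter fun α : MulChar F ℂ => α ≠ α⁻¹ with hA
  set Θ := Finset.univ.filter fun θ : torus (Matrix.SpecialLinearGroup.toGL : S2 F →* G2 F) g₀ →* ℂˣ =>
    θ ≠ θ ^ q with hΘ
  have hPirr : ∀ α ∈ A, Cfsg.IsIrrCharacter (S2 F) (prSL α) := fun α hα => by
    simp only [hA, Finset.mem_filter, Finset.mem_univ, true_and] at hα
    refine IsChar.isIrr_of_classInner_eq_one (isCharacter_prSL α) ?_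
    rw [prSL_inner, if_pos rfl, if_neg hα, add_zero]
  refine ⟨A.image prSL, Θ.image (cuspSL ψ), fun f => ?_, fun f => ?_, fun f hf => ?_, fun f hf => ?_,
    ?_, ?_, ?_, ?_, ?_⟩
  · simp [hA, eq_comm]
  · simp [hΘ, eq_comm]
  · obtain ⟨α, hα, rfl⟩ := Finset.mem_image.1 hf
    exact ⟨hPirr α hα, prSL_one α⟩
  · obtain ⟨θ, hθ, rfl⟩ := Finset.mem_image.1 hf
    simp only [hΘ, Finset.mem_filter, Finset.mem_univ, true_and] at hθ
    exact ⟨emb_SL.isIrr_cusp hg₀ hψ θ hθ, emb_SL.cusp_one hg₀ ψ θ⟩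
  · rw [two_mul_card_image (σ := fun α => α⁻¹)]
    · have h1 := Finset.card_filter_add_card_filter_not (s := (Finset.univ : Finset (MulChar F ℂ)))
        (fun α => α ≠ α⁻¹)
      have h2 : (Finset.univ.filter fun α : MulChar F ℂ => ¬α ≠ α⁻¹).card = eps F := by
        rw [← Fintype.card_subtype, ← Nat.card_eq_fintype_card,
          Nat.card_congr (Equiv.subtypeEquivRight fun α => not_not), card_sqrt_mulChar]
      rw [h2, Finset.card_univ, ← Nat.card_eq_fintype_card,
        MulChar.card_eq_card_units_of_hasEnoughRootsOfUnity, Nat.card_units,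
        Nat.card_eq_fintype_card, ← hA, ← hqdef] at h1
      omega
    · intro α hα
      simp only [hA, Finset.mem_filter, Finset.mem_univ, true_and, inv_inv] at hα ⊢
      exact Ne.symm hα
    · intro α hα
      simp only [hA, Finset.mem_filter, Finset.mem_univ, true_and] at hα
      exact Ne.symm hα
    · intro α hα β _
      have hirr := hPirr α hα
      simp only [hA, Finset.mem_filter, Finset.mem_univ, true_and] at hα
      constructor
      · intro e
        by_contra hn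
        push Not at hn
        have h1 := prSL_inner β α
        rw [if_neg hn.1, if_neg hn.2, e, add_zero] at h1
        exact one_ne_zero ((classInner_irr_self (⟨_, hirr⟩ : Cfsg.IrrCharacter (S2 F))).symm.trans h1)
      · rintro (rfl | rfl)
        · rfl
        · refine eq_of_classInner_eq_self (c := 1) ?_
            (classInner_irr_self (⟨_, hirr⟩ : Cfsg.IrrCharacter (S2 F))) ?_
          · rw [prSL_inner, if_pos rfl, inv_inv, if_neg (Ne.symm hα), add_zero]
          · rw [prSL_inner, if_neg (Ne.symm hα), if_pos rfl, zero_add]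
  · rw [two_mul_card_image (σ := fun θ => θ ^ q)]
    · have h1 := Finset.card_filter_add_card_filter_not (s := (Finset.univ :
        Finset (torus (Matrix.SpecialLinearGroup.toGL : S2 F →* G2 F) g₀ →* ℂˣ))) (fun θ => θ ≠ θ ^ q)
      have h2 : (Finset.univ.filter fun θ : torus (Matrix.SpecialLinearGroup.toGL : S2 F →* G2 F) g₀ →* ℂˣ =>
          ¬θ ≠ θ ^ q).card = eps F := by
        rw [← Fintype.card_subtype, ← Nat.card_eq_fintype_card,
          Nat.card_congr (Equiv.subtypeEquivRight fun θ => not_not),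
          card_hom_pow_eq (torus (Matrix.SpecialLinearGroup.toGL : S2 F →* G2 F) g₀) hq.le, hcard,
          gcd_succ_pred]
      rw [h2, Finset.card_univ, ← Nat.card_eq_fintype_card, card_hom_units, hcard, ← hΘ] at h1
      exact h1
    · intro θ hθ
      simp only [hΘ, Finset.mem_filter, Finset.mem_univ, true_and] at hθ ⊢
      rw [emb_SL.hom_pow_pow hg₀]
      exact Ne.symm hθ
    · intro θ hθ
      simp only [hΘ, Finset.mem_filter, Finset.mem_univ, true_and] at hθ
      exact Ne.symm hθ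
    · intro θ hθ θ' _
      simp only [hΘ, Finset.mem_filter, Finset.mem_univ, true_and] at hθ
      exact cuspSL_eq_iff hg₀ hψ hθ
  · refine Finset.disjoint_left.2 fun f hf hf' => ?_
    obtain ⟨θ, -, rfl⟩ := Finset.mem_image.1 hf'
    have hu := cuspSL_U hg₀ hψ θ (one_ne_zero : (1 : F) ≠ 0)
    simp only [Finset.mem_union, Finset.mem_insert, Finset.mem_singleton] at hf
    rcases hf with (e | e) | h
    · rw [e, Pi.one_apply] at hu; norm_num at hu
    · rw [e, stSL, Pi.sub_apply, prSL_U 1 one_ne_zero, Pi.one_apply] at hu; norm_num at hu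
    · obtain ⟨α, -, e⟩ := Finset.mem_image.1 h
      rw [← e, prSL_U α one_ne_zero] at hu
      norm_num at hu
  · refine Finset.disjoint_left.2 fun f hf hf' => ?_
    obtain ⟨α, -, rfl⟩ := Finset.mem_image.1 hf'
    have hu := prSL_one α
    simp only [Finset.mem_insert, Finset.mem_singleton] at hf
    rcases hf with e | e
    · rw [e, Pi.one_apply] at hu
      exact Nat.cast_ne_zero.2 Fintype.card_ne_zero (add_eq_right.1 hu.symm)
    · rw [e, stSL_one] at hu
      exact one_ne_zero (add_eq_left.1 hu.symm)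
  · intro e
    have := congrFun e 1
    rw [stSL_one, Pi.one_apply] at this
    have hne : (q : ℂ) ≠ 1 := by exact_mod_cast hq.ne'
    exact hne this.symm

omit hψ in
theorem sum_sq_main {P C : Finset (S2 F → ℂ)} [DecidableEq (S2 F → ℂ)]
    (hP : ∀ f ∈ P, Cfsg.IsIrrCharacter (S2 F) f ∧ f 1 = (Fintype.card F : ℂ) + 1)
    (hC : ∀ f ∈ C, Cfsg.IsIrrCharacter (S2 F) f ∧ f 1 = (Fintype.card F : ℂ) - 1)
    (cP : 2 * P.card + eps F + 1 = Fintype.card F) (cC : 2 * C.card + eps F = Fintype.card F + 1)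
    (d1 : Disjoint ({(1 : S2 F → ℂ), stSL} ∪ P) C) (d2 : Disjoint {(1 : S2 F → ℂ), stSL} P)
    (d3 : (1 : S2 F → ℂ) ≠ stSL) :
    ∑ f ∈ {(1 : S2 F → ℂ), stSL} ∪ P ∪ C, f 1 ^ 2 =
      (Nat.card (S2 F) : ℂ) - ((eps F : ℂ) - 1) * ((Fintype.card F : ℂ) ^ 2 + 1) := by
  have eP : ∑ f ∈ P, f 1 ^ 2 = ∑ f ∈ P, ((Fintype.card F : ℂ) + 1) ^ 2 :=
    Finset.sum_congr rfl fun f h => by rw [(hP f h).2]
  have eC : ∑ f ∈ C, f 1 ^ 2 = ∑ f ∈ C, ((Fintype.card F : ℂ) - 1) ^ 2 :=
    Finset.sum_congr rfl fun f h => by rw [(hC f h).2]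
  have e1 : ((2 * P.card + eps F + 1 : ℕ) : ℂ) = (Fintype.card F : ℂ) := by rw [cP]
  have e2 : ((2 * C.card + eps F : ℕ) : ℂ) = ((Fintype.card F + 1 : ℕ) : ℂ) := by rw [cC]
  push_cast at e1 e2
  rw [Finset.sum_union d1, Finset.sum_union d2, Finset.sum_pair d3, eP, eC, Finset.sum_const,
    Finset.sum_const, Pi.one_apply, stSL_one, CfsgLib.Classical.Two.card_SL_two, nsmul_eq_mul,
    nsmul_eq_mul, Nat.cast_mul, Nat.cast_sub (Nat.one_le_pow _ _ Fintype.card_pos)]
  push_cast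
  linear_combination ((Fintype.card F : ℂ) + 1) ^ 2 / 2 * e1 + ((Fintype.card F : ℂ) - 1) ^ 2 / 2 * e2

end Cusp

end CfsgLib.SL2Char
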