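import Cfsg.Agent.Lib.Known.SL2Char.HalvesU

/-!
# The character table of `SL₂` over a field of odd order

`Half w σ X f` collects what is known about a constituent `f` of the member `X` of norm two of the
principal (`w = 1`) or cuspidal (`w = -1`) series.
-/

namespace CfsgLib.SL2Char

open Matrix CfsgLib.Char CfsgLib.PLocal.SLTwo
open scoped ComplexConjugate

variable {F : Type*} [Field F] [Fintype F] [DecidableEq F] [Fintype (S2 F)]

/-- A half of `X`. -/
structure Half (ψ : AddChar F ℂ) (w : ℤ) (σ : ℂ) (X f : S2 F → ℂ) : Prop where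
  irr : Cfsg.IsIrrCharacter (S2 F) f
  deg : 2 * f 1 = (Fintype.card F : ℂ) + w
  neg : ∀ g, f (-g) = σ * f g
  ss : ∀ g : S2 F, tr g ^ 2 ≠ 4 → 2 * f g = X g
  unip : ∃ ε : ℂ, (ε = 1 ∨ ε = -1) ∧
    ∀ t, t ≠ 0 → 2 * f (U t) = w + ε * qcC F t * gaussSum (qcC F) ψ

omit [Fintype F] [DecidableEq F] [Fintype (S2 F)] in
theorem tr_scale {ν : F} (hν : ν ≠ 0) (g : S2 F) : tr (scale ν hν g) = tr g := rfl

omit [Fintype F] [DecidableEq F] [Fintype (S2 F)] in
/-- Semisimple regular elements of `SL₂` are classified by their trace. -/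
theorem isConj_of_tr_eq [Finite F] {g h : S2 F} (hd : tr g ^ 2 ≠ 4) (ht : tr h = tr g) :
    IsConj g h := by
  classical
  have := Fintype.ofFinite F
  rcases elliptic_or_root hd with he | ⟨a, d, had, htr, hdet⟩
  · exact isConj_iff.2 (exists_conj_SL he ht)
  · have had1 : a * d = 1 := by rw [← hdet]; exact g.2
    have ha0 : a ≠ 0 := left_ne_zero_of_mul_eq_one had1
    have key : ∀ x : S2 F, tr x = a + d → IsConj x (diagS (Units.mk0 a ha0)) := by
      intro x hx
      have hupper : ∃ y : S2 F, (y⁻¹ * x * y).1 1 0 = 0 := by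
        by_cases h10 : x.1 1 0 = 0
        · exact ⟨1, by simpa using h10⟩
        · refine ⟨repSL (some ((a - x.1 1 1) / x.1 1 0)), ?_⟩
          have e := map_conj_some MSL MSL_repSL x ((a - x.1 1 1) / x.1 1 0)
          simp only [MSL_apply] at e
          rw [e]
          simp only [Matrix.cons_val', Matrix.cons_val_zero, Matrix.cons_val_one,
            Matrix.cons_val_fin_one, Matrix.of_apply]
          have hdx := det2 x
          simp only [tr] at hx
          field_simp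
          linear_combination hdx - a * hx - had1
      obtain ⟨y, hy⟩ := hupper
      refine (isConj_iff.2 ⟨y⁻¹, by rw [inv_inv]⟩ : IsConj x (y⁻¹ * x * y)).trans ?_
      set z := y⁻¹ * x * y with hz
      have htz : tr z = a + d := by rw [← hx, hz]; simpa using tr_conj x y⁻¹
      have hdz := det2 z
      rw [hy, mul_zero, sub_zero] at hdz
      simp only [tr] at htz
      have hcase : (z.1 0 0 - a) * (z.1 0 0 - d) = 0 := by
        linear_combination z.1 0 0 * htz - hdz + had1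
      rcases mul_eq_zero.1 hcase with e | e
      · have e00 : z.1 0 0 = a := sub_eq_zero.1 e
        have e11 : z.1 1 1 = d := by linear_combination htz - e00
        refine isConj_iff.2 ⟨U (z.1 0 1 / (a - d)) , ext2 ?_ ?_ ?_ ?_⟩ <;>
          simp [m00, m01, m10, m11, U_inv, e00, e11, hy]
        · have : a - d ≠ 0 := sub_ne_zero.2 had
          field_simp
          ring
        · exact (eq_inv_of_mul_eq_one_right had1)
      · have e00 : z.1 0 0 = d := sub_eq_zero.1 e
        have e11 : z.1 1 1 = a := by linear_combination htz - e00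
        have hne : d - a ≠ 0 := sub_ne_zero.2 had.symm
        refine (isConj_iff.2 ⟨weylS * U (z.1 0 1 / (d - a)), ext2 ?_ ?_ ?_ ?_⟩) <;>
          simp [m00, m01, m10, m11, i00, i01, i10, i11, U_inv, e00, e11, hy]
        · field_simp
          ring
        · exact (eq_inv_of_mul_eq_one_right had1)
    have hg : tr g = a + d := by rw [tr_eq_trace, htr]
    exact (key g hg).trans (key h (ht.trans hg)).symm

section Cusp

variable {g₀ : G2 F} (hg₀ : Elliptic (g₀ : Matrix (Fin 2) (Fin 2) F)) {ψ : AddChar F ℂ} (hψ : ψ ≠ 1)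
  [Fintype (Orbits (⊥ : Subgroup Fˣ))]

omit [Fintype (Orbits (⊥ : Subgroup Fˣ))] in
include hψ in
theorem half_pair (hodd : Odd (Fintype.card F)) {w : ℤ} (hw : w = 1 ∨ w = -1) {σ : ℂ}
    (hσ : σ = 1 ∨ σ = -1) {X a b : S2 F → ℂ} (hsum : X = a + b) (hab : a ≠ b)
    (ha : Cfsg.IsIrrCharacter (S2 F) a) (hb : Cfsg.IsIrrCharacter (S2 F) b)
    (hX0 : X 1 = (Fintype.card F : ℂ) + w) (hXu : ∀ t, t ≠ 0 → X (U t) = w) (hdeg : a 1 = b 1)
    (hna : ∀ g, a (-g) = σ * a g) (hnb : ∀ g, b (-g) = σ * b g)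
    (hXσ : ∀ (ν : F) (hν : ν ≠ 0) (g : S2 F), X (scale ν hν g) = X g) :
    Half ψ w σ X a ∧ Half ψ w σ X b ∧ a (U 1) + b (U 1) = w ∧
      ∀ (ν : F) (hν : ν ≠ 0), ¬ IsSquare ν → ∀ g, b (scale ν hν g) = a g ∧ a (scale ν hν g) = b g := by
  classical
  have h2 : ringChar F ≠ 2 := fun h => by
    have := FiniteField.even_card_iff_char_two.1 h
    rw [Nat.odd_iff] at hodd
    omega
  obtain ⟨εa, hεa, hva⟩ := unipotent_values hodd hψ ha hb hsum hw hX0 hXu hdeg hσ hna hnb
  have hvb : ∀ t, t ≠ 0 → 2 * b (U t) = w + -εa * qcC F t * gaussSum (qcC F) ψ := fun t ht => by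
    have e := hXu t ht
    rw [hsum, Pi.add_apply] at e
    linear_combination 2 * e - hva t ht
  have hG := gauss_ne_zero h2 hψ
  have swap : ∀ (ν : F) (hν : ν ≠ 0), ¬ IsSquare ν → ∀ g, a (scale ν hν g) = b g := by
    intro ν hν hns
    let a' : S2 F → ℂ := fun g => a (scale ν hν g)
    let b' : S2 F → ℂ := fun g => b (scale ν hν g)
    have ha' : Cfsg.IsIrrCharacter (S2 F) a' :=
      IsIrr.comp_surjective (scale ν hν).toMonoidHom (scale ν hν).surjective ha
    have hb' : Cfsg.IsIrrCharacter (S2 F) b' :=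
      IsIrr.comp_surjective (scale ν hν).toMonoidHom (scale ν hν).surjective hb
    have hsum' : a' + b' = a + b := by
      rw [← hsum]
      funext g
      show a (scale ν hν g) + b (scale ν hν g) = X g
      rw [← hXσ ν hν g, hsum]
      rfl
    have hne' : a' ≠ b' := fun e => hab (funext fun g => by
      have := congrFun e ((scale ν hν).symm g)
      simpa [a', b'] using this)
    have hmem : a' = a ∨ a' = b := by
      by_contra hn
      push Not at hn
      have e := congrArg (fun f => Cfsg.classInner f a') hsum'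
      simp only [classInner_add_left] at e
      rw [Exceptional.classInner_self_of_irr ha',
        Exceptional.classInner_eq_zero_of_irr hb' ha' (Ne.symm hne'),
        Exceptional.classInner_eq_zero_of_irr ha ha' (Ne.symm hn.1),
        Exceptional.classInner_eq_zero_of_irr hb ha' (Ne.symm hn.2)] at e
      norm_num at e
    rcases hmem with e | e
    · exfalso
      have e1 := hva 1 one_ne_zero
      rw [← congrFun e (U 1)] at e1
      simp only [a', scale_U, one_mul] at e1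
      rw [hva ν hν, qcC_sq_one ν hν, if_neg hns, qcC_sq_one 1 one_ne_zero, if_pos IsSquare.one] at e1
      have : εa * gaussSum (qcC F) ψ = 0 := by linear_combination (-1 / 2 : ℂ) * e1
      rcases mul_eq_zero.1 this with h | h
      · rcases hεa with rfl | rfl <;> norm_num at h
      · exact hG h
    · exact fun g => congrFun e g
  have swap' : ∀ (ν : F) (hν : ν ≠ 0), ¬ IsSquare ν → ∀ g, b (scale ν hν g) = a g := fun ν hν hns g => by
    have e := hXσ ν hν g
    rw [hsum, Pi.add_apply, Pi.add_apply, swap ν hν hns g] at e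
    linear_combination e
  obtain ⟨ν, hν⟩ := FiniteField.exists_nonsquare h2
  have hν0 : ν ≠ 0 := fun e => hν (e ▸ IsSquare.zero)
  have hss : ∀ g : S2 F, tr g ^ 2 ≠ 4 → a g = b g := fun g hd => by
    rw [← swap ν hν0 hν g]
    obtain ⟨y, hy⟩ := isConj_iff.1 (isConj_of_tr_eq hd (tr_scale hν0 g))
    rw [← hy, IsIrr.isClassFunction ha g y]
  have hdX : 2 * a 1 = (Fintype.card F : ℂ) + w := by
    rw [← hX0, hsum, Pi.add_apply, ← hdeg]; ring
  refine ⟨⟨ha, hdX, hna, fun g hd => ?_, εa, hεa, hva⟩,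
    ⟨hb, hdeg ▸ hdX, hnb, fun g hd => ?_, -εa, ?_, hvb⟩, ?_, fun ν hν hns g =>
      ⟨swap' ν hν hns g, swap ν hν hns g⟩⟩
  · rw [hsum, Pi.add_apply, ← hss g hd]; ring
  · rw [hsum, Pi.add_apply, hss g hd]; ring
  · rcases hεa with rfl | rfl <;> norm_num
  · have e := hXu 1 one_ne_zero
    rw [hsum] at e
    exact e

include hg₀ hψ

open scoped _root_.Classical in
/-- The table for odd `q`. -/
theorem tableSLOdd (hodd : Odd (Fintype.card F)) :
    ∃ (θ₀ : torus (Matrix.SpecialLinearGroup.toGL : S2 F →* G2 F) g₀ →* ℂˣ) (a b c d : S2 F → ℂ)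
      (P C : Finset (S2 F → ℂ)),
      θ₀ ≠ 1 ∧ θ₀ = θ₀ ^ Fintype.card F ∧ a ≠ b ∧ c ≠ d ∧
      prSL (qcC F) = a + b ∧ cuspSL ψ θ₀ = c + d ∧
      Half ψ 1 (qcC F (-1)) (prSL (qcC F)) a ∧ Half ψ 1 (qcC F (-1)) (prSL (qcC F)) b ∧
      Half ψ (-1) (-qcC F (-1)) (cuspSL ψ θ₀) c ∧ Half ψ (-1) (-qcC F (-1)) (cuspSL ψ θ₀) d ∧
      a (U 1) + b (U 1) = 1 ∧ c (U 1) + d (U 1) = -1 ∧
      (∀ (ν : F) (hν : ν ≠ 0), ¬ IsSquare ν → ∀ g, b (scale ν hν g) = a g ∧ a (scale ν hν g) = b g) ∧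
      (∀ f, f ∈ P ↔ ∃ α : MulChar F ℂ, α ≠ α⁻¹ ∧ f = prSL α) ∧
      (∀ f, f ∈ C ↔ ∃ θ, θ ≠ θ ^ Fintype.card F ∧ f = cuspSL (g₀ := g₀) ψ θ) ∧
      (∀ f ∈ P, Cfsg.IsIrrCharacter (S2 F) f ∧ f 1 = (Fintype.card F : ℂ) + 1) ∧
      (∀ f ∈ C, Cfsg.IsIrrCharacter (S2 F) f ∧ f 1 = (Fintype.card F : ℂ) - 1) ∧
      2 * P.card + 3 = Fintype.card F ∧ 2 * C.card + 1 = Fintype.card F ∧
      (({(1 : S2 F → ℂ), stSL} ∪ P ∪ C ∪ {a, b, c, d} : Finset (S2 F → ℂ))).card =
        P.card + C.card + 6 ∧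
      ∀ f, Cfsg.IsIrrCharacter (S2 F) f ↔
        f = 1 ∨ f = stSL ∨ f ∈ P ∨ f ∈ C ∨ f = a ∨ f = b ∨ f = c ∨ f = d := by
  have h2 : ringChar F ≠ 2 := fun h => by
    have := FiniteField.even_card_iff_char_two.1 h
    rw [Nat.odd_iff] at hodd
    omega
  have := Fintype.ofFinite (diags (⊥ : Subgroup Fˣ))
  obtain ⟨θ, hθ1, hθ⟩ := exists_theta0 hg₀ hodd
  obtain ⟨hsgn, -⟩ := sign_opposite hg₀ hodd qcC_sq (qcC_ne_one h2) hθ1 hθ
  obtain ⟨a, b, c, d, hab, hcd, hA, hB, hirr, da, db, dc, dd, na, nb, nc, nd, h4, hall⟩ :=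
    halvesSL hg₀ hψ hodd qcC_sq (qcC_ne_one h2) hθ1 hθ
  obtain ⟨P, C, iP, iC, vP, vC, cP, cC, d1, d2, d3⟩ := mainSL hg₀ hψ
  obtain ⟨hdisj, hallf⟩ := hall P C iP iC
  rw [eps_odd hodd] at cP cC
  obtain ⟨ha, hb, sab, hsw⟩ := half_pair hψ hodd (Or.inl rfl) hsgn hA hab (hirr a (by simp))
    (hirr b (by simp)) (by rw [prSL_one]; push_cast; rfl)
    (fun t ht => by rw [prSL_U _ ht]; push_cast; rfl) (da.trans db.symm) na nb
    (fun ν hν g => prSL_scale _ hν g)
  obtain ⟨hc, hd, scd, -⟩ := half_pair hψ hodd (w := -1) (Or.inr rfl) (σ := -qcC F (-1))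
    (hsgn.symm.imp (fun e => by rw [e]; norm_num) (fun e => by rw [e])) hB hcd (hirr c (by simp))
    (hirr d (by simp))
    (by show emb_SL.cusp ψ θ 1 = _; rw [emb_SL.cusp_one hg₀]; push_cast; ring)
    (fun t ht => by rw [cuspSL_U hg₀ hψ θ ht]; push_cast; rfl) (dc.trans dd.symm) nc nd
    (fun ν hν g => cuspSL_scale hg₀ hψ θ hν g)
  refine ⟨θ, a, b, c, d, P, C, hθ1, hθ, hab, hcd, hA, hB, ha, hb, hc, hd, by simpa using sab,
    by simpa using scd, hsw, iP, iC, vP, vC, by omega, by omega, ?_, fun f => ?_⟩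
  · rw [Finset.card_union_of_disjoint hdisj, h4, Finset.card_union_of_disjoint d1,
      Finset.card_union_of_disjoint d2, Finset.card_pair d3]
    ring
  · rw [hallf f]
    simp only [Finset.mem_union, Finset.mem_insert, Finset.mem_singleton, or_assoc]

end Cusp

end CfsgLib.SL2Char
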