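import Cfsg.Agent.Lib.Known.SL2Char.Elliptic
import Cfsg.Agent.Lib.Classical.SL2Structure

/-!
# The tori of `SL₂` and their normalizers
-/

namespace CfsgLib.SL2Char

open Matrix CfsgLib.PLocal.SLTwo

variable {F : Type*} [Field F]

/-- `GL₂` over a field. -/
abbrev G2 (K : Type*) [Field K] := Matrix.GeneralLinearGroup (Fin 2) K

/-! ### Elliptic elements up to conjugacy -/

/-- An elliptic matrix exists. -/
theorem exists_elliptic [Fintype F] : ∃ g : (G2 F), Elliptic (g : Matrix (Fin 2) (Fin 2) F) := by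
  classical
  obtain ⟨r, hr⟩ : ∃ r : F, ∀ c : F, c * c + c ≠ r := by
    by_contra hcon
    push Not at hcon
    have hinj : Function.Injective fun c : F => c * c + c :=
      Finite.injective_iff_surjective.2 fun r => hcon r
    exact neg_ne_zero.2 one_ne_zero (hinj (show (-1 : F) * -1 + -1 = 0 * 0 + 0 by ring))
  have hr0 : r ≠ 0 := fun h => hr 0 (by simp [h])
  refine ⟨Matrix.GeneralLinearGroup.mkOfDetNeZero !![0, r; 1, -1]
    (by simpa [Matrix.det_fin_two_of] using hr0), elliptic_iff.2 fun c h => hr c ?_⟩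
  change c * c - (!![0, r; 1, -1] : Matrix (Fin 2) (Fin 2) F).trace * c +
    (!![0, r; 1, -1] : Matrix (Fin 2) (Fin 2) F).det = 0 at h
  simp [Matrix.trace_fin_two, Matrix.det_fin_two] at h
  linear_combination h

/-- Elliptic matrices with equal trace and determinant are conjugate. -/
theorem exists_conj_GL {g h : (G2 F)} (hg : Elliptic (g : Matrix (Fin 2) (Fin 2) F))
    (ht : (h : Matrix (Fin 2) (Fin 2) F).trace = (g : Matrix (Fin 2) (Fin 2) F).trace)
    (hd : (h : Matrix (Fin 2) (Fin 2) F).det = (g : Matrix (Fin 2) (Fin 2) F).det) :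
    ∃ x : (G2 F), x * g * x⁻¹ = h := by
  have key : ∀ k : (G2 F), Elliptic (k : Matrix (Fin 2) (Fin 2) F) → ∃ P : (G2 F),
      (k : Matrix (Fin 2) (Fin 2) F) * (P : Matrix (Fin 2) (Fin 2) F) = (P : Matrix (Fin 2) (Fin 2) F) *
        !![0, -(k : Matrix (Fin 2) (Fin 2) F).det; 1, (k : Matrix (Fin 2) (Fin 2) F).trace] := by
    intro k hk
    refine ⟨Matrix.GeneralLinearGroup.mkOfDetNeZero
      !![1, (k : Matrix (Fin 2) (Fin 2) F) 0 0; 0, (k : Matrix (Fin 2) (Fin 2) F) 1 0]
      (by simpa [Matrix.det_fin_two_of] using hk.lower_ne_zero), ?_⟩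
    change _ * !![1, (k : Matrix (Fin 2) (Fin 2) F) 0 0; 0, (k : Matrix (Fin 2) (Fin 2) F) 1 0] =
      !![1, (k : Matrix (Fin 2) (Fin 2) F) 0 0; 0, (k : Matrix (Fin 2) (Fin 2) F) 1 0] * _
    ext i j
    fin_cases i <;> fin_cases j <;>
      simp [Matrix.mul_apply, Fin.sum_univ_two, Matrix.det_fin_two, Matrix.trace_fin_two] <;> ring
  obtain ⟨P, hP⟩ := key g hg
  obtain ⟨Q, hQ⟩ := key h (hg.of_trace_det ht hd)
  rw [ht, hd] at hQ
  refine ⟨Q * P⁻¹, ?_⟩
  set C := (!![0, -(g : Matrix (Fin 2) (Fin 2) F).det; 1, (g : Matrix (Fin 2) (Fin 2) F).trace] :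
    Matrix (Fin 2) (Fin 2) F) with hC
  have hP' : (↑P⁻¹ : Matrix (Fin 2) (Fin 2) F) * (g : Matrix (Fin 2) (Fin 2) F) *
      (P : Matrix (Fin 2) (Fin 2) F) = C := by
    rw [mul_assoc, hP, ← mul_assoc, Units.inv_mul, one_mul]
  refine Units.ext ?_
  rw [_root_.mul_inv_rev, inv_inv]
  simp only [Units.val_mul, mul_assoc] at hP' ⊢
  rw [← mul_assoc (g : Matrix (Fin 2) (Fin 2) F), ← mul_assoc (↑P⁻¹ : Matrix (Fin 2) (Fin 2) F),
    hP', ← mul_assoc, ← hQ, mul_assoc, Units.mul_inv, mul_one]

section Surj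

variable [Fintype F] {g : (G2 F)} (hg : Elliptic (g : Matrix (Fin 2) (Fin 2) F))
include hg

theorem det_centralizer_surjective (d : Fˣ) :
    ∃ x ∈ Subgroup.centralizer ({g} : Set (G2 F)), (x : Matrix (Fin 2) (Fin 2) F).det = d := by
  classical
  obtain ⟨μ, hμ, hμd⟩ := exists_embedding hg
  have := isCyclic_centralizer hg
  obtain ⟨z, hz⟩ := IsCyclic.exists_ofOrder_eq_natCard (α := Subgroup.centralizer ({g} : Set (G2 F)))
  rw [card_centralizer hg] at hz
  let δ : Subgroup.centralizer ({g} : Set (G2 F)) →* Fˣ :=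
    Matrix.GeneralLinearGroup.det.comp (Subgroup.centralizer ({g} : Set (G2 F))).subtype
  have hδ : ∀ x, δ x = 1 ↔ x ^ (Fintype.card F + 1) = 1 := fun x => by
    rw [← hμ.eq_iff, map_pow, map_one, ← (hμd x).1, ← map_one (algebraMap F (AlgebraicClosure F)),
      (algebraMap F (AlgebraicClosure F)).injective.eq_iff]
    exact Units.ext_iff
  have hq : Fintype.card F - 1 ≠ 0 := Nat.sub_ne_zero_of_lt Fintype.one_lt_card
  have horder : orderOf (δ z) = Fintype.card F - 1 := by
    refine Nat.dvd_antisymm ?_ ?_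
    · rw [← Nat.card_eq_fintype_card, ← Nat.card_units]
      exact orderOf_dvd_natCard _
    · have h1 : (z ^ orderOf (δ z)) ^ (Fintype.card F + 1) = 1 :=
        (hδ _).1 (by rw [map_pow, pow_orderOf_eq_one])
      rw [← pow_mul, ← orderOf_dvd_iff_pow_eq_one, hz,
        show Fintype.card F ^ 2 - 1 = (Fintype.card F - 1) * (Fintype.card F + 1) by
          rw [Nat.mul_comm, ← Nat.sq_sub_sq, one_pow]] at h1
      exact Nat.dvd_of_mul_dvd_mul_right (Nat.succ_pos _) h1
  have hsurj : Function.Surjective δ := by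
    rw [← MonoidHom.range_eq_top]
    refine top_unique (le_trans (le_of_eq ?_) (Subgroup.zpowers_le.2 ⟨z, rfl⟩ : Subgroup.zpowers (δ z) ≤ δ.range))
    symm
    refine Subgroup.eq_top_of_card_eq _ ?_
    rw [Nat.card_zpowers, horder, Nat.card_units, Nat.card_eq_fintype_card]
  obtain ⟨x, hx⟩ := hsurj d
  exact ⟨x, x.2, congrArg Units.val hx⟩

omit hg in
theorem card_eq_succ_mul : Fintype.card F ^ 2 - 1 = (Fintype.card F + 1) * (Fintype.card F - 1) := by
  rw [← Nat.sq_sub_sq, one_pow]

/-- The norm one part of a nonsplit torus. -/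
theorem card_centralizer_comap :
    Nat.card ((Subgroup.centralizer ({g} : Set (G2 F))).comap
      (Matrix.SpecialLinearGroup.toGL : (S2 F) →* (G2 F))) = Fintype.card F + 1 := by
  classical
  let δ : Subgroup.centralizer ({g} : Set (G2 F)) →* Fˣ :=
    Matrix.GeneralLinearGroup.det.comp (Subgroup.centralizer ({g} : Set (G2 F))).subtype
  have hsurj : Function.Surjective δ := fun d => by
    obtain ⟨x, hx, hd⟩ := det_centralizer_surjective hg d
    exact ⟨⟨x, hx⟩, Units.ext hd⟩
  have h1 := δ.ker.index_mul_card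
  rw [Subgroup.index_ker, MonoidHom.range_eq_top.2 hsurj, Subgroup.card_top, Nat.card_units,
    Nat.card_eq_fintype_card, card_centralizer hg, card_eq_succ_mul, mul_comm] at h1
  refine Eq.trans (Nat.card_congr ?_) (Nat.eq_of_mul_eq_mul_right
    (Nat.sub_pos_of_lt Fintype.one_lt_card) h1)
  exact {
    toFun := fun y => ⟨⟨Matrix.SpecialLinearGroup.toGL y.1, y.2⟩, Units.ext y.1.2⟩
    invFun := fun x => ⟨⟨((x.1 : (G2 F)) : Matrix (Fin 2) (Fin 2) F), congrArg Units.val (MonoidHom.mem_ker.1 x.2)⟩, by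
      have e : Matrix.SpecialLinearGroup.toGL (⟨((x.1 : (G2 F)) : Matrix (Fin 2) (Fin 2) F),
          congrArg Units.val (MonoidHom.mem_ker.1 x.2)⟩ : (S2 F)) = (x.1 : (G2 F)) := Units.ext rfl
      show Matrix.SpecialLinearGroup.toGL (⟨_, _⟩ : (S2 F)) ∈ Subgroup.centralizer _
      rw [e]
      exact x.1.2⟩
    left_inv := fun y => Subtype.ext (Subtype.ext rfl)
    right_inv := fun x => Subtype.ext (Subtype.ext (Units.ext rfl)) }

end Surj

theorem tr_eq_trace (x : (S2 F)) : tr x = (x : Matrix (Fin 2) (Fin 2) F).trace :=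
  (Matrix.trace_fin_two _).symm

theorem nonScalar_of_elliptic {x : (S2 F)} (hx : Elliptic (x : Matrix (Fin 2) (Fin 2) F)) : NonScalar x :=
  fun h => hx.upper_ne_zero h.1

theorem tr_sq_ne_of_elliptic {x : (S2 F)} (hx : Elliptic (x : Matrix (Fin 2) (Fin 2) F)) :
    tr x ^ 2 ≠ 4 := by
  intro h
  rw [tr_eq_trace] at h
  have h1 : ((x : Matrix (Fin 2) (Fin 2) F).trace - 2) * ((x : Matrix (Fin 2) (Fin 2) F).trace + 2) = 0 := by
    linear_combination h
  have hd := x.2
  rcases mul_eq_zero.1 h1 with e | e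
  · exact hx.charpoly_ne 1 (by rw [hd]; linear_combination -e)
  · exact hx.charpoly_ne (-1) (by rw [hd]; linear_combination e)

theorem centralizer_toGL (x : (S2 F)) :
    Subgroup.centralizer ({x} : Set (S2 F)) =
      (Subgroup.centralizer ({Matrix.SpecialLinearGroup.toGL x} : Set (G2 F))).comap
        Matrix.SpecialLinearGroup.toGL := by
  ext y
  rw [Subgroup.mem_comap, Subgroup.mem_centralizer_singleton_iff,
    Subgroup.mem_centralizer_singleton_iff, ← map_mul, ← map_mul,
    Matrix.SpecialLinearGroup.toGL_injective.eq_iff]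

theorem card_centralizer_SL [Fintype F] {x : (S2 F)} (hx : Elliptic (x : Matrix (Fin 2) (Fin 2) F)) :
    Nat.card (Subgroup.centralizer ({x} : Set (S2 F))) = Fintype.card F + 1 := by
  rw [centralizer_toGL]
  exact card_centralizer_comap (g := Matrix.SpecialLinearGroup.toGL x) hx

/-- Elliptic elements of `SL₂` with equal traces are conjugate. -/
theorem exists_conj_SL [Fintype F] {x y : (S2 F)} (hx : Elliptic (x : Matrix (Fin 2) (Fin 2) F))
    (ht : tr y = tr x) : ∃ h : (S2 F), h * x * h⁻¹ = y := by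
  obtain ⟨u, hu⟩ := exists_conj_GL (g := Matrix.SpecialLinearGroup.toGL x)
    (h := Matrix.SpecialLinearGroup.toGL y) hx (by rw [tr_eq_trace, tr_eq_trace] at ht; exact ht)
    (y.2.trans x.2.symm)
  obtain ⟨c, hc, hd⟩ := det_centralizer_surjective (g := Matrix.SpecialLinearGroup.toGL x) hx
    (Matrix.GeneralLinearGroup.det u)⁻¹
  have hdet : ((u * c : (G2 F)) : Matrix (Fin 2) (Fin 2) F).det = 1 := by
    rw [Units.val_mul, Matrix.det_mul, hd]
    exact (Matrix.GeneralLinearGroup.det u).mul_inv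
  obtain ⟨z, hz⟩ : ∃ z : S2 F, Matrix.SpecialLinearGroup.toGL z = u * c :=
    ⟨⟨_, hdet⟩, Units.ext rfl⟩
  refine ⟨z, Matrix.SpecialLinearGroup.toGL_injective ?_⟩
  rw [map_mul, map_mul, map_inv, hz, _root_.mul_inv_rev]
  have h1 : c * Matrix.SpecialLinearGroup.toGL x = Matrix.SpecialLinearGroup.toGL x * c :=
    Subgroup.mem_centralizer_singleton_iff.1 hc
  calc u * c * Matrix.SpecialLinearGroup.toGL x * (c⁻¹ * u⁻¹)
      = u * (c * Matrix.SpecialLinearGroup.toGL x * c⁻¹) * u⁻¹ := by group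
    _ = Matrix.SpecialLinearGroup.toGL y := by rw [h1, mul_inv_cancel_right, hu]

theorem centralizer_eq_of_commute {x t : (S2 F)} (hx : NonScalar x) (ht : NonScalar t)
    (h : x * t = t * x) :
    Subgroup.centralizer ({t} : Set (S2 F)) = Subgroup.centralizer ({x} : Set (S2 F)) := by
  ext y
  rw [Subgroup.mem_centralizer_singleton_iff, Subgroup.mem_centralizer_singleton_iff]
  exact ⟨fun hy => (commute_of_commute ht h.symm hy.symm).symm,
    fun hy => (commute_of_commute hx h hy.symm).symm⟩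

theorem centralizer_self {x : (S2 F)} (hx : NonScalar x) :
    Subgroup.centralizer (Subgroup.centralizer ({x} : Set (S2 F)) : Set (S2 F)) =
      Subgroup.centralizer ({x} : Set (S2 F)) := by
  ext y
  rw [Subgroup.mem_centralizer_iff, Subgroup.mem_centralizer_singleton_iff]
  constructor
  · intro h
    exact (h x (Subgroup.mem_centralizer_singleton_iff.2 rfl)).symm
  · intro h t ht
    exact commute_of_commute hx (Subgroup.mem_centralizer_singleton_iff.1 ht).symm h.symm

/-! ### Normalizers -/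

section Normalizer

variable (h2 : (2 : F) ≠ 0) {x : (S2 F)} (hx : NonScalar x) (hd : tr x ^ 2 ≠ 4)
include h2 hx hd

omit h2 hd in
/-- Conjugation inverting `x` inverts its centralizer. -/
theorem conj_eq_inv {n t : (S2 F)} (hn : n * x * n⁻¹ = x⁻¹)
    (ht : t ∈ Subgroup.centralizer ({x} : Set (S2 F))) : n * t * n⁻¹ = t⁻¹ := by
  obtain ⟨a, b, h00, h01, h10, h11⟩ :=
    exists_affine hx (Subgroup.mem_centralizer_singleton_iff.1 ht).symm
  have e : (t : Matrix (Fin 2) (Fin 2) F) = a • (x : Matrix (Fin 2) (Fin 2) F) + b • 1 := by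
    ext i j; fin_cases i <;> fin_cases j <;> simp [h00, h01, h10, h11]
  have e' : ((t⁻¹ : (S2 F)) : Matrix (Fin 2) (Fin 2) F) =
      a • ((x⁻¹ : (S2 F)) : Matrix (Fin 2) (Fin 2) F) + b • 1 := by
    ext i j
    fin_cases i <;> fin_cases j <;>
      simp [Matrix.SpecialLinearGroup.coe_inv, Matrix.adjugate_fin_two, h00, h01, h10, h11]
  refine Subtype.ext ?_
  have hn1 : (n : Matrix (Fin 2) (Fin 2) F) * ((n⁻¹ : (S2 F)) : Matrix (Fin 2) (Fin 2) F) = 1 := by
    rw [← Matrix.SpecialLinearGroup.coe_mul, mul_inv_cancel, Matrix.SpecialLinearGroup.coe_one]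
  rw [e', ← hn, Matrix.SpecialLinearGroup.coe_mul, Matrix.SpecialLinearGroup.coe_mul,
    Matrix.SpecialLinearGroup.coe_mul, Matrix.SpecialLinearGroup.coe_mul, e]
  simp only [mul_add, add_mul, mul_smul_comm, smul_mul_assoc, mul_one, hn1]

theorem mem_normalizer_cases {n : (S2 F)}
    (hn : n ∈ Subgroup.normalizer (Subgroup.centralizer ({x} : Set (S2 F)) : Set (S2 F))) :
    n ∈ Subgroup.centralizer ({x} : Set (S2 F)) ∨
      n * x * n⁻¹ = x⁻¹ := by
  have h1 : n * x * n⁻¹ ∈ Subgroup.centralizer ({x} : Set (S2 F)) :=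
    (Subgroup.mem_normalizer_iff.1 hn x).1 (Subgroup.mem_centralizer_singleton_iff.2 rfl)
  rcases eq_or_eq_inv h2 hx hd (Subgroup.mem_centralizer_singleton_iff.1 h1).symm (tr_conj x n)
    with h | h
  · exact Or.inl (Subgroup.mem_centralizer_singleton_iff.2 (mul_inv_eq_iff_eq_mul.1 h))
  · exact Or.inr h

theorem sq_eq_neg_one {n : (S2 F)}
    (hn : n ∈ Subgroup.normalizer (Subgroup.centralizer ({x} : Set (S2 F)) : Set (S2 F)))
    (hnT : n ∉ Subgroup.centralizer ({x} : Set (S2 F))) : n * n = -1 := by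
  have hinv := (mem_normalizer_cases h2 hx hd hn).resolve_left hnT
  have hsq : n * n ∈ Subgroup.centralizer ({x} : Set (S2 F)) := by
    rw [Subgroup.mem_centralizer_singleton_iff]
    have h' : n * x = x⁻¹ * n := mul_inv_eq_iff_eq_mul.1 hinv
    have h'' : n * x⁻¹ = x * n := by
      rw [← hinv, ← mul_assoc, ← mul_assoc]
      calc n * n * x * n⁻¹ = n * (n * x * n⁻¹) := by group
        _ = n * x⁻¹ := by rw [hinv]
        _ = (n * x * n⁻¹)⁻¹ * n := by group
        _ = x * n := by rw [hinv, inv_inv]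
    rw [mul_assoc, h', ← mul_assoc, h'', mul_assoc]
  have h4 : (n * n) ^ 2 = 1 := by
    have h5 := conj_eq_inv hx hinv hsq
    rw [pow_two]
    nth_rewrite 1 [show n * n = n * (n * n) * n⁻¹ by group]
    rw [h5, inv_mul_cancel]
  rcases (Nat.dvd_prime Nat.prime_two).1 (orderOf_dvd_of_pow_eq_one h4) with h | h
  · exfalso
    rw [orderOf_eq_one_iff] at h
    rcases (Nat.dvd_prime Nat.prime_two).1 (orderOf_dvd_of_pow_eq_one (x := n) (n := 2)
      (by rw [pow_two, h])) with h' | h'
    · exact hnT (by rw [orderOf_eq_one_iff.1 h']; exact one_mem _)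
    · rw [Classical.Two.eq_neg_one_of_orderOf_two h2 h'] at hnT
      exact hnT (Subgroup.mem_centralizer_singleton_iff.2 (by simp))
  · exact Classical.Two.eq_neg_one_of_orderOf_two h2 h

theorem card_normalizer [Finite F] {w : (S2 F)} (hw : w * x * w⁻¹ = x⁻¹) :
    Nat.card (Subgroup.normalizer (Subgroup.centralizer ({x} : Set (S2 F)) : Set (S2 F))) =
      2 * Nat.card (Subgroup.centralizer ({x} : Set (S2 F))) := by
  classical
  have hwN : w ∈ Subgroup.normalizer (Subgroup.centralizer ({x} : Set (S2 F)) : Set (S2 F)) := by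
    refine Subgroup.mem_normalizer_iff.2 fun t => ⟨fun ht => ?_, fun ht => ?_⟩
    · rw [conj_eq_inv hx hw ht]; exact inv_mem ht
    · have hw' : w⁻¹ * x * (w⁻¹)⁻¹ = x⁻¹ := by
        rw [inv_inv]
        calc w⁻¹ * x * w = w⁻¹ * (w * x * w⁻¹)⁻¹ * w := by rw [hw, inv_inv]
          _ = x⁻¹ := by group
      have h := conj_eq_inv hx hw' ht
      rw [show w⁻¹ * (w * t * w⁻¹) * (w⁻¹)⁻¹ = t by group] at h
      rw [h]; exact inv_mem ht
  have hwT : w ∉ Subgroup.centralizer ({x} : Set (S2 F)) := fun h => by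
    rw [Subgroup.mem_centralizer_singleton_iff] at h
    rw [h, mul_inv_cancel_right] at hw
    have hx2 : x * x = 1 := by
      have := mul_inv_cancel x
      rwa [← hw] at this
    rcases (Nat.dvd_prime Nat.prime_two).1 (orderOf_dvd_of_pow_eq_one (x := x) (n := 2)
      (by rw [pow_two, hx2])) with h' | h'
    · exact not_nonScalar_one (orderOf_eq_one_iff.1 h' ▸ hx)
    · exact not_nonScalar_neg_one (Classical.Two.eq_neg_one_of_orderOf_two h2 h' ▸ hx)
  have hle : Subgroup.centralizer ({x} : Set (S2 F)) ≤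
      Subgroup.normalizer (Subgroup.centralizer ({x} : Set (S2 F)) : Set (S2 F)) := Subgroup.le_normalizer
  have hidx : ((Subgroup.centralizer ({x} : Set (S2 F))).subgroupOf
      (Subgroup.normalizer (Subgroup.centralizer ({x} : Set (S2 F)) : Set (S2 F)))).index = 2 := by
    refine Subgroup.index_eq_two_iff.2 ⟨⟨w, hwN⟩, fun b => ?_⟩
    simp only [Subgroup.mem_subgroupOf, Subgroup.coe_mul]
    by_cases hb : (b : (S2 F)) ∈ Subgroup.centralizer ({x} : Set (S2 F))
    · exact Or.inr ⟨hb, fun h => hwT (by simpa using mul_mem (inv_mem hb) h)⟩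
    · refine Or.inl ⟨?_, hb⟩
      have hbi := (mem_normalizer_cases h2 hx hd b.2).resolve_left hb
      rw [Subgroup.mem_centralizer_singleton_iff]
      have e2 : w * x = x⁻¹ * w := mul_inv_eq_iff_eq_mul.1 hw
      have e1 : (b : (S2 F)) * x⁻¹ = x * b := by
        calc (b : (S2 F)) * x⁻¹ = ((b : (S2 F)) * x * (b : (S2 F))⁻¹)⁻¹ * b := by group
          _ = x * b := by rw [hbi, inv_inv]
      calc (b : (S2 F)) * w * x = b * (x⁻¹ * w) := by rw [mul_assoc, e2]
        _ = x * (b * w) := by rw [← mul_assoc, e1, mul_assoc]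
  rw [← (((Subgroup.centralizer ({x} : Set (S2 F))).subgroupOf
      (Subgroup.normalizer (Subgroup.centralizer ({x} : Set (S2 F)) : Set (S2 F))))).index_mul_card, hidx,
    Nat.card_congr (Subgroup.subgroupOfEquivOfLe hle).toEquiv]

end Normalizer

/-- An extension of a cyclic group of even order by an inversion. -/
theorem card_conjClasses_of_inverting {N : Type*} [Group N] [Finite N] (T : Subgroup N)
    (hidx : T.index = 2) [IsCyclic T] (hev : 2 ∣ Nat.card T)
    (hinv : ∀ n ∉ T, ∀ t ∈ T, n * t * n⁻¹ = t⁻¹) :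
    2 * Nat.card (ConjClasses N) = Nat.card T + 6 := by
  classical
  have := Fintype.ofFinite N
  set m := Nat.card T with hm
  have hN : Nat.card N = 2 * m := by rw [← T.index_mul_card, hidx]
  have hsq : Nat.card {t : N // t ∈ T ∧ t * t = 1} = 2 := by
    let _ : CommGroup T := IsCyclic.commGroup
    have h := IsCyclic.card_powMonoidHom_ker (G := T) 2
    rw [Nat.gcd_eq_right hev] at h
    rw [← h]
    exact Nat.card_congr
      { toFun := fun t => ⟨⟨t.1, t.2.1⟩, Subtype.ext (by simp [pow_two, t.2.2])⟩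
        invFun := fun t => ⟨t.1.1, t.1.2, by
          have := congrArg Subtype.val (show t.1 ^ 2 = 1 from t.2)
          simpa [pow_two] using this⟩
        left_inv := fun t => rfl
        right_inv := fun t => rfl }
  have hTcomm : ∀ a ∈ T, ∀ b ∈ T, a * b = b * a := fun a ha b hb => by
    let _ : CommGroup T := IsCyclic.commGroup
    exact congrArg Subtype.val (mul_comm (⟨a, ha⟩ : T) ⟨b, hb⟩)
  have hC : ∀ a : N, Nat.card {b : N // Commute a b} =
      if a ∈ T then (if a * a = 1 then 2 * m else m) else 4 := by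
    intro a
    have hout : ∀ {n t : N}, n ∉ T → t ∈ T → (Commute t n ↔ t * t = 1) := fun {n t} hn ht => by
      refine ⟨fun hc => ?_, fun h2 => ?_⟩
      · have h := hinv n hn t ht
        rw [show n * t = t * n from hc.symm, mul_inv_cancel_right] at h
        nth_rewrite 2 [h]
        exact mul_inv_cancel t
      · have h := hinv n hn t ht
        rw [show t⁻¹ = t from inv_eq_of_mul_eq_one_right h2, mul_inv_eq_iff_eq_mul] at h
        exact h.symm
    split_ifs with ha h2
    · rw [← hN]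
      refine Nat.card_congr (Equiv.subtypeUnivEquiv fun b => ?_)
      by_cases hb : b ∈ T
      · exact hTcomm a ha b hb
      · exact (hout hb ha).2 h2
    · refine Nat.card_congr (Equiv.subtypeEquivRight fun b => ⟨fun hc => ?_, fun hb => hTcomm a ha b hb⟩)
      by_contra hb
      exact h2 ((hout hb ha).1 hc)
    · let S := Subgroup.centralizer ({a} : Set N)
      have hS : ∀ b, b ∈ S ↔ Commute a b := fun b =>
        Subgroup.mem_centralizer_singleton_iff.trans ⟨Eq.symm, Eq.symm⟩
      have h1 : Nat.card ((T.subgroupOf S)) = 2 := by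
        rw [← hsq]
        exact Nat.card_congr
          { toFun := fun t => ⟨t.1.1, t.2, (hout ha t.2).1 ((hS _).1 t.1.2).symm⟩
            invFun := fun t => ⟨⟨t.1, (hS _).2 ((hout ha t.2.1).2 t.2.2).symm⟩, t.2.1⟩
            left_inv := fun t => rfl
            right_inv := fun t => rfl }
      have h3 : (T.subgroupOf S).index = 2 := by
        refine Subgroup.index_eq_two_iff.2 ⟨⟨a, (hS a).2 rfl⟩, fun b => ?_⟩
        simp only [Subgroup.mem_subgroupOf, Subgroup.coe_mul]
        by_cases hb : (b : N) ∈ T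
        · exact Or.inr ⟨hb, fun h => ha (by simpa using mul_mem (inv_mem hb) h)⟩
        · exact Or.inl ⟨(Subgroup.mul_mem_iff_of_index_two hidx).2 ⟨fun h => absurd h hb, fun h => absurd h ha⟩, hb⟩
      rw [← Nat.card_congr (Equiv.subtypeEquivRight hS), ← (T.subgroupOf S).index_mul_card, h1, h3]
  have hcount := card_comm_eq_card_conjClasses_mul_card N
  rw [Nat.card_congr (Equiv.subtypeProdEquivSigmaSubtype fun a b : N => Commute a b), Nat.card_sigma,
    Finset.sum_congr rfl fun a _ => hC a, Finset.sum_ite, Finset.sum_ite, Finset.sum_const,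
    Finset.sum_const, Finset.sum_const, smul_eq_mul, smul_eq_mul, smul_eq_mul, hN] at hcount
  have hTc : (Finset.univ.filter (· ∈ T)).card = m := by
    rw [hm, Nat.card_eq_fintype_card, Fintype.card_subtype]
  have hT1 : ((Finset.univ.filter (· ∈ T)).filter fun a => a * a = 1).card = 2 := by
    rw [← hsq, Nat.card_eq_fintype_card, Fintype.card_subtype, Finset.filter_filter]
  have hT2 := Finset.card_filter_add_card_filter_not (s := Finset.univ.filter (· ∈ T))
    (fun a : N => a * a = 1)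
  have hT3 := Finset.card_filter_add_card_filter_not (s := (Finset.univ : Finset N)) (· ∈ T)
  rw [Finset.card_univ, ← Nat.card_eq_fintype_card, hN, hTc] at hT3
  rw [hTc, hT1] at hT2
  rw [hT1] at hcount
  have e1 : ((Finset.univ.filter (· ∈ T)).filter fun a : N => ¬a * a = 1).card = m - 2 := by omega
  have e2 : (Finset.univ.filter fun a : N => ¬a ∈ T).card = m := by omega
  rw [e1, e2] at hcount
  obtain ⟨j, hj⟩ : ∃ j, m = j + 2 := ⟨m - 2, by omega⟩
  rw [hj, Nat.add_sub_cancel] at hcount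
  refine Nat.eq_of_mul_eq_mul_right (show 0 < m by omega) ?_
  rw [hj]
  linarith

end CfsgLib.SL2Char
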